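import Mathlib
import Cfsg.Agent.R2.T1.Inf.Dia
import Cfsg.Agent.S2158
import Cfsg.Agent.ChevalleyStructure.JacAll
import Cfsg.Agent.Prune
set_option linter.all false
prune_inst 0x7f00000000000000000000000000000000000000000000000000000000000000000000000000000000000000000000000000000000000000000000000000000000000000000000000000000000000000003fffffffffffffffffffffffffffbeffbdffffffff
open scoped Cfsg.Agent.FastGrp

/-!
# Elements fixing the Cartan subalgebra pointwise (helper25)

* `L_Phi` : the action of the torus on the adjoint module;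
* `exists_Phi_of_fix` : if `(2 : K) ≠ 0`, an element of `Gh K` which fixes the Cartan subalgebra pointwise is in the torus.
-/

set_option autoImplicit false
set_option maxRecDepth 100000

namespace Cfsg.Agent.R2.T1.Five

open Cfsg Cfsg.Lie Module Matrix
open Cfsg.Agent.ChevalleyStructure Cfsg.Agent.ChevalleyStructure.Elts Cfsg.Agent.ChevalleyStructure.RootVec
  Cfsg.Agent.ChevalleyStructure.RootVecTab Cfsg.Agent.ChevalleyStructure.CoxeterGeomTypes
open Cfsg.Agent.ChevalleyStructure.StBasic Cfsg.Agent.ChevalleyStructure.StTheta Cfsg.Agent.H129.StCover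
open Cfsg.Agent.ChevalleyStructure.LieAbs Cfsg.Agent.ChevalleyStructure.LieAut Cfsg.Agent.ChevalleyStructure.JacMain
open Cfsg.Agent.ChevalleyStructure.JacAll Cfsg.Agent.ChevalleyStructure.Ring Cfsg.Agent.ChevalleyStructure.Columns
open Cfsg.Agent.KFacts.RgdChevCoord
open Cfsg.Agent.R2.T1

universe u

variable {K : Type u} [Field K]

/-! ### the action of the torus -/

/-- the diagonal matrices of the adjoint module -/
def dgL (K : Type u) [Field K] : (Fin chevE7.rank → Kˣ) →* Matrix chevE7.Idx chevE7.Idx K where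
  toFun a := Matrix.diagonal (Sum.elim (fun _ => (1 : K)) fun s : Fin chevE7.nroots => ((rtv s a : Kˣ) : K))
  map_one' := by
    rw [← Matrix.diagonal_one]
    congr 1
    funext s
    rcases s with s | s
    · rfl
    · simp [rtv]
  map_mul' a b := by
    rw [Matrix.diagonal_mul_diagonal]
    congr 1
    funext s
    rcases s with s | s
    · simp
    · show ((rtv s (a * b) : Kˣ) : K) = ((rtv s a : Kˣ) : K) * ((rtv s b : Kˣ) : K)
      unfold rtv
      rw [← Units.val_mul, ← Finset.prod_mul_distrib]
      congr 1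
      refine Finset.prod_congr rfl fun i _ => ?_
      rw [Pi.mul_apply, mul_zpow]

theorem inl7 : chevE7 ∈ [chevG2, chevB2, chevD4, chevF4, chevE6, chevE7, chevE8] := by simp

theorem dgL_single (j : Fin chevE7.rank) (x : Kˣ) : dgL K (Pi.mulSingle j x) =
    Matrix.diagonal (Sum.elim (fun _ => (1 : K)) fun s : Fin chevE7.nroots => (x : K) ^ chevE7.cartan j s) := by
  show Matrix.diagonal _ = _
  congr 1
  funext s
  rcases s with s | s
  · rfl
  · show ((rtv s (Pi.mulSingle j x) : Kˣ) : K) = (x : K) ^ chevE7.cartan j s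
    unfold rtv
    rw [Finset.prod_eq_single j]
    · rw [Pi.mulSingle_eq_same, Units.val_zpow_eq_zpow_val]
    · intro i _ hij
      rw [Pi.mulSingle_eq_of_ne hij, _root_.one_zpow]
    · intro h
      exact absurd (Finset.mem_univ j) h

/-- the matrix of an element of the torus on the adjoint module -/
theorem ad_Phi (a : Fin chevE7.rank → Kˣ) : (((ad K (Phi K a) : ↥(chevE7.group K)) : GL chevE7.Idx K) :
    Matrix chevE7.Idx chevE7.Idx K) = dgL K a := by
  let f : (Fin chevE7.rank → Kˣ) →* Matrix chevE7.Idx chevE7.Idx K :=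
    (Units.coeHom (Matrix chevE7.Idx chevE7.Idx K)).comp ((chevE7.group K).subtype.comp ((ad K).comp (Phi K)))
  have h : f = dgL K := by
    apply MonoidHom.pi_ext
    intro j x
    rw [dgL_single]
    show (((ad K (Phi K (Pi.mulSingle j x)) : ↥(chevE7.group K)) : GL chevE7.Idx K) :
      Matrix chevE7.Idx chevE7.Idx K) = _
    rw [isPhi.single]
    rw [← Cfsg.Agent.S1033.result (F := K) chevE7 inl7 j j.2 (x : K) x.ne_zero]
    show (((theta Cfsg.Agent.H944.E7Two.e7T.inList K (sth chevE7 (chevE7.simple j) (x : K)) : ↥(chevE7.group K)) :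
      GL chevE7.Idx K) : Matrix chevE7.Idx chevE7.Idx K) = _
    rw [theta_sth (theta Cfsg.Agent.H944.E7Two.e7T.inList K)
      (fun r t _ => StTheta.theta_stGen Cfsg.Agent.H944.E7Two.e7T.inList r t)]
  exact DFunLike.congr_fun h a

theorem L_Phi (a : Fin chevE7.rank → Kˣ) (X : chevE7.Idx → K) (i : chevE7.Idx) :
    L K (Phi K a) X i = Sum.elim (fun _ => (1 : K)) (fun s : Fin chevE7.nroots => ((rtv s a : Kˣ) : K)) i * X i := by
  rw [L_eq, LK_apply, ad_Phi]
  show (Matrix.diagonal _ *ᵥ X) i = _
  rw [Matrix.mulVec_diagonal]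

/-! ### the Cartan integers and the coroots as packed tables (helper40's block) -/

private noncomputable def fsA (a b : Bool) : Bool := Bool.rec false b a

private theorem fsA_true {a b : Bool} (h : fsA a b = true) : a = true ∧ b = true := by
  cases a
  · exact absurd h Bool.false_ne_true
  · exact ⟨rfl, h⟩

private def fsI (v : ℕ) : ℤ := cond (Nat.beq v 0) 0 (Int.subNatNat v 8)

private def fsZ (W T i r : ℕ) : ℤ :=
  fsI (Nat.mod (Nat.shiftRight (Nat.mod (Nat.shiftRight T (Nat.mul W i)) (Nat.pow 2 W)) (Nat.mul 4 r)) 16)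

private noncomputable def fsX (l : List ℤ) : ℕ → Bool :=
  List.rec (fun c => Nat.beq c 0) (fun x _ ih c => fsA (decide (x = fsI (Nat.mod c 16))) (ih (Nat.shiftRight c 4))) l

private noncomputable def fsY (W : ℕ) (L : List (Array ℤ)) : ℕ → Bool :=
  List.rec (fun T => Nat.beq T 0)
    (fun x _ ih T => fsA (fsX x.toList (Nat.mod T (Nat.pow 2 W))) (ih (Nat.shiftRight T W))) L

private theorem fsX_spec : ∀ (l : List ℤ) (c : ℕ), fsX l c = true → ∀ r, l.getD r 0 = fsI (c >>> (4 * r) % 16)
  | [], c, h, r => by
    rw [Nat.eq_of_beq_eq_true h, Nat.zero_shiftRight]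
    rfl
  | x :: l, c, h, 0 => of_decide_eq_true (fsA_true h).1
  | x :: l, c, h, r + 1 => by
    rw [show 4 * (r + 1) = 4 + 4 * r by ring, Nat.shiftRight_add]
    exact fsX_spec l _ (fsA_true h).2 r

private theorem fsY_spec (W : ℕ) : ∀ (L : List (Array ℤ)) (T : ℕ), fsY W L T = true → ∀ i r,
    (L.getD i #[]).toList.getD r 0 = fsZ W T i r
  | [], T, h, i, r => by
    rw [Nat.eq_of_beq_eq_true h, show fsZ W 0 i r = fsI ((0 >>> (W * i) % Nat.pow 2 W) >>> (4 * r) % 16) from rfl,
      Nat.zero_shiftRight, Nat.zero_mod, Nat.zero_shiftRight]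
    rfl
  | x :: L, T, h, 0, r => fsX_spec _ _ (fsA_true h).1 r
  | x :: L, T, h, i + 1, r => by
    rw [show fsZ W T (i + 1) r = fsI ((T >>> (W * (i + 1)) % Nat.pow 2 W) >>> (4 * r) % 16) from rfl,
      show W * (i + 1) = W + W * i by ring, Nat.shiftRight_add]
    exact fsY_spec W L _ (fsA_true h).2 i r

private theorem fs_z {A : Array (Array ℤ)} {W T : ℕ} (h : fsY W A.toList T = true) (i r : ℕ) :
    (A.getD i #[]).getD r 0 = fsZ W T i r := by
  rw [← fsY_spec W _ _ h i r, List.getD_eq_getElem?_getD, List.getD_eq_getElem?_getD, Array.getElem?_toList,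
    Array.getElem?_toList, ← Array.getD_eq_getD_getElem?, ← Array.getD_eq_getD_getElem?]

private theorem car_eq : car chevE7 = fsZ 504 0x88888978897897978897978978897888889797897889788897888978897897a6978978897888978889788978979788888978897897978897978978897888888888978897897889797889789788978889788978978897888978889788979a796797889788897888978897897889788897889789788979788978978897888888897889788899778899778889788978889977888978897888978889799a77889967797888978889788978889977888978897888997788997788897889788888978888999777888888999777888897888899977788889788897999a7778888889996777978889788889997778888978888999777888888999777888897888978888888899999977777788888888978888889999777789999a777788888888888899996777789999777788888897888888889999997777778888888897888899997777888888888888999977778888888899999999a77778777788888888888899998999967777777788888888999977778888888888889999777788897888888888888888999999999999999a777777777788888777778888888888888888888899999888889999999999677777777777777788888888888888897 :=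
  funext fun i => funext fun r => fs_z (by decide +kernel) i r

private theorem cor_eq : cor chevE7 = fsZ 28 0x9abcbaa9abcba99abcaa99abbaa99aabaa999abaa989abaa99abba999aaba9999aba9989aba999aaaa9999aaa9989aaa99999aa99899aa99889aa999aaa99999aa99989aa999999a999899a999889a99999999998999999889999988899999999989899998988999898889989888898988888899aaa99899aa99889aa998999a998899a998889a998999999889999988899998888999899998988999898889989888898988888898999998889999888899988888998888889889999888899988888998888889888999888889988888898888998888889888889888888788888887888887788888887888887788887778888888788888778888777888777788888887888887788887778887777887777788888887888878788877878877787877778788887778887777887777787777778887677887767787776778876677877667787666778888888788887878887787887778787777877777787888777788777778777777777777788767778776777777677787667777766777766677788766778776677777667787666777766677766667787656777765677766567776556778765667776566776656677655667765466776545677654566 :=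
  funext fun i => funext fun r => fs_z (by decide +kernel) i r

/-! ### separation of the roots -/

/-- the values of the simple coroots on the root `r`, modulo 3, as a number -/
def code3 (r : ℕ) : ℕ := (List.range 7).foldl (fun a j => 3 * a + ((car chevE7 j r) % 3).toNat) 0

theorem codes_nodup : ((List.range 126).map code3).Nodup := by
  delta code3
  rw [car_eq]
  decide +kernel

theorem codes_pos : ∀ r < 126, code3 r ≠ 0 := by
  delta code3
  rw [car_eq]
  decide +kernel

theorem car_bound : ∀ r < 126, ∀ j < 7, -2 ≤ car chevE7 j r ∧ car chevE7 j r ≤ 2 := by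
  rw [car_eq]
  decide +kernel

theorem foldl_congr (f g : ℕ → ℕ) : ∀ (l : List ℕ) (_ : ∀ j ∈ l, f j = g j) (a : ℕ),
    l.foldl (fun a j => 3 * a + f j) a = l.foldl (fun a j => 3 * a + g j) a
  | [], _, _ => rfl
  | j :: l, h, a => by
    rw [List.foldl_cons, List.foldl_cons, h j List.mem_cons_self]
    exact foldl_congr f g l (fun i hi => h i (List.mem_cons_of_mem _ hi)) _

theorem code_inj {s u : ℕ} (hs : s < 126) (hu : u < 126) (h : code3 s = code3 u) : s = u := by
  have h1 := codes_nodup
  have hs' : s < ((List.range 126).map code3).length := by simpa using hs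
  have hu' : u < ((List.range 126).map code3).length := by simpa using hu
  have h2 := (List.Nodup.getElem_inj_iff h1 (hi := hs') (hj := hu')).1
  apply h2
  simp only [List.getElem_map, List.getElem_range]
  exact h

/-- the integers which are not zero modulo odd primes -/
theorem small_ne (h2 : (2 : K) ≠ 0) {m : ℤ} (hm : -4 ≤ m) (hm' : m ≤ 4) (h3 : m % 3 ≠ 0) : (m : K) ≠ 0 := by
  have h4 : m = -4 ∨ m = -2 ∨ m = -1 ∨ m = 1 ∨ m = 2 ∨ m = 4 := by omega
  have h5 : (4 : K) ≠ 0 := by
    have : (4 : K) = 2 * 2 := by norm_num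
    rw [this]
    exact mul_ne_zero h2 h2
  rcases h4 with rfl | rfl | rfl | rfl | rfl | rfl
  · push_cast; exact neg_ne_zero.2 h5
  · push_cast; exact neg_ne_zero.2 h2
  · push_cast; exact neg_ne_zero.2 one_ne_zero
  · push_cast; exact one_ne_zero
  · push_cast; exact h2
  · push_cast; exact h5

theorem sep (h2 : (2 : K) ≠ 0) {r s : ℕ} (hr : r < 126) (hs : s < 126) (h : r ≠ s) :
    ∃ j < 7, ((car chevE7 j r : ℤ) : K) ≠ ((car chevE7 j s : ℤ) : K) := by
  by_contra hne
  push Not at hne
  apply h
  apply code_inj hr hs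
  refine foldl_congr _ _ _ (fun j hj => ?_) 0
  have hj' := List.mem_range.1 hj
  have h1 := hne j hj'
  by_contra h3
  have h4 : (car chevE7 j r - car chevE7 j s) % 3 ≠ 0 := fun h5 => h3 (by
    have : car chevE7 j r % 3 = car chevE7 j s % 3 := by omega
    rw [this])
  obtain ⟨b1, b2⟩ := car_bound r hr j hj'
  obtain ⟨b3, b4⟩ := car_bound s hs j hj'
  have h5 := small_ne (K := K) h2 (m := car chevE7 j r - car chevE7 j s) (by omega) (by omega) h4
  apply h5
  push_cast
  rw [h1, sub_self]

theorem sep0 (h2 : (2 : K) ≠ 0) {r : ℕ} (hr : r < 126) : ∃ j < 7, ((car chevE7 j r : ℤ) : K) ≠ 0 := by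
  by_contra hne
  push Not at hne
  apply codes_pos r hr
  have h0 : code3 r = (List.range 7).foldl (fun a j => 3 * a + (fun _ => 0) j) 0 := by
    refine foldl_congr _ _ _ (fun j hj => ?_) 0
    have hj' := List.mem_range.1 hj
    have h1 := hne j hj'
    obtain ⟨b1, b2⟩ := car_bound r hr j hj'
    by_contra h3
    have h4 : car chevE7 j r % 3 ≠ 0 := fun h5 => h3 (by rw [h5]; rfl)
    exact small_ne (K := K) h2 (by omega) (by omega) h4 h1
  rw [h0]
  decide

/-! ### diagonal elements -/

theorem adR_inl_apply (i : Fin chevE7.rank) (a b : chevE7.Idx) : adR chevE7 K (Sum.inl i) a b =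
    if a = b then Sum.elim (fun _ => (0 : K)) (fun s : Fin chevE7.nroots => ((car chevE7 i s.val : ℤ) : K)) a else 0 := by
  rw [adR_def, Matrix.map_apply, adA_inl, adH, Matrix.diagonal_apply]
  split_ifs with h
  · rcases a with a | a
    · simp
    · simp
  · simp

/-- an element fixing the Cartan subalgebra is diagonal -/
theorem diag_of_fix (h2 : (2 : K) ≠ 0) {g : GL chevE7.Idx K} (hg : g ∈ chevE7.group K)
    (h : ∀ i : Fin chevE7.rank, (g : Matrix chevE7.Idx chevE7.Idx K) *ᵥ Pi.single (Sum.inl i) 1 =
      Pi.single (Sum.inl i) 1) : (g : Matrix chevE7.Idx chevE7.Idx K) = Matrix.diagonal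
        (Sum.elim (fun _ => (1 : K)) fun s : Fin chevE7.nroots => (g : Matrix chevE7.Idx chevE7.Idx K) (Sum.inr s) (Sum.inr s)) := by
  have key : ∀ (i : Fin chevE7.rank) (a b : chevE7.Idx), (g : Matrix chevE7.Idx chevE7.Idx K) a b *
      Sum.elim (fun _ => (0 : K)) (fun s : Fin chevE7.nroots => ((car chevE7 i s.val : ℤ) : K)) b =
      Sum.elim (fun _ => (0 : K)) (fun s : Fin chevE7.nroots => ((car chevE7 i s.val : ℤ) : K)) a *
      (g : Matrix chevE7.Idx chevE7.Idx K) a b := by
    intro i a b
    have h1 := group_mul_adv chevE7 inl7 K g hg (Pi.single (Sum.inl i) 1)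
    rw [h i, adv_single_one] at h1
    have h3 := congrFun (congrFun h1 a) b
    rw [Matrix.mul_apply, Matrix.mul_apply, Finset.sum_eq_single b, Finset.sum_eq_single a] at h3
    · rw [adR_inl_apply, adR_inl_apply, if_pos rfl, if_pos rfl] at h3
      exact h3
    · intro c _ hc
      rw [adR_inl_apply, if_neg (Ne.symm hc), zero_mul]
    · intro hc; exact absurd (Finset.mem_univ _) hc
    · intro c _ hc
      rw [adR_inl_apply, if_neg hc, mul_zero]
    · intro hc; exact absurd (Finset.mem_univ _) hc
  have hcol : ∀ (a : chevE7.Idx) (i : Fin chevE7.rank), (g : Matrix chevE7.Idx chevE7.Idx K) a (Sum.inl i) =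
      if a = Sum.inl i then 1 else 0 := by
    intro a i
    have h1 := congrFun (h i) a
    rw [Matrix.mulVec_single_one, Matrix.col_apply] at h1
    rw [h1, Pi.single_apply]
  ext a b
  rw [Matrix.diagonal_apply]
  rcases b with i | s
  · rw [hcol]
    split_ifs with h3
    · rw [h3]; rfl
    · rfl
  · rcases a with i | r
    · rw [if_neg (by simp)]
      obtain ⟨j, hj, hne⟩ := sep0 (K := K) h2 s.2
      have h3 := key ⟨j, hj⟩ (Sum.inl i) (Sum.inr s)
      simp only [Sum.elim_inl, Sum.elim_inr, zero_mul] at h3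
      exact (mul_eq_zero.1 h3).resolve_right hne
    · split_ifs with h3
      · rw [Sum.inr.inj h3]; rfl
      · have hrs : (r : ℕ) ≠ s := fun e => h3 (congrArg Sum.inr (Fin.ext e))
        obtain ⟨j, hj, hne⟩ := sep (K := K) h2 r.2 s.2 hrs
        have h4 := key ⟨j, hj⟩ (Sum.inr r) (Sum.inr s)
        simp only [Sum.elim_inr] at h4
        have h5 : (g : Matrix chevE7.Idx chevE7.Idx K) (Sum.inr r) (Sum.inr s) *
            (((car chevE7 j r : ℤ) : K) - ((car chevE7 j s : ℤ) : K)) = 0 := by linear_combination -h4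
        exact (mul_eq_zero.1 h5).resolve_right (sub_ne_zero.2 hne)

/-- the check of the structure constants -/
def chkN (r s : ℕ) : Bool := match chevE7.chainRoot r s 1 with
  | none => true
  | some k => decide (k < 126) && decide (s ≠ r) && decide (s ≠ chevE7.negIdx.getD r 0) &&
      (((chevE7.chainCoeff r s k).map fun km => if km.1 = 1 then km.2 else 0).sum == 1 ||
        ((chevE7.chainCoeff r s k).map fun km => if km.1 = 1 then km.2 else 0).sum == -1)

private def chkW (r : ℕ) : Bool := sortedFrom 0 (Columns.row chevE7 r) && (Columns.row chevE7 r).all fun e =>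
  match e.2.toList with
  | [x] => decide (x.1 < 126) && decide (e.1 ≠ r) && decide (e.1 ≠ chevE7.negIdx.getD r 0) && (x.2 == 1 || x.2 == -1)
  | _ => false

private theorem chkW_all : (List.range 126).all chkW = true := by decide +kernel

theorem chkN_all : ((List.range 126).all fun r => (List.range 126).all fun s => chkN r s) = true :=
  List.all_eq_true.2 fun r hr => List.all_eq_true.2 fun s _ => by
    obtain ⟨h0, h⟩ := Bool.and_eq_true_iff.1 (List.all_eq_true.1 chkW_all r hr)
    delta chkN ChevalleyDatum.chainRoot ChevalleyDatum.chainCoeff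
    rw [chainEntry_eq_look, ← Columns.row_def]
    rcases filter_of_sorted _ 0 h0 s with ⟨-, h2⟩ | ⟨e, he, rfl, h1, h2⟩
    · rw [h2]
      rfl
    · have h3 := List.all_eq_true.1 h e he
      rw [h1, h2]
      simp only [List.flatMap_singleton]
      generalize e.2.toList = l at h3
      rcases l with _ | ⟨x, _ | _⟩
      · rfl
      · simpa using h3
      · exact absurd h3 Bool.false_ne_true

theorem cor_one : ∀ r < 126, chevE7.negIdx.getD r 0 < 126 ∧ chevE7.negIdx.getD r 0 ≠ r ∧
    ∃ i < 7, (chevE7.coroot.getD r #[]).getD i 0 = 1 ∨ (chevE7.coroot.getD r #[]).getD i 0 = -1 := by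
  show ∀ r < 126, chevE7.negIdx.getD r 0 < 126 ∧ chevE7.negIdx.getD r 0 ≠ r ∧ ∃ i < 7, cor chevE7 r i = 1 ∨ cor chevE7 r i = -1
  rw [cor_eq]
  decide +kernel

theorem int_pm {m : ℤ} (h : m = 1 ∨ m = -1) : (m : K) ≠ 0 := by
  rcases h with rfl | rfl
  · push_cast; exact one_ne_zero
  · push_cast; exact neg_ne_zero.2 one_ne_zero

/-- a diagonal element of the group fixing the Cartan subalgebra is in the diagonal subgroup -/
theorem mem_diag {g : GL chevE7.Idx K} (hg : g ∈ chevE7.group K) {d : Fin chevE7.nroots → K}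
    (h : (g : Matrix chevE7.Idx chevE7.Idx K) = Matrix.diagonal (Sum.elim (fun _ => (1 : K)) d)) :
    g ∈ chevE7.diagonalSubgroup K := by
  have hd0 : ∀ s, d s ≠ 0 := by
    intro s h0
    have h1 : (g : Matrix chevE7.Idx chevE7.Idx K) * ((g⁻¹ : GL chevE7.Idx K) : Matrix chevE7.Idx chevE7.Idx K) = 1 := by
      rw [← Units.val_mul, mul_inv_cancel, Units.val_one]
    have h2 := congrFun (congrFun h1 (Sum.inr s)) (Sum.inr s)
    rw [h, Matrix.diagonal_mul, Sum.elim_inr, h0, zero_mul, Matrix.one_apply_eq] at h2
    exact zero_ne_one h2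
  let χ : ℕ → Kˣ := fun r => if hr : r < chevE7.nroots then Units.mk0 (d ⟨r, hr⟩) (hd0 _) else 1
  have hχ : ∀ r : Fin chevE7.nroots, ((χ r : Kˣ) : K) = d r := by
    intro r
    show ((if hr : (r : ℕ) < chevE7.nroots then Units.mk0 (d ⟨r, hr⟩) (hd0 _) else 1 : Kˣ) : K) = _
    rw [dif_pos r.2, Units.val_mk0]
  let e : chevE7.Idx → K := Sum.elim (fun _ => (1 : K)) d
  have hmul : ∀ (r : Fin chevE7.nroots) (a b : chevE7.Idx), adR chevE7 K (Sum.inr r) a b ≠ 0 → e a = d r * e b := by
    intro r a b hne
    have h1 := group_mul_adv chevE7 inl7 K g hg (Pi.single (Sum.inr r) 1)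
    have h2 : (g : Matrix chevE7.Idx chevE7.Idx K) *ᵥ Pi.single (Sum.inr r) 1 = Pi.single (Sum.inr r) (d r) := by
      rw [h]
      funext a
      rw [Matrix.mulVec_diagonal, Pi.single_apply, Pi.single_apply]
      split_ifs with h3
      · rw [h3, mul_one]; rfl
      · rw [mul_zero]
    rw [h2, adv_single_one, adv_single, h] at h1
    have h3 := congrFun (congrFun h1 a) b
    rw [Matrix.diagonal_mul, Matrix.mul_diagonal, Matrix.smul_apply, smul_eq_mul] at h3
    have h4 : (e a - d r * e b) * adR chevE7 K (Sum.inr r) a b = 0 := by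
      linear_combination h3
    exact sub_eq_zero.1 ((mul_eq_zero.1 h4).resolve_right hne)
  refine Cfsg.Agent.S2158.result chevE7 inl7 χ ⟨fun r hr => ?_, fun r s k hr hs hk => ?_⟩ g hg ?_
  · obtain ⟨h1, h2, i, hi, h3⟩ := cor_one r hr
    have h4 : adR chevE7 K (Sum.inr ⟨r, hr⟩) (Sum.inl ⟨i, hi⟩) (Sum.inr ⟨chevE7.negIdx.getD r 0, h1⟩) ≠ 0 := by
      rw [adR_def, Matrix.map_apply, adA_inr, coefE_entry chevE7 r 1 hr]
      simp only [if_neg h2, if_true]
      exact int_pm h3
    have h5 := hmul _ _ _ h4
    apply Units.ext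
    have h6 : chevE7.neg r = chevE7.negIdx.getD r 0 := rfl
    rw [h6]
    have e1 := hχ ⟨chevE7.negIdx.getD r 0, h1⟩
    have e2 := hχ ⟨r, hr⟩
    change ((χ (chevE7.negIdx.getD r 0) : Kˣ) : K) = _ at e1
    change ((χ r : Kˣ) : K) = _ at e2
    rw [e1, Units.val_inv_eq_inv_val, e2]
    change (1 : K) = d ⟨r, hr⟩ * d ⟨chevE7.negIdx.getD r 0, h1⟩ at h5
    exact eq_inv_of_mul_eq_one_right h5.symm
  · have h1 := List.all_eq_true.1 (List.all_eq_true.1 chkN_all r (List.mem_range.2 hr)) s (List.mem_range.2 hs)
    unfold chkN at h1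
    rw [hk] at h1
    simp only [Bool.and_eq_true, decide_eq_true_eq, Bool.or_eq_true, beq_iff_eq] at h1
    obtain ⟨⟨⟨h2, h3⟩, h4⟩, h5⟩ := h1
    have h6 : adR chevE7 K (Sum.inr ⟨r, hr⟩) (Sum.inr ⟨k, h2⟩) (Sum.inr ⟨s, hs⟩) ≠ 0 := by
      rw [adR_def, Matrix.map_apply, adA_inr, coefE_entry chevE7 r 1 hr]
      simp only [if_neg h3, if_neg h4]
      rw [if_neg (by simp), zero_add]
      exact int_pm h5
    have h7 := hmul _ _ _ h6
    change d ⟨k, h2⟩ = d ⟨r, hr⟩ * d ⟨s, hs⟩ at h7
    apply Units.ext
    rw [Units.val_mul]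
    have e1 := hχ ⟨k, h2⟩
    have e2 := hχ ⟨r, hr⟩
    have e3 := hχ ⟨s, hs⟩
    change ((χ k : Kˣ) : K) = _ at e1
    change ((χ r : Kˣ) : K) = _ at e2
    change ((χ s : Kˣ) : K) = _ at e3
    rw [e1, e2, e3, h7]
  · rw [h]
    show _ = Matrix.diagonal _
    congr 1
    funext a
    rcases a with a | a
    · rfl
    · exact (hχ a).symm

/-- **an element which fixes the Cartan subalgebra pointwise is in the torus** -/
theorem exists_Phi_of_fix (h2 : (2 : K) ≠ 0) {τ : Gh K}
    (h : ∀ i : Fin chevE7.rank, L K τ (Pi.single (Sum.inl i) 1) = Pi.single (Sum.inl i) 1) : ∃ t, Phi K t = τ := by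
  have h1 := diag_of_fix h2 (g := ((ad K τ : ↥(chevE7.group K)) : GL chevE7.Idx K)) (ad K τ).2 h
  have h3 : ad K τ ∈ TT chevE7 K := mem_diag (ad K τ).2 h1
  obtain ⟨a, ha⟩ := exists_theta_phi isPhi Cfsg.Agent.H944.E7Two.e7T h3
  have h4 : (Phi K a)⁻¹ * τ ∈ (ad K).ker := by
    rw [MonoidHom.mem_ker, map_mul, map_inv]
    have h5 : ad K (Phi K a) = ad K τ := ha
    rw [h5, inv_mul_cancel]
  rw [ker_ad] at h4
  obtain ⟨b, hb⟩ := isPhi.center_le h4
  exact ⟨a * b, by rw [map_mul, hb, mul_inv_cancel_left]⟩

end Cfsg.Agent.R2.T1.Five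

private theorem dce_e7a191b4778a : _root_.True := by
  try have : _root_.True := by simp only [_root_.Cfsg.Agent.R2.T1.rtv.eq_1]
  try have : _root_.True := by simp only [_root_.Cfsg.Agent.ChevalleyStructure.JacMain.adH.eq_1]
  exact _root_.True.intro
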