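import Mathlib
import Cfsg.Agent.R2.T1.Five.Diag
import Cfsg.Agent.R2.T1.Inf.LForm
import Cfsg.Agent.R2.T1.Inf.Dia
import Cfsg.Agent.Prune
set_option linter.all false
prune_inst 0x7f00000000000000000000000000000000000000000000000000000000000000000000000000000000000000000000000000000000000000000000000000000000000000000000000000000000000000003fffffffffffffffffffffffffffbeffbdffffffff
open scoped Cfsg.Agent.FastGrp

/-!
# The adjoint matrices (helper25)

* `adx K X` : the matrix of `ad X`, `adM_adx : adM K g * adx K X = adx K (L K g X) * adM K g`;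
* `adx_er`, `adx_eh`, `adx_map`;
* `Bf z X Y` : the trace of `z * ad X * ad Y`.
-/

set_option autoImplicit false
set_option linter.unusedSectionVars false
set_option maxRecDepth 100000

namespace Cfsg.Agent.R2.T1.Five

open Cfsg Cfsg.Lie Module Matrix
open Cfsg.Agent.ChevalleyStructure Cfsg.Agent.ChevalleyStructure.Elts
open Cfsg.Agent.ChevalleyStructure.LieAbs Cfsg.Agent.ChevalleyStructure.LieAut Cfsg.Agent.ChevalleyStructure.JacMain
open Cfsg.Agent.ChevalleyStructure.JacAll Cfsg.Agent.ChevalleyStructure.Ring Cfsg.Agent.ChevalleyStructure.Columns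
open Cfsg.Agent.R2.T1

universe u v

section
variable {K : Type u} [Field K]

theorem chainCoeff_eq {r : ℕ} (hr : r < 126) (s u : ℕ) :
    ((chevE7.chainCoeff r s u).map fun km => if km.1 = 1 then km.2 else 0).sum = cf r s u := by
  have hc : chevE7.chainCoeff r s u = ((row chevE7 r).filter (fun e => e.1 = s)).flatMap fun e =>
    ((e.2.toList.zipIdx).filter (fun q => q.1.1 = u)).map fun q => (q.2 + 1, q.1.2) := rfl
  rw [hc]
  have hl : F7 r s = look (row chevE7 r) s := rfl
  rcases filter_of_sorted (row chevE7 r) 0 (sorted7 hr) s with ⟨h1, h2⟩ | ⟨e, he, h0, h1, h2⟩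
  · rw [h1, cf_nil (hl.trans h2)]
    rfl
  · rw [h1]
    rcases F7_cases hr s with h3 | ⟨w, c, h3, -⟩
    · rw [cf_nil h3]
      have h4 : e.2.toList = [] := by rw [← h2, ← hl, h3]
      simp [h4]
    · rw [cf_cons h3]
      have h4 : e.2.toList = [(w, c)] := by rw [← h2, ← hl, h3]
      simp only [List.flatMap_cons, List.flatMap_nil, List.append_nil, h4, List.zipIdx_cons, List.zipIdx_nil,
        List.filter_cons, List.filter_nil, decide_eq_true_eq]
      split_ifs with h5
      · simp
      · simp

theorem adR_inr_EM (r : Fin chevE7.nroots) : adR chevE7 K (Sum.inr r) = EM K r.val := by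
  have hr : r.val < 126 := r.2
  ext a b
  rw [adR_def, Matrix.map_apply, adA_inr, coefE_entry chevE7 r.val 1 r.2]
  have hn : chevE7.negIdx.getD r.val 0 = 125 - r.val := neg7 hr
  rcases b with i | s
  · rcases a with j | w
    · rw [EM_ll]; simp
    · rw [EM_rl]
      simp only [true_and]
      split_ifs with h
      · rw [car_def]; simp
      · simp
  · rcases a with j | w
    · rw [EM_lr]
      simp only [hn]
      by_cases h1 : s.val = r.val
      · rw [if_pos h1, if_neg (by omega)]; simp
      · rw [if_neg h1]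
        by_cases h2 : s.val = 125 - r.val
        · rw [if_pos h2, if_pos h2, cor_def]; simp
        · rw [if_neg h2, if_neg h2]; simp
    · rw [EM_rr]
      simp only [hn]
      by_cases h1 : s.val = r.val
      · rw [if_pos h1, h1, cf_nil (F7_self hr)]; simp
      · rw [if_neg h1]
        by_cases h2 : s.val = 125 - r.val
        · rw [if_pos h2, h2, cf_nil (F7_neg hr)]; simp
        · rw [if_neg h2, chainCoeff_eq hr]; simp

/-- the matrix of `ad X` -/
noncomputable def adx (K : Type u) [Field K] (X : chevE7.Idx → K) : Matrix chevE7.Idx chevE7.Idx K := adv (adR chevE7 K) X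

theorem adx_add (X Y : chevE7.Idx → K) : adx K (X + Y) = adx K X + adx K Y := adv_add _ _ _
theorem adx_smul (c : K) (X : chevE7.Idx → K) : adx K (c • X) = c • adx K X := adv_smul _ _ _
theorem adx_er (s : Fin chevE7.nroots) : adx K (er K s) = EM K s.val := (adv_single_one _ _).trans (adR_inr_EM s)

/-- the diagonal of `ad h_i` -/
noncomputable def dH (K : Type u) [Field K] (i : ℕ) : chevE7.Idx → K :=
  Sum.elim (fun _ => (0 : K)) (fun s : Fin chevE7.nroots => ((car chevE7 i s.val : ℤ) : K))

theorem adx_eh (i : Fin chevE7.rank) : adx K (eh K i) = Matrix.diagonal (dH K i.val) := by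
  refine (adv_single_one _ _).trans ?_
  ext a b
  rw [adR_inl_apply, Matrix.diagonal_apply]
  rfl

/-- `ad` is equivariant -/
theorem adM_adx (g : Gh K) (X : chevE7.Idx → K) : adM K g * adx K X = adx K (L K g X) * adM K g := by
  have h := group_mul_adv chevE7 inl7 K ((ad K g : ↥(chevE7.group K)) : GL chevE7.Idx K) (ad K g).2 X
  rw [L_apply]
  exact h

theorem adM_mul_inv (g : Gh K) : adM K g * adM K g⁻¹ = 1 := by rw [← map_mul, mul_inv_cancel, map_one]
theorem adM_inv_mul (g : Gh K) : adM K g⁻¹ * adM K g = 1 := by rw [← map_mul, inv_mul_cancel, map_one]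

theorem adx_L (g : Gh K) (X : chevE7.Idx → K) : adx K (L K g X) = adM K g * adx K X * adM K g⁻¹ := by
  rw [adM_adx, mul_assoc, adM_mul_inv, mul_one]

/-- the trace form -/
noncomputable def Bf (z : Gh K) (X Y : chevE7.Idx → K) : K := (adM K z * adx K X * adx K Y).trace

theorem Bf_add_left (z : Gh K) (X X' Y : chevE7.Idx → K) : Bf z (X + X') Y = Bf z X Y + Bf z X' Y := by
  unfold Bf; rw [adx_add, mul_add, add_mul, trace_add]

theorem Bf_smul_left (z : Gh K) (c : K) (X Y : chevE7.Idx → K) : Bf z (c • X) Y = c * Bf z X Y := by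
  unfold Bf; rw [adx_smul, mul_smul_comm, smul_mul_assoc, trace_smul, smul_eq_mul]

theorem Bf_add_right (z : Gh K) (X Y Y' : chevE7.Idx → K) : Bf z X (Y + Y') = Bf z X Y + Bf z X Y' := by
  unfold Bf; rw [adx_add, mul_add, trace_add]

theorem Bf_smul_right (z : Gh K) (c : K) (X Y : chevE7.Idx → K) : Bf z X (c • Y) = c * Bf z X Y := by
  unfold Bf; rw [adx_smul, mul_smul_comm, trace_smul, smul_eq_mul]

/-- the trace form as a bilinear map -/
noncomputable def BF (z : Gh K) : (chevE7.Idx → K) →ₗ[K] (chevE7.Idx → K) →ₗ[K] K :=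
  LinearMap.mk₂ K (Bf z) (Bf_add_left z) (Bf_smul_left z) (Bf_add_right z) (Bf_smul_right z)

theorem BF_apply (z : Gh K) (X Y : chevE7.Idx → K) : BF z X Y = (adM K z * adx K X * adx K Y).trace := rfl

/-- conjugation -/
theorem BF_conj (g z : Gh K) (X Y : chevE7.Idx → K) : BF (g * z * g⁻¹) (L K g X) (L K g Y) = BF z X Y := by
  rw [BF_apply, BF_apply, adx_L, adx_L, map_mul, map_mul]
  have e : adM K g * adM K z * adM K g⁻¹ * (adM K g * adx K X * adM K g⁻¹) * (adM K g * adx K Y * adM K g⁻¹) =
      adM K g * (adM K z * (adM K g⁻¹ * adM K g) * adx K X * (adM K g⁻¹ * adM K g) * adx K Y) * adM K g⁻¹ := by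
    simp only [mul_assoc]
  rw [e, adM_inv_mul, mul_one, mul_one, trace_mul_comm, ← mul_assoc, adM_inv_mul, one_mul]

/-- invariance -/
theorem BF_inv {g z : Gh K} (h : g * z = z * g) (X Y : chevE7.Idx → K) : BF z (L K g X) (L K g Y) = BF z X Y := by
  have h1 := BF_conj g z X Y
  rwa [h, mul_inv_cancel_right] at h1

theorem BF_symm {z : Gh K} {X : chevE7.Idx → K} (h : L K z X = X) (Y : chevE7.Idx → K) : BF z X Y = BF z Y X := by
  rw [BF_apply, BF_apply, adM_adx, h, mul_assoc, trace_mul_comm]

end

section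
variable {F : Type u} {K : Type v} [Field F] [Field K] (f : F →+* K)

theorem adx_map (X : chevE7.Idx → F) : (adx F X).map f = adx K (fun i => f (X i)) := by
  unfold adx
  rw [adv_map]
  congr 1
  funext j
  exact adR_map chevE7 f j

theorem adM_map (g : Gh F) : adM K (emb f g) = (adM F g).map f := ad_emb_mat f g

theorem BF_map (z : Gh F) (X Y : chevE7.Idx → F) :
    BF (emb f z) (fun i => f (X i)) (fun i => f (Y i)) = f (BF z X Y) := by
  rw [BF_apply, BF_apply, adM_map, ← adx_map, ← adx_map, ← Matrix.map_mul, ← Matrix.map_mul]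
  exact (AddMonoidHom.map_trace (f : F →+ K) _).symm

theorem kf_map (X Y : chevE7.Idx → F) : kf K (fun i => f (X i)) (fun i => f (Y i)) = f (kf F X Y) := by
  rw [kf_apply, kf_apply]
  simp only [dotProduct, Matrix.mulVec, map_sum, map_mul]
  refine Finset.sum_congr rfl fun a _ => ?_
  congr 1
  refine Finset.sum_congr rfl fun b _ => ?_
  congr 1
  rcases a with i | u <;> rcases b with j | s
  · rw [KM_ll, KM_ll, map_intCast]
  · rw [KM_lr, KM_lr, map_zero]
  · rw [KM_rl, KM_rl, map_zero]
  · rw [KM_rr, KM_rr]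
    split_ifs
    · rw [map_one]
    · rw [map_zero]

end

end Cfsg.Agent.R2.T1.Five
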