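import Mathlib
import Cfsg.Agent.H952.F4.Scott_m3
import Cfsg.Agent.H699.IBrGen
import Cfsg.Agent.Blocks.ExistsModular
import Cfsg.Agent.H65.E6Ext_m3
import Cfsg.Agent.Prune
set_option linter.all false

section
prune_inst 0x7fffa9fdb9afb1dfdfff7fbfa79ccdfdf7acafffa4dff9cbbfe02b9fbbff7b9289e5fbad8beab2fe4f86ca1c14e87b43fffeffffe86bd87ffffd1df41ffbffcffdf7b50871dc8cbe0f340ffe03f0778e7f3fffffffffffffffffffffffffffbeffbfffffffff

-- part: R2/T1/Five/Twist
section
prune_inst 0x440004104e20200000400802320008131000122000004000c460400080084600000200000900005120218810001000000000030020000000a20000000030000000340003300010c860018000000000000000000000000000000000000000004000000000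
set_option linter.all false
open scoped Cfsg.Agent.FastGrp

/-!
# S5771, n = 5: Scott's lemma on `V ⊕ V` twisted by matrices of degree 2 (helper25)

* `tw C T` : the operator `C ⊗ T` on `V × V`;
* `ker_tw` : `dim ker (T² - (tr C) T + 1) ≤ dim ker (C ⊗ T - 1)` for a non-scalar `C` of determinant 1;
* `exists_mats` : `A`, `C` of determinant 1 over a finite field with traces `0`, `-1`, and `tr (A C) = τ`;
* `scott_tw` : the dimension of the space of the common fixed vectors of `A ⊗ x`, `C ⊗ y`;
* `exists_small` : a subspace of dimension 1 or 2 stable under `x` and `y`.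
-/

set_option autoImplicit false

namespace Cfsg.Agent.R2.T1.Five

open Module
open Cfsg.Agent.H952.F4 (ev es)

variable {F V : Type*} [Field F] [AddCommGroup V] [Module F V]

/-- `C ⊗ T` on `V × V` -/
def tw (C : Matrix (Fin 2) (Fin 2) F) (T : Module.End F V) : Module.End F (V × V) where
  toFun v := (C 0 0 • T v.1 + C 0 1 • T v.2, C 1 0 • T v.1 + C 1 1 • T v.2)
  map_add' v w := by
    ext
    · simp only [Prod.fst_add, Prod.snd_add, map_add, smul_add]; abel
    · simp only [Prod.fst_add, Prod.snd_add, map_add, smul_add]; abel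
  map_smul' a v := by
    ext
    · simp only [Prod.smul_fst, Prod.smul_snd, map_smul, smul_add, RingHom.id_apply]
      rw [smul_comm, smul_comm (C 0 1)]
    · simp only [Prod.smul_fst, Prod.smul_snd, map_smul, smul_add, RingHom.id_apply]
      rw [smul_comm, smul_comm (C 1 1)]

theorem tw_apply (C : Matrix (Fin 2) (Fin 2) F) (T : Module.End F V) (v : V × V) :
    tw C T v = (C 0 0 • T v.1 + C 0 1 • T v.2, C 1 0 • T v.1 + C 1 1 • T v.2) := rfl

theorem tw_mul (C D : Matrix (Fin 2) (Fin 2) F) (T S : Module.End F V) : tw (C * D) (T * S) = tw C T * tw D S := by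
  refine LinearMap.ext fun v => ?_
  rw [Module.End.mul_apply, tw_apply, tw_apply, tw_apply]
  simp only [Matrix.mul_apply, Fin.sum_univ_two, Module.End.mul_apply, map_add, map_smul, smul_add, add_smul, smul_smul]
  ext
  · simp only []; abel
  · simp only []; abel

theorem tw_one : tw (1 : Matrix (Fin 2) (Fin 2) F) (1 : Module.End F V) = 1 := by
  refine LinearMap.ext fun v => ?_
  rw [tw_apply]
  simp

/-- `T² - t T + 1` -/
def qd (t : F) (T : Module.End F V) : Module.End F V := T * T - t • T + 1

theorem mem_ker_qd {t : F} {T : Module.End F V} {u : V} : u ∈ LinearMap.ker (qd t T) ↔ T (T u) = t • T u - u := by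
  rw [LinearMap.mem_ker, qd]
  show T (T u) - t • T u + u = 0 ↔ _
  constructor
  · intro h
    rw [← sub_eq_zero, ← h]; abel
  · intro h
    rw [h]; abel

variable [FiniteDimensional F V]

omit [FiniteDimensional F V] in
theorem finrank_map_inj {W : Type*} [AddCommGroup W] [Module F W] {f : V →ₗ[F] W} (hf : Function.Injective f)
    (U : Submodule F V) : finrank F ↥(U.map f) = finrank F ↥U := (Submodule.equivMapOfInjective f hf U).finrank_eq.symm

theorem ker_tw {C : Matrix (Fin 2) (Fin 2) F} (hdet : C.det = 1) (hns : C 1 0 ≠ 0 ∨ C 0 1 ≠ 0) (T : Module.End F V) :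
    finrank F ↥(LinearMap.ker (qd C.trace T)) ≤ finrank F ↥(LinearMap.ker (tw C T - 1)) := by
  rw [Matrix.det_fin_two] at hdet
  have htr : C.trace = C 0 0 + C 1 1 := Matrix.trace_fin_two C
  rcases hns with hc | hb
  · let f : V →ₗ[F] V × V :=
      { toFun := fun u => (C 0 0 • u - T u, C 1 0 • u)
        map_add' := fun u v => by
          ext
          · simp only [Prod.fst_add, map_add, smul_add]; abel
          · simp only [Prod.snd_add, smul_add]
        map_smul' := fun a u => by
          ext
          · simp only [Prod.smul_fst, map_smul, smul_sub, RingHom.id_apply]; rw [smul_comm]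
          · simp only [Prod.smul_snd, RingHom.id_apply]; rw [smul_comm] }
    have hf : ∀ u, f u = (C 0 0 • u - T u, C 1 0 • u) := fun _ => rfl
    have hinj : Function.Injective f := by
      rw [← LinearMap.ker_eq_bot, eq_bot_iff]
      intro u hu
      have h1 := congrArg Prod.snd (LinearMap.mem_ker.1 hu)
      rw [hf] at h1
      exact (Submodule.mem_bot F).2 ((smul_eq_zero.1 h1).resolve_left hc)
    have hle : (LinearMap.ker (qd C.trace T)).map f ≤ LinearMap.ker (tw C T - 1) := by
      rintro _ ⟨u, hu, rfl⟩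
      have h1 := mem_ker_qd.1 hu
      rw [htr] at h1
      rw [LinearMap.mem_ker, LinearMap.sub_apply, Module.End.one_apply, sub_eq_zero, hf, tw_apply]
      simp only [map_sub, map_smul, h1]
      refine Prod.ext ?_ ?_
      · show C 0 0 • (C 0 0 • T u - ((C 0 0 + C 1 1) • T u - u)) + C 0 1 • C 1 0 • T u = C 0 0 • u - T u
        linear_combination (norm := module) (-hdet) • T u
      · show C 1 0 • (C 0 0 • T u - ((C 0 0 + C 1 1) • T u - u)) + C 1 1 • C 1 0 • T u = C 1 0 • u
        module
    have h1 := Submodule.finrank_mono hle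
    rwa [finrank_map_inj hinj] at h1
  · let f : V →ₗ[F] V × V :=
      { toFun := fun u => (C 0 1 • u, C 1 1 • u - T u)
        map_add' := fun u v => by
          ext
          · simp only [Prod.fst_add, smul_add]
          · simp only [Prod.snd_add, map_add, smul_add]; abel
        map_smul' := fun a u => by
          ext
          · simp only [Prod.smul_fst, RingHom.id_apply]; rw [smul_comm]
          · simp only [Prod.smul_snd, map_smul, smul_sub, RingHom.id_apply]; rw [smul_comm] }
    have hf : ∀ u, f u = (C 0 1 • u, C 1 1 • u - T u) := fun _ => rfl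
    have hinj : Function.Injective f := by
      rw [← LinearMap.ker_eq_bot, eq_bot_iff]
      intro u hu
      have h1 := congrArg Prod.fst (LinearMap.mem_ker.1 hu)
      rw [hf] at h1
      exact (Submodule.mem_bot F).2 ((smul_eq_zero.1 h1).resolve_left hb)
    have hle : (LinearMap.ker (qd C.trace T)).map f ≤ LinearMap.ker (tw C T - 1) := by
      rintro _ ⟨u, hu, rfl⟩
      have h1 := mem_ker_qd.1 hu
      rw [htr] at h1
      rw [LinearMap.mem_ker, LinearMap.sub_apply, Module.End.one_apply, sub_eq_zero, hf, tw_apply]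
      simp only [map_sub, map_smul, h1]
      refine Prod.ext ?_ ?_
      · show C 0 0 • C 0 1 • T u + C 0 1 • (C 1 1 • T u - ((C 0 0 + C 1 1) • T u - u)) = C 0 1 • u
        module
      · show C 1 0 • C 0 1 • T u + C 1 1 • (C 1 1 • T u - ((C 0 0 + C 1 1) • T u - u)) = C 1 1 • u - T u
        linear_combination (norm := module) (-hdet) • T u
    have h1 := Submodule.finrank_mono hle
    rwa [finrank_map_inj hinj] at h1

/-! ### the matrices -/

theorem exists_pr [Finite F] {τ : F} (hτ : τ * τ + τ - 1 = 0) : ∃ p r : F, p * p + p + r * r + τ * r + 1 = 0 := by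
  classical
  have := Fintype.ofFinite F
  by_cases h2 : (2 : F) = 0
  · have h1 : (1 : F) + τ ≠ 0 := by
      intro h
      have e : τ = -1 := by linear_combination h
      rw [e] at hτ
      apply one_ne_zero (α := F)
      linear_combination -hτ
    refine ⟨(1 + τ)⁻¹, (1 + τ)⁻¹, ?_⟩
    have h3 : (1 + τ) * (1 + τ)⁻¹ = 1 := mul_inv_cancel₀ h1
    linear_combination ((1 + τ)⁻¹ * (1 + τ)⁻¹) * h2 + h3 + h2
  · have hodd : Fintype.card F % 2 = 1 := by
      refine FiniteField.odd_card_of_char_ne_two (F := F) ?_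
      intro h
      apply h2
      have := ringChar.spec F 2
      exact_mod_cast (this.2 (by rw [h]))
    obtain ⟨a, b, hab⟩ := FiniteField.exists_root_sum_quadratic (R := F)
      (f := Polynomial.X ^ 2 + Polynomial.X + 1) (g := Polynomial.X ^ 2 + Polynomial.C τ * Polynomial.X)
      (by compute_degree!) (by compute_degree!) hodd
    refine ⟨a, b, ?_⟩
    simp only [Polynomial.eval_add, Polynomial.eval_pow, Polynomial.eval_X, Polynomial.eval_one, Polynomial.eval_mul,
      Polynomial.eval_C] at hab
    linear_combination hab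

theorem exists_mats [Finite F] {τ : F} (hτ : τ * τ + τ - 1 = 0) : ∃ A C : Matrix (Fin 2) (Fin 2) F,
    A.det = 1 ∧ C.det = 1 ∧ A.trace = 0 ∧ C.trace = -1 ∧ (A * C).trace = τ ∧ (A 1 0 ≠ 0 ∨ A 0 1 ≠ 0) ∧
      (C 1 0 ≠ 0 ∨ C 0 1 ≠ 0) ∧ ((A * C) 1 0 ≠ 0 ∨ (A * C) 0 1 ≠ 0) := by
  obtain ⟨p, r, h⟩ := exists_pr hτ
  refine ⟨!![0, -1; 1, 0], !![p, τ + r; r, -1 - p], ?_, ?_, ?_, ?_, ?_, Or.inl ?_, ?_, ?_⟩
  · rw [Matrix.det_fin_two_of]; ring
  · rw [Matrix.det_fin_two_of]; linear_combination -h
  · rw [Matrix.trace_fin_two_of]; ring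
  · rw [Matrix.trace_fin_two_of]; ring
  · rw [Matrix.mul_fin_two, Matrix.trace_fin_two_of]; ring
  · show (1 : F) ≠ 0
    exact one_ne_zero
  · show r ≠ 0 ∨ τ + r ≠ 0
    by_contra h1
    push Not at h1
    obtain ⟨h2, h3⟩ := h1
    rw [h2, add_zero] at h3
    rw [h3] at hτ
    apply one_ne_zero (α := F)
    linear_combination -hτ
  · rw [Matrix.mul_fin_two]
    show (1 : F) * p + 0 * r ≠ 0 ∨ (0 : F) * (τ + r) + -1 * (-1 - p) ≠ 0
    by_contra h1
    push Not at h1
    obtain ⟨h2, h3⟩ := h1
    apply one_ne_zero (α := F)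
    linear_combination h3 - h2

/-! ### Scott's lemma -/

/-- the form on `V × V` -/
def twB (B : V →ₗ[F] V →ₗ[F] F) : V × V →ₗ[F] V × V →ₗ[F] F :=
  LinearMap.mk₂ F (fun v w => B v.1 w.2 - B v.2 w.1)
    (fun v v' w => by simp only [Prod.fst_add, Prod.snd_add, map_add, LinearMap.add_apply]; ring)
    (fun a v w => by simp only [Prod.smul_fst, Prod.smul_snd, map_smul, LinearMap.smul_apply, smul_sub])
    (fun v w w' => by simp only [Prod.fst_add, Prod.snd_add, map_add]; ring)
    (fun a v w => by simp only [Prod.smul_fst, Prod.smul_snd, map_smul, smul_sub])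

omit [FiniteDimensional F V] in
theorem twB_apply (B : V →ₗ[F] V →ₗ[F] F) (v w : V × V) : twB B v w = B v.1 w.2 - B v.2 w.1 := rfl

omit [FiniteDimensional F V] in
theorem twB_inv {B : V →ₗ[F] V →ₗ[F] F} {C : Matrix (Fin 2) (Fin 2) F} (hdet : C.det = 1) {T : Module.End F V}
    (hT : ∀ v w, B (T v) (T w) = B v w) (v w : V × V) : twB B (tw C T v) (tw C T w) = twB B v w := by
  rw [Matrix.det_fin_two] at hdet
  rw [twB_apply, twB_apply, tw_apply, tw_apply]
  simp only [map_add, map_smul, LinearMap.add_apply, LinearMap.smul_apply, smul_eq_mul, hT]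
  linear_combination (B v.1 w.2 - B v.2 w.1) * hdet

/-- the representation on `V × V` -/
def twR {G : Type*} [Group G] (ρ : Representation F G V) :
    Representation F (Matrix.SpecialLinearGroup (Fin 2) F × G) (V × V) where
  toFun g := tw (g.1 : Matrix (Fin 2) (Fin 2) F) (ρ g.2)
  map_one' := by
    rw [Prod.fst_one, Prod.snd_one, map_one, Matrix.SpecialLinearGroup.coe_one]
    exact tw_one
  map_mul' g h := by
    rw [Prod.fst_mul, Prod.snd_mul, map_mul, Matrix.SpecialLinearGroup.coe_mul, tw_mul]

/-- the common fixed vectors of `A ⊗ x` and `C ⊗ y` -/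
def twI (A C : Matrix (Fin 2) (Fin 2) F) (S T : Module.End F V) : Submodule F (V × V) :=
  LinearMap.ker (tw A S - 1) ⊓ LinearMap.ker (tw C T - 1)

omit [FiniteDimensional F V] in
theorem mem_twI {A C : Matrix (Fin 2) (Fin 2) F} {S T : Module.End F V} {v : V × V} :
    v ∈ twI A C S T ↔ tw A S v = v ∧ tw C T v = v := by
  rw [twI, Submodule.mem_inf, LinearMap.mem_ker, LinearMap.mem_ker, LinearMap.sub_apply, LinearMap.sub_apply,
    Module.End.one_apply, sub_eq_zero, sub_eq_zero]

theorem scott_tw {G : Type*} [Group G] (ρ : Representation F G V) (B : V →ₗ[F] V →ₗ[F] F)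
    (hB : ∀ v, (∀ w, B v w = 0) → v = 0) (hinv : ∀ g v w, B (ρ g v) (ρ g w) = B v w) {x y : G}
    {A C : Matrix (Fin 2) (Fin 2) F} (hA : A.det = 1) (hC : C.det = 1)
    (nA : A 1 0 ≠ 0 ∨ A 0 1 ≠ 0) (nC : C 1 0 ≠ 0 ∨ C 0 1 ≠ 0) (nAC : (A * C) 1 0 ≠ 0 ∨ (A * C) 0 1 ≠ 0) :
    finrank F ↥(LinearMap.ker (qd A.trace (ρ x))) + finrank F ↥(LinearMap.ker (qd C.trace (ρ y))) +
      finrank F ↥(LinearMap.ker (qd (A * C).trace (ρ (x * y)))) ≤
      2 * finrank F V + 2 * finrank F ↥(twI A C (ρ x) (ρ y)) := by
  have hAC : (A * C).det = 1 := by rw [Matrix.det_mul, hA, hC, one_mul]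
  have e1 := ker_tw hA nA (ρ x)
  have e2 := ker_tw hC nC (ρ y)
  have e3 := ker_tw hAC nAC (ρ (x * y))
  let a : Matrix.SpecialLinearGroup (Fin 2) F × G := (⟨A, hA⟩, x)
  let c : Matrix.SpecialLinearGroup (Fin 2) F × G := (⟨C, hC⟩, y)
  let S : Subgroup (Matrix.SpecialLinearGroup (Fin 2) F × G) := Subgroup.closure {a, c}
  have ha : a ∈ S := Subgroup.subset_closure (by simp)
  have hc : c ∈ S := Subgroup.subset_closure (by simp)
  let σ : Representation F ↥S (V × V) := MonoidHom.comp (twR ρ) S.subtype
  have hgen : Subgroup.closure {(⟨a, ha⟩ : ↥S), ⟨c, hc⟩} = ⊤ := by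
    have h := Subgroup.closure_closure_coe_preimage (k := ({a, c} : Set (Matrix.SpecialLinearGroup (Fin 2) F × G)))
    rw [← h]
    congr 1
    ext z
    simp only [Set.mem_insert_iff, Set.mem_singleton_iff, Set.mem_preimage, Subtype.ext_iff]
  have hS := Cfsg.Agent.H952.F4.Scott.scott_form σ hgen (twB B) (by
      intro v hv
      ext
      · refine hB _ fun w => ?_
        have := hv (0, w)
        rw [twB_apply] at this
        simpa using this
      · refine hB _ fun w => ?_
        have := hv (w, 0)
        rw [twB_apply] at this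
        simpa using this)
    (fun g v w => twB_inv (g : Matrix.SpecialLinearGroup (Fin 2) F × G).1.2 (hinv _) v w)
  have h1 : ∀ z : ↥S, ev (σ z) 1 = finrank F ↥(LinearMap.ker (σ z - 1)) := fun z => by
    rw [ev, Module.End.eigenspace_def, one_smul]
  have h2 : σ.invariants ≤ twI A C (ρ x) (ρ y) := by
    intro v hv
    rw [Representation.mem_invariants] at hv
    exact mem_twI.2 ⟨hv ⟨a, ha⟩, hv ⟨c, hc⟩⟩
  have h3 := Submodule.finrank_mono h2
  rw [h1, h1, h1, Module.finrank_prod] at hS
  have e1' : finrank F ↥(LinearMap.ker (qd A.trace (ρ x))) ≤ finrank F ↥(LinearMap.ker (σ ⟨a, ha⟩ - 1)) := e1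
  have e2' : finrank F ↥(LinearMap.ker (qd C.trace (ρ y))) ≤ finrank F ↥(LinearMap.ker (σ ⟨c, hc⟩ - 1)) := e2
  have e3' : finrank F ↥(LinearMap.ker (qd (A * C).trace (ρ (x * y)))) ≤
    finrank F ↥(LinearMap.ker (σ (⟨a, ha⟩ * ⟨c, hc⟩) - 1)) := e3
  omega

omit [FiniteDimensional F V] in
/-- the span of the two components of a fixed vector of `C ⊗ T` is stable -/
theorem span_stable {C : Matrix (Fin 2) (Fin 2) F} (hdet : C.det = 1) {T : Module.End F V} {v : V × V}
    (h : tw C T v = v) : ∀ u ∈ Submodule.span F {v.1, v.2}, T u ∈ Submodule.span F {v.1, v.2} := by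
  rw [Matrix.det_fin_two] at hdet
  have h1 : C 0 0 • T v.1 + C 0 1 • T v.2 = v.1 := congrArg Prod.fst h
  have h2 : C 1 0 • T v.1 + C 1 1 • T v.2 = v.2 := congrArg Prod.snd h
  have e1 : T v.1 = C 1 1 • v.1 - C 0 1 • v.2 := by
    linear_combination (norm := module) (-hdet) • T v.1 + C 1 1 • h1 - C 0 1 • h2
  have e2 : T v.2 = C 0 0 • v.2 - C 1 0 • v.1 := by
    linear_combination (norm := module) (-hdet) • T v.2 + C 0 0 • h2 - C 1 0 • h1
  intro u hu
  rw [Submodule.mem_span_pair] at hu
  obtain ⟨a, b, rfl⟩ := hu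
  rw [map_add, map_smul, map_smul, e1, e2]
  have m1 : v.1 ∈ Submodule.span F {v.1, v.2} := Submodule.subset_span (by simp)
  have m2 : v.2 ∈ Submodule.span F {v.1, v.2} := Submodule.subset_span (by simp)
  exact add_mem (Submodule.smul_mem _ _ (sub_mem (Submodule.smul_mem _ _ m1) (Submodule.smul_mem _ _ m2)))
    (Submodule.smul_mem _ _ (sub_mem (Submodule.smul_mem _ _ m2) (Submodule.smul_mem _ _ m1)))

theorem exists_small [Finite F] {G : Type*} [Group G] (ρ : Representation F G V) (B : V →ₗ[F] V →ₗ[F] F)
    (hB : ∀ v, (∀ w, B v w = 0) → v = 0) (hinv : ∀ g v w, B (ρ g v) (ρ g w) = B v w) {x y : G} {τ : F}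
    (hτ : τ * τ + τ - 1 = 0)
    (h : 2 * finrank F V < finrank F ↥(LinearMap.ker (qd 0 (ρ x))) + finrank F ↥(LinearMap.ker (qd (-1) (ρ y))) +
      finrank F ↥(LinearMap.ker (qd τ (ρ (x * y))))) :
    ∃ U : Submodule F V, U ≠ ⊥ ∧ finrank F ↥U ≤ 2 ∧ (∀ u ∈ U, ρ x u ∈ U) ∧ (∀ u ∈ U, ρ y u ∈ U) := by
  obtain ⟨A, C, dA, dC, tA, tC, tAC, nA, nC, nAC⟩ := exists_mats hτ
  have h1 := scott_tw ρ B hB hinv (x := x) (y := y) dA dC nA nC nAC
  rw [tA, tC, tAC] at h1
  have h2 : 0 < finrank F ↥(twI A C (ρ x) (ρ y)) := by omega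
  obtain ⟨⟨v, hv⟩, hv0⟩ := (Module.finrank_pos_iff_exists_ne_zero (R := F)).1 h2
  have hv0' : v ≠ 0 := fun h => hv0 (Subtype.ext h)
  obtain ⟨f1, f2⟩ := mem_twI.1 hv
  refine ⟨Submodule.span F {v.1, v.2}, ?_, ?_, span_stable dA f1, span_stable dC f2⟩
  · intro h3
    apply hv0'
    have m1 : v.1 ∈ Submodule.span F {v.1, v.2} := Submodule.subset_span (by simp)
    have m2 : v.2 ∈ Submodule.span F {v.1, v.2} := Submodule.subset_span (by simp)
    rw [h3, Submodule.mem_bot] at m1 m2
    exact Prod.ext m1 m2
  · classical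
    have h3 := finrank_span_finset_le_card (R := F) ({v.1, v.2} : Finset V)
    have h4 : ({v.1, v.2} : Finset V).card ≤ 2 := Finset.card_le_two
    rw [Finset.coe_pair] at h3
    exact h3.trans h4

end Cfsg.Agent.R2.T1.Five

private theorem dce_320857a7db78 : _root_.True := by
  try have : _root_.True := by simp only [_root_.Cfsg.Agent.R2.T1.Five.qd.eq_1]
  try have : _root_.True := by simp only [_root_.Cfsg.Agent.R2.T1.Five.twI.eq_1]
  exact _root_.True.intro
end

-- part: R2/T1/Five/Lin
section
set_option linter.all false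
open scoped Cfsg.Agent.FastGrp

/-!
# Kernels of powers of nilpotent operators (helper25)

* `kp_le` : `2 dim V ≤ p dim ker N²` if `N ^ p = 0`, `2 ≤ p`;
* `ev_ge` : `dim V ≤ p dim ker (T - 1)` if `T ^ p = 1` in characteristic `p`;
* `qd2_ge` : `2 dim V ≤ p dim ker (T² - 2 T + 1)` if `T ^ p = 1` in characteristic `p`.
-/

set_option autoImplicit false
set_option linter.unusedSectionVars false

namespace Cfsg.Agent.R2.T1.Five

open Module
open Cfsg.Agent.H952.F4 (ev es)

section
variable {F V : Type*} [Field F] [AddCommGroup V] [Module F V] [FiniteDimensional F V]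

/-- `dim ker N^(j+1) = dim ker N^j + dim (ker N ∩ im N^j)` -/
theorem ker_succ (N : Module.End F V) (j : ℕ) : finrank F ↥(LinearMap.ker (N ^ (j + 1))) =
    finrank F ↥(LinearMap.ker (N ^ j)) + finrank F ↥(LinearMap.ker N ⊓ LinearMap.range (N ^ j)) := by
  let f : ↥(LinearMap.ker (N ^ (j + 1))) →ₗ[F] V := (N ^ j).comp (LinearMap.ker (N ^ (j + 1))).subtype
  have h1 := LinearMap.finrank_range_add_finrank_ker f
  have h2 : LinearMap.range f = LinearMap.ker N ⊓ LinearMap.range (N ^ j) := by
    ext v
    constructor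
    · rintro ⟨⟨u, hu⟩, rfl⟩
      refine ⟨?_, ⟨u, rfl⟩⟩
      rw [LinearMap.mem_ker, pow_succ'] at hu
      exact hu
    · rintro ⟨h3, ⟨u, rfl⟩⟩
      refine ⟨⟨u, ?_⟩, rfl⟩
      rw [LinearMap.mem_ker, pow_succ']
      exact h3
  have h3 : finrank F ↥(LinearMap.ker f) = finrank F ↥(LinearMap.ker (N ^ j)) := by
    have h4 : LinearMap.ker (N ^ j) ≤ LinearMap.ker (N ^ (j + 1)) := by
      intro u hu
      rw [LinearMap.mem_ker] at hu ⊢
      rw [pow_succ', Module.End.mul_apply, hu, map_zero]
    have h5 : LinearMap.ker f = (LinearMap.ker (N ^ j)).comap (LinearMap.ker (N ^ (j + 1))).subtype := by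
      rw [LinearMap.ker_comp]
    rw [h5]
    exact (Submodule.comapSubtypeEquivOfLe h4).finrank_eq
  rw [h2, h3] at h1
  omega

theorem cap_anti (N : Module.End F V) (j : ℕ) : finrank F ↥(LinearMap.ker N ⊓ LinearMap.range (N ^ (j + 1))) ≤
    finrank F ↥(LinearMap.ker N ⊓ LinearMap.range (N ^ j)) := by
  apply Submodule.finrank_mono
  refine inf_le_inf_left _ ?_
  rintro _ ⟨u, rfl⟩
  exact ⟨N u, by rw [pow_succ]; rfl⟩

theorem kp_le {N : Module.End F V} {p : ℕ} (hp : 2 ≤ p) (hN : N ^ p = 0) :
    2 * finrank F V ≤ p * finrank F ↥(LinearMap.ker (N ^ 2)) := by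
  set c : ℕ → ℕ := fun j => finrank F ↥(LinearMap.ker N ⊓ LinearMap.range (N ^ j)) with hc
  have hs : ∀ j, finrank F ↥(LinearMap.ker (N ^ (j + 1))) = finrank F ↥(LinearMap.ker (N ^ j)) + c j := ker_succ N
  have ha : ∀ j, c (j + 1) ≤ c j := cap_anti N
  have ha1 : ∀ j, c (j + 1) ≤ c 1 := by
    intro j
    induction j with
    | zero => exact le_rfl
    | succ j ih => exact (ha (j + 1)).trans ih
  have h0 : finrank F ↥(LinearMap.ker (N ^ 0)) = 0 := by
    rw [pow_zero, Module.End.one_eq_id, LinearMap.ker_id, finrank_bot]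
  have h2 : finrank F ↥(LinearMap.ker (N ^ 2)) = c 0 + c 1 := by
    rw [hs 1, hs 0, h0, zero_add]
  have hk : ∀ k, finrank F ↥(LinearMap.ker (N ^ (k + 2))) ≤ c 0 + c 1 + k * c 1 := by
    intro k
    induction k with
    | zero => rw [zero_mul, add_zero, ← h2]
    | succ k ih =>
      rw [hs (k + 2), Nat.succ_mul]
      have h5 : c (k + 2) ≤ c 1 := ha1 (k + 1)
      omega
  obtain ⟨k, rfl⟩ : ∃ k, p = k + 2 := ⟨p - 2, by omega⟩
  have h3 := hk k
  rw [hN, LinearMap.ker_zero, finrank_top] at h3
  have h4 : k * c 1 ≤ k * c 0 := Nat.mul_le_mul_left k (ha 0)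
  rw [h2]
  calc 2 * finrank F V ≤ 2 * (c 0 + c 1 + k * c 1) := Nat.mul_le_mul_left 2 h3
    _ = 2 * (c 0 + c 1) + k * c 1 + k * c 1 := by ring
    _ ≤ 2 * (c 0 + c 1) + k * c 0 + k * c 1 := by omega
    _ = (k + 2) * (c 0 + c 1) := by ring

theorem k1_le {N : Module.End F V} {p : ℕ} (hN : N ^ p = 0) :
    finrank F V ≤ p * finrank F ↥(LinearMap.ker N) := by
  have h : ∀ j, finrank F ↥(LinearMap.ker (N ^ j)) ≤ j * finrank F ↥(LinearMap.ker N) := by
    intro j
    induction j with
    | zero => rw [pow_zero, Module.End.one_eq_id, LinearMap.ker_id, finrank_bot, zero_mul]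
    | succ j ih =>
      rw [ker_succ, Nat.succ_mul]
      have h1 := Submodule.finrank_mono (inf_le_left : LinearMap.ker N ⊓ LinearMap.range (N ^ j) ≤ LinearMap.ker N)
      omega
  have h2 := h p
  rwa [hN, LinearMap.ker_zero, finrank_top] at h2

theorem sub_one_pow {p : ℕ} [Fact p.Prime] [CharP F p] {T : Module.End F V} (hT : T ^ p = 1) : (T - 1) ^ p = 0 := by
  have h1 : (p : Module.End F V) = 0 := by
    rw [← map_natCast (algebraMap F (Module.End F V)) p, CharP.cast_eq_zero, map_zero]
  by_cases hV : Nontrivial V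
  · have : CharP (Module.End F V) p := charP_of_injective_algebraMap (algebraMap F (Module.End F V)).injective p
    rw [sub_pow_char_of_commute p (Commute.one_right T), hT, one_pow, sub_self]
  · rw [not_nontrivial_iff_subsingleton] at hV
    exact Subsingleton.elim _ _

/-- fixed vectors of an element of order `p` in characteristic `p` -/
theorem ev_ge {p : ℕ} [Fact p.Prime] [CharP F p] {T : Module.End F V} (hT : T ^ p = 1) :
    finrank F V ≤ p * ev T 1 := by
  have h := k1_le (sub_one_pow hT)
  rwa [ev, Module.End.eigenspace_def, one_smul]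

theorem qd2_ge {p : ℕ} [Fact p.Prime] [CharP F p] {T : Module.End F V} (hT : T ^ p = 1) :
    2 * finrank F V ≤ p * finrank F ↥(LinearMap.ker (qd 2 T)) := by
  have h := kp_le (Fact.out : p.Prime).two_le (sub_one_pow hT)
  have e : qd 2 T = (T - 1) ^ 2 := by
    rw [qd, pow_two, two_smul]
    noncomm_ring
  rwa [e]

end

end Cfsg.Agent.R2.T1.Five
end

-- part: R2/T1/Inf/Art
section
prune_inst 0x202424000000000000050000002000000000000043000080000000000000002041060100000102001000000000000010000000420000000a000000000000000000100000000000000000000000000000000000000000000000000000000000000000000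
set_option linter.all false
open scoped Cfsg.Agent.FastGrp

/-!
# Artin's formula for the dimensions of the spaces of invariants in coprime characteristic (helper11)

* `sum_bc` : for a group `T` of order prime to `p`, the sum of the values of the Brauer character of `σ` is
  `|T| · dim (invariants)`;
* `om σ x` : the average of the values of the Brauer character at the generators of `⟨x⟩`, in terms of the dimensions
  of the fixed spaces of the powers of `x`;
* `artin` : `|T| · dim (invariants) = ∑ x : T, om σ x`, over any field of characteristic `p` embedded in the residue field,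
  in particular over finite fields;
* `om_one`, `om_prime`, `om_four`, `om_six`, ... : the values.
-/

set_option autoImplicit false

universe u v

namespace Cfsg.Agent.R2.T1.Art

open Cfsg IsLocalRing Module Polynomial Cfsg.Agent.H657 Cfsg.Agent.H699.IBrLift
open Cfsg.Agent.H952.F4 (ev es)

attribute [local instance] Above.isAlgClosed

section proj

variable {K : Type*} [Field K] {W : Type*} [AddCommGroup W] [Module K W] [FiniteDimensional K W]

theorem det_proj {U : Submodule K W} {e : Module.End K W} (he : LinearMap.IsProj U e) (t : K) :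
    LinearMap.det (e + t • (1 - e)) = t ^ (finrank K W - finrank K ↥U) := by
  have hc := he.isCompl
  have h1 : e + t • (1 - e) = (U.prodEquivOfIsCompl (LinearMap.ker e) hc).conj
      (LinearMap.prodMap LinearMap.id (t • LinearMap.id)) := by
    have h2 : (1 : Module.End K W) = (U.prodEquivOfIsCompl (LinearMap.ker e) hc).conj
        (LinearMap.prodMap LinearMap.id LinearMap.id) := by
      rw [LinearMap.prodMap_id, LinearEquiv.conj_id]
      rfl
    have h3 := he.eq_conj_prodMap
    have h4 : e + t • (1 - e) = (U.prodEquivOfIsCompl (LinearMap.ker e) hc).conj (LinearMap.prodMap LinearMap.id 0) +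
        t • ((U.prodEquivOfIsCompl (LinearMap.ker e) hc).conj (LinearMap.prodMap LinearMap.id LinearMap.id) -
        (U.prodEquivOfIsCompl (LinearMap.ker e) hc).conj (LinearMap.prodMap LinearMap.id 0)) := by
      rw [← h2, ← h3]
    rw [h4, ← map_sub, ← map_smul, ← map_add]
    congr 1
    refine LinearMap.ext fun x => ?_
    refine Prod.ext ?_ ?_
    · simp only [_root_.LinearMap.prodMap_id, _root_.LinearMap.add_apply, _root_.LinearMap.prodMap_apply, _root_.LinearMap.id_coe, _root_.id_eq, _root_.LinearMap.zero_apply, _root_.LinearMap.smul_apply, _root_.LinearMap.sub_apply, _root_.Prod.fst_add, _root_.Prod.smul_fst, _root_.Prod.fst_sub, _root_.sub_self, _root_.smul_zero, _root_.add_zero]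
    · simp only [_root_.LinearMap.prodMap_id, _root_.LinearMap.add_apply, _root_.LinearMap.prodMap_apply, _root_.LinearMap.id_coe, _root_.id_eq, _root_.LinearMap.zero_apply, _root_.LinearMap.smul_apply, _root_.LinearMap.sub_apply, _root_.Prod.snd_add, _root_.Prod.smul_snd, _root_.Prod.snd_sub, _root_.sub_zero, _root_.zero_add]
  rw [h1, LinearEquiv.conj_apply, LinearMap.comp_assoc, LinearMap.det_conj, LinearMap.det_prodMap, LinearMap.det_id,
    one_mul, LinearMap.det_smul, LinearMap.det_id, mul_one]
  congr 1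
  have h3 := Submodule.finrank_add_eq_of_isCompl hc
  omega

end proj

section resid

variable {V : ValuationSubring ℂ} {T : Type u} [Group T] [Finite T] {M : Ideal AlgInt} {p : ℕ}

theorem det_avg {K : Type*} [Field K] {W : Type*} [AddCommGroup W] [Module K W] [FiniteDimensional K W]
    {T : Type*} [Group T] [Fintype T] [Invertible (Fintype.card T : K)] (σ : Representation K T W) (t : K) :
    LinearMap.det (σ.asAlgebraHom (GroupAlgebra.average K T + t • (1 - GroupAlgebra.average K T))) =
      t ^ (finrank K W - finrank K ↥σ.invariants) := by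
  rw [map_add, map_smul, map_sub, map_one]
  exact det_proj σ.isProj_averageMap t

/-- the dimension of the invariants is additive -/
theorem sum_inv {K : Type*} [Field K] [Infinite K] {W : Type*} [AddCommGroup W] [Module K W] [FiniteDimensional K W]
    {T : Type*} [Group T] [Fintype T] (hT : (Fintype.card T : K) ≠ 0) (σ : Representation K T W) {m : ℕ} {n : Fin m → ℕ}
    (σ' : ∀ l, Representation K T (Fin (n l) → K))
    (h : ∀ a : MonoidAlgebra K T, LinearMap.det (σ.asAlgebraHom a) = ∏ l, LinearMap.det ((σ' l).asAlgebraHom a)) :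
    finrank K ↥σ.invariants = ∑ l, finrank K ↥(σ' l).invariants := by
  have : Invertible (Fintype.card T : K) := invertibleOfNonzero hT
  have hinj : ∀ {a b : ℕ}, (∀ t : K, t ^ a = t ^ b) → a = b := by
    intro a b hab
    have h1 : (X ^ a : K[X]) = X ^ b := Polynomial.funext fun t => by
      rw [eval_pow, eval_X, eval_pow, eval_X, hab]
    have h2 := congrArg natDegree h1
    rwa [natDegree_X_pow, natDegree_X_pow] at h2
  have h1 : finrank K W = ∑ l, n l := by
    apply hinj
    intro t
    have h2 := h (t • 1)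
    simp only [map_smul, map_one] at h2
    rw [LinearMap.det_smul, map_one, mul_one] at h2
    rw [h2, ← Finset.prod_pow_eq_pow_sum]
    refine Finset.prod_congr rfl fun l _ => ?_
    rw [LinearMap.det_smul, map_one, mul_one, finrank_fin_fun]
  have h2 : finrank K W - finrank K ↥σ.invariants = ∑ l, (n l - finrank K ↥(σ' l).invariants) := by
    apply hinj
    intro t
    rw [← det_avg σ t, h, ← Finset.prod_pow_eq_pow_sum]
    refine Finset.prod_congr rfl fun l _ => ?_
    rw [det_avg, finrank_fin_fun]
  have h3 : finrank K ↥σ.invariants ≤ finrank K W := Submodule.finrank_le _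
  have h4 : ∀ l, finrank K ↥(σ' l).invariants ≤ n l := fun l => by
    have := Submodule.finrank_le (σ' l).invariants
    rwa [finrank_fin_fun] at this
  have h5 : ∑ l, n l = ∑ l, (n l - finrank K ↥(σ' l).invariants) + ∑ l, finrank K ↥(σ' l).invariants := by
    rw [← Finset.sum_add_distrib]
    exact Finset.sum_congr rfl fun l _ => by have := h4 l; omega
  omega

theorem inv_eq {K : Type*} [Field K] {W : Type*} [AddCommGroup W] [Module K W] {T : Type*} [Group T]
    {σ : Representation K T W} (hσ : σ.IsIrreducible) : σ.invariants = ⊥ ∨ σ.invariants = ⊤ := by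
  let U : Subrepresentation σ := ⟨σ.invariants, fun g v hv => by
    have h1 : σ g v = v := (Representation.mem_invariants _ _).1 hv g
    rw [h1]
    exact hv⟩
  have := hσ
  rcases this.eq_bot_or_eq_top U with h | h
  · left
    exact congrArg Subrepresentation.toSubmodule h
  · right
    exact congrArg Subrepresentation.toSubmodule h

theorem sum_trace {K : Type*} [Field K] {W : Type*} [AddCommGroup W] [Module K W] [FiniteDimensional K W]
    {T : Type*} [Group T] [Fintype T] (hT : (Fintype.card T : K) ≠ 0) (σ : Representation K T W) :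
    ∑ g, LinearMap.trace K W (σ g) = (Fintype.card T : K) * (finrank K ↥σ.invariants : K) := by
  have : Invertible (Fintype.card T : K) := invertibleOfNonzero hT
  have h1 := σ.isProj_averageMap.trace
  rw [← h1]
  have h2 : (Fintype.card T : K) • σ.averageMap = ∑ g, σ g := by
    rw [Representation.averageMap, GroupAlgebra.average, map_smul, map_sum, smul_smul, mul_invOf_self, one_smul]
    refine Finset.sum_congr rfl fun g _ => ?_
    rw [MonoidAlgebra.of_apply, Representation.asAlgebraHom_single, one_smul]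
  rw [← smul_eq_mul, ← map_smul, h2, map_sum]

theorem irr_sum [Fintype T] (hM : IsPModular p M) (hV : Above M V) (hcard : ¬ p ∣ Nat.card T) {n : ℕ}
    (σ : Representation (ResidueField V) T (Fin n → ResidueField V)) (hσ : σ.IsIrreducible) :
    ∑ g, bc p σ g = (Fintype.card T : ℂ) * (finrank (ResidueField V) ↥σ.invariants : ℂ) := by
  have hp : Fact p.Prime := ⟨hM.1⟩
  have hch : CharP (ResidueField V) p := hV.charP hM
  have hT : (Fintype.card T : ResidueField V) ≠ 0 := by
    intro h
    rw [CharP.cast_eq_zero_iff (ResidueField V) p, ← Nat.card_eq_fintype_card] at h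
    exact hcard h
  rcases inv_eq hσ with h | h
  · rw [h, finrank_bot, Nat.cast_zero, mul_zero]
    let i : IBr V T := ⟨fun g => LinearMap.trace (ResidueField V) _ (σ g), n, σ, hσ, fun _ => rfl⟩
    have hreg := isPRegular_of_card (p := p) hcard
    have h1 : ∀ g, bc p σ g = phi p i g := fun g => (phi_eq_bc i σ hσ (fun _ => rfl) (hreg g)).symm
    obtain ⟨N, ρ, hρ, hρi⟩ := isIrrCharacter_phi hM hV hcard i
    have hTC : (Fintype.card T : ℂ) ≠ 0 := by
      have : 0 < Fintype.card T := Fintype.card_pos
      exact_mod_cast this.ne'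
    have h2 : ∑ g, bc p σ g = (Fintype.card T : ℂ) * (finrank ℂ ↥ρ.invariants : ℂ) := by
      rw [← sum_trace hTC ρ]
      refine Finset.sum_congr rfl fun g _ => ?_
      rw [h1, ← hρi]
      rfl
    rw [h2]
    rcases inv_eq hρ with h3 | h3
    · rw [h3, finrank_bot, Nat.cast_zero, mul_zero]
    · exfalso
      -- the trivial character
      have htriv : ∀ g v, ρ g v = v := by
        intro g v
        have h4 : v ∈ ρ.invariants := by rw [h3]; trivial
        exact (Representation.mem_invariants _ _).1 h4 g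
      have hone : ∀ g, bc p σ g = (N : ℂ) := by
        intro g
        rw [h1, ← hρi]
        show LinearMap.trace ℂ _ (ρ g) = _
        have h4 : ρ g = 1 := LinearMap.ext (htriv g)
        rw [h4, LinearMap.trace_one, finrank_fin_fun]
      have hN : N = 1 := by
        have hne := finrank_ne_zero' ρ hρ
        rw [finrank_fin_fun] at hne
        by_contra hN1
        obtain ⟨v, hv⟩ : ∃ v : Fin N → ℂ, v ≠ 0 := by
          have : Nonempty (Fin N) := ⟨⟨0, Nat.pos_of_ne_zero hne⟩⟩
          exact ⟨fun _ => 1, fun h => one_ne_zero (congrFun h this.some)⟩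
        let U : Subrepresentation ρ := ⟨Submodule.span ℂ {v}, fun g w hw => by rw [htriv]; exact hw⟩
        have := hρ
        rcases this.eq_bot_or_eq_top U with h4 | h4
        · have h5 : Submodule.span ℂ {v} = ⊥ := congrArg Subrepresentation.toSubmodule h4
          exact hv (Submodule.span_singleton_eq_bot.1 h5)
        · have h5 : Submodule.span ℂ {v} = ⊤ := congrArg Subrepresentation.toSubmodule h4
          have h6 := finrank_span_singleton (K := ℂ) hv
          rw [h5, finrank_top, finrank_fin_fun] at h6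
          exact hN1 h6
      have h4 := sum_trace hT σ
      rw [h, finrank_bot, Nat.cast_zero, mul_zero] at h4
      have h5 : ∀ g, LinearMap.trace (ResidueField V) _ (σ g) = 1 := by
        intro g
        obtain ⟨z, hz1, hz2⟩ := bc_spec (p := p) σ (hreg g)
        rw [← hz2]
        have h6 : (z : ℂ) = ((1 : V) : ℂ) := by rw [← hz1, hone, hN]; simp
        rw [Subtype.ext h6, map_one]
      rw [Finset.sum_congr rfl fun g _ => h5 g, Finset.sum_const, Finset.card_univ, nsmul_eq_mul, mul_one] at h4
      exact hT h4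
  · have h1 : ∀ g, bc p σ g = (n : ℂ) := by
      intro g
      have h2 : σ g = σ 1 := by
        rw [map_one]
        refine LinearMap.ext fun v => ?_
        have h4 : v ∈ σ.invariants := by rw [h]; trivial
        exact (Representation.mem_invariants _ _).1 h4 g
      have h3 : bc p σ g = bc p σ 1 := by unfold bc; rw [h2]
      rw [h3, bc_one, finrank_fin_fun]
    rw [Finset.sum_congr rfl fun g _ => h1 g, Finset.sum_const, Finset.card_univ, nsmul_eq_mul, h, finrank_top,
      finrank_fin_fun]

/-- **the sum of the values of the Brauer character** -/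
theorem sum_bc [Fintype T] (hM : IsPModular p M) (hV : Above M V) (hcard : ¬ p ∣ Nat.card T) {W : Type v}
    [AddCommGroup W] [Module (ResidueField V) W] [FiniteDimensional (ResidueField V) W]
    (σ : Representation (ResidueField V) T W) :
    ∑ g, bc p σ g = (Fintype.card T : ℂ) * (finrank (ResidueField V) ↥σ.invariants : ℂ) := by
  have hp : Fact p.Prime := ⟨hM.1⟩
  have hch : CharP (ResidueField V) p := hV.charP hM
  have hinf : Infinite (ResidueField V) := IsAlgClosed.instInfinite
  have hT : (Fintype.card T : ResidueField V) ≠ 0 := by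
    intro h
    rw [CharP.cast_eq_zero_iff (ResidueField V) p, ← Nat.card_eq_fintype_card] at h
    exact hcard h
  obtain ⟨m, n, σ', hσ', hdet⟩ := Factors.exists_factors σ
  have hpoly : ∀ g, LinearMap.charpoly (σ g) = ∏ l, LinearMap.charpoly (σ' l g) := by
    intro g
    refine Polynomial.funext fun t => ?_
    have h2 := hdet (MonoidAlgebra.single 1 t - MonoidAlgebra.single g 1)
    rw [map_sub, Representation.asAlgebraHom_single, Representation.asAlgebraHom_single, map_one,
      one_smul, ← Algebra.algebraMap_eq_smul_one, ← LinearMap.eval_charpoly] at h2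
    rw [h2, eval_prod]
    refine Finset.prod_congr rfl fun l _ => ?_
    rw [map_sub, Representation.asAlgebraHom_single, Representation.asAlgebraHom_single, map_one,
      one_smul, ← Algebra.algebraMap_eq_smul_one, ← LinearMap.eval_charpoly]
  have hbc : ∀ g, bc p σ g = ∑ l, bc p (σ' l) g := by
    intro g
    unfold bc
    rw [hpoly, roots_prod _ _ (Finset.prod_ne_zero_iff.2 fun i _ =>
      (LinearMap.charpoly_monic _).ne_zero), Multiset.map_bind, Multiset.sum_bind]
    rfl
  rw [Finset.sum_congr rfl fun g _ => hbc g, Finset.sum_comm, sum_inv hT σ σ' hdet, Nat.cast_sum, Finset.mul_sum]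
  exact Finset.sum_congr rfl fun l _ => irr_sum hM hV hcard (σ' l) (hσ' l)


/-! ### cyclic groups -/

/-- the rational average of the Brauer character at the generators of `⟨x⟩` -/
noncomputable def om {K : Type*} [Field K] {W : Type*} [AddCommGroup W] [Module K W] {T : Type*} [Group T]
    (σ : Representation K T W) (x : T) : ℚ :=
  (∑ a ∈ (orderOf x).divisorsAntidiagonal, (ArithmeticFunction.moebius a.1 : ℚ) * ((a.2 : ℚ) * (ev (σ (x ^ a.1)) 1 : ℚ))) /
    ((orderOf x).totient : ℚ)

theorem mem_zpowers_pow {T : Type*} [Group T] [Finite T] {x y : T} {d e : ℕ} (hde : e * d = orderOf x) :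
    y ∈ Subgroup.zpowers (x ^ e) ↔ y ∈ Subgroup.zpowers x ∧ orderOf y ∣ d := by
  have hn := orderOf_pos x
  have he : e ≠ 0 := by rintro rfl; rw [zero_mul] at hde; omega
  constructor
  · rintro ⟨k, rfl⟩
    refine ⟨⟨(e : ℤ) * k, ?_⟩, ?_⟩
    · show x ^ ((e : ℤ) * k) = (x ^ e) ^ k
      rw [zpow_mul, zpow_natCast]
    · apply orderOf_dvd_of_pow_eq_one
      show ((x ^ e) ^ k) ^ d = 1
      rw [← zpow_natCast, ← zpow_mul, mul_comm k, zpow_mul, zpow_natCast, ← pow_mul, hde, pow_orderOf_eq_one, one_zpow]
  · rintro ⟨⟨k, rfl⟩, h⟩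
    have h1 : (x ^ k) ^ d = 1 := orderOf_dvd_iff_pow_eq_one.1 h
    have h2 : (orderOf x : ℤ) ∣ k * d := by
      rw [orderOf_dvd_iff_zpow_eq_one, zpow_mul, zpow_natCast, h1]
    rw [← hde, Nat.cast_mul] at h2
    have hd : (d : ℤ) ≠ 0 := by
      intro h0
      have : d = 0 := by exact_mod_cast h0
      rw [this, mul_zero] at hde; omega
    obtain ⟨j, hj⟩ := Int.dvd_of_mul_dvd_mul_right hd h2
    refine ⟨j, ?_⟩
    show (x ^ e) ^ j = x ^ k
    rw [hj, zpow_mul, zpow_natCast]

theorem inv_zpowers {K : Type*} [Field K] {W : Type*} [AddCommGroup W] [Module K W] {T : Type*} [Group T]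
    (σ : Representation K T W) (z : T) :
    Representation.invariants (MonoidHom.comp σ (Subgroup.zpowers z).subtype) =
      Module.End.eigenspace (σ z) 1 := by
  ext v
  rw [Representation.mem_invariants, Module.End.mem_eigenspace_iff, one_smul]
  constructor
  · intro h
    exact h ⟨z, Subgroup.mem_zpowers z⟩
  · rintro h ⟨y, k, rfl⟩
    show σ (z ^ k) v = v
    let S : Subgroup T :=
      { carrier := {g | σ g v = v}
        one_mem' := by show σ 1 v = v; rw [map_one]; rfl
        mul_mem' := by
          intro a b ha hb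
          show σ (a * b) v = v
          rw [map_mul, Module.End.mul_apply, show σ b v = v from hb, show σ a v = v from ha]
        inv_mem' := by
          intro a ha
          show σ a⁻¹ v = v
          have h1 : σ a⁻¹ (σ a v) = v := by rw [← Module.End.mul_apply, ← map_mul, inv_mul_cancel, map_one]; rfl
          rwa [show σ a v = v from ha] at h1 }
    exact S.zpow_mem (show z ∈ S from h) k

open Classical in
theorem sum_cyc [Fintype T] (hM : IsPModular p M) (hV : Above M V) (hcard : ¬ p ∣ Nat.card T) {W : Type v}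
    [AddCommGroup W] [Module (ResidueField V) W] [FiniteDimensional (ResidueField V) W]
    (σ : Representation (ResidueField V) T W) {x : T} {d e : ℕ} (hde : e * d = orderOf x) :
    ∑ y ∈ Finset.univ.filter (fun y => y ∈ Subgroup.zpowers x ∧ orderOf y ∣ d), bc p σ y =
      (d : ℂ) * (ev (σ (x ^ e)) 1 : ℂ) := by
  classical
  have h1 := sum_bc hM hV (T := ↥(Subgroup.zpowers (x ^ e))) (fun h => hcard (h.trans (Subgroup.card_subgroup_dvd_card _)))
    (MonoidHom.comp σ (Subgroup.zpowers (x ^ e)).subtype)
  rw [inv_zpowers] at h1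
  have h2 : Fintype.card ↥(Subgroup.zpowers (x ^ e)) = d := by
    have hn := orderOf_pos x
    have he : e ≠ 0 := by rintro rfl; rw [zero_mul] at hde; omega
    rw [Fintype.card_zpowers, orderOf_pow_of_dvd he (Dvd.intro d hde), ← hde, Nat.mul_div_cancel_left _ (Nat.pos_of_ne_zero he)]
  rw [h2] at h1
  rw [ev, ← h1]
  have h3 : ∀ g : ↥(Subgroup.zpowers (x ^ e)), bc p (MonoidHom.comp σ (Subgroup.zpowers (x ^ e)).subtype) g =
      bc p σ (g : T) := fun g => rfl
  rw [Finset.sum_congr rfl fun g _ => h3 g]
  rw [← Finset.sum_subtype (Finset.univ.filter (fun y => y ∈ Subgroup.zpowers x ∧ orderOf y ∣ d)) (fun y => by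
    rw [Finset.mem_filter, and_iff_right (Finset.mem_univ y), ← mem_zpowers_pow hde]) (fun y => bc p σ y)]

open Classical in
theorem om_eq [Fintype T] (hM : IsPModular p M) (hV : Above M V) (hcard : ¬ p ∣ Nat.card T) {W : Type v}
    [AddCommGroup W] [Module (ResidueField V) W] [FiniteDimensional (ResidueField V) W]
    (σ : Representation (ResidueField V) T W) (x : T) :
    (om σ x : ℂ) = (∑ y ∈ Finset.univ.filter (fun y => Subgroup.zpowers y = Subgroup.zpowers x), bc p σ y) /
      ((orderOf x).totient : ℂ) := by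
  classical
  have hn := orderOf_pos x
  have h1 := (ArithmeticFunction.sum_eq_iff_sum_mul_moebius_eq_on (R := ℂ)
    (f := fun m => ∑ y ∈ Finset.univ.filter (fun y => y ∈ Subgroup.zpowers x ∧ orderOf y = m), bc p σ y)
    (g := fun d => (d : ℂ) * (ev (σ (x ^ (orderOf x / d))) 1 : ℂ)) {m | m ∣ orderOf x}
    (fun m n hmn hn => hmn.trans hn)).1 (by
      intro d hd0 hd
      rw [← sum_cyc hM hV hcard σ (Nat.div_mul_cancel hd)]
      rw [← Finset.sum_biUnion]
      · apply Finset.sum_congr _ fun _ _ => rfl
        ext y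
        rw [Finset.mem_biUnion, Finset.mem_filter]
        constructor
        · rintro ⟨m, hm, hy⟩
          rw [Finset.mem_filter] at hy
          rw [Nat.mem_divisors] at hm
          exact ⟨Finset.mem_univ _, hy.2.1, hy.2.2 ▸ hm.1⟩
        · rintro ⟨-, hy1, hy2⟩
          exact ⟨orderOf y, Nat.mem_divisors.2 ⟨hy2, hd0.ne'⟩, by rw [Finset.mem_filter]; exact ⟨Finset.mem_univ _, hy1, rfl⟩⟩
      · intro a _ b _ hab
        rw [Function.onFun, Finset.disjoint_left]
        intro y hy hy'
        rw [Finset.mem_filter] at hy hy'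
        exact hab (hy.2.2.symm.trans hy'.2.2)) (orderOf x) hn dvd_rfl
  have h2 : (Finset.univ.filter (fun y => y ∈ Subgroup.zpowers x ∧ orderOf y = orderOf x)) =
      Finset.univ.filter (fun y : T => Subgroup.zpowers y = Subgroup.zpowers x) := by
    ext y
    rw [Finset.mem_filter, Finset.mem_filter, and_iff_right (Finset.mem_univ y), and_iff_right (Finset.mem_univ y)]
    constructor
    · rintro ⟨h3, h4⟩
      apply Subgroup.eq_of_le_of_card_ge
      · rw [Subgroup.zpowers_le]; exact h3
      · rw [Nat.card_zpowers, Nat.card_zpowers, h4]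
    · intro h3
      refine ⟨h3 ▸ Subgroup.mem_zpowers y, ?_⟩
      rw [← Nat.card_zpowers, ← Nat.card_zpowers, h3]
  rw [h2] at h1
  rw [← h1, om]
  push_cast
  congr 1
  refine Finset.sum_congr rfl fun a ha => ?_
  rw [Nat.mem_divisorsAntidiagonal] at ha
  have h3 : orderOf x / a.2 = a.1 := by
    rw [← ha.1]
    exact Nat.mul_div_cancel _ (Nat.pos_of_ne_zero fun h => ha.2 (by rw [← ha.1, h, mul_zero]))
  rw [h3]

open Classical in
theorem card_gen {T : Type*} [Group T] [Fintype T] (y : T) :
    (Finset.univ.filter (fun x : T => Subgroup.zpowers x = Subgroup.zpowers y)).card = (orderOf y).totient := by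
  classical
  have h1 := IsCyclic.card_orderOf_eq_totient (α := ↥(Subgroup.zpowers y)) (d := orderOf y) (by
    rw [Fintype.card_zpowers])
  rw [← h1]
  symm
  refine Finset.card_bij (fun x _ => (x : T)) ?_ ?_ ?_
  · intro x hx
    rw [Finset.mem_filter] at hx ⊢
    refine ⟨Finset.mem_univ _, ?_⟩
    apply Subgroup.eq_of_le_of_card_ge
    · rw [Subgroup.zpowers_le]; exact x.2
    · rw [Nat.card_zpowers, Nat.card_zpowers, ← hx.2, Subgroup.orderOf_coe]
  · intro a _ b _ h
    exact Subtype.ext h
  · intro b hb
    rw [Finset.mem_filter] at hb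
    have hb1 : b ∈ Subgroup.zpowers y := by rw [← hb.2]; exact Subgroup.mem_zpowers b
    refine ⟨⟨b, hb1⟩, ?_, rfl⟩
    rw [Finset.mem_filter]
    refine ⟨Finset.mem_univ _, ?_⟩
    rw [← Subgroup.orderOf_coe]
    show orderOf b = _
    rw [← Nat.card_zpowers, ← Nat.card_zpowers, hb.2]

/-- Artin's formula over the residue field -/
theorem artin_res [Fintype T] (hM : IsPModular p M) (hV : Above M V) (hcard : ¬ p ∣ Nat.card T) {W : Type v}
    [AddCommGroup W] [Module (ResidueField V) W] [FiniteDimensional (ResidueField V) W]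
    (σ : Representation (ResidueField V) T W) :
    ((Fintype.card T : ℕ) : ℚ) * (finrank (ResidueField V) ↥σ.invariants : ℚ) = ∑ x : T, om σ x := by
  classical
  have h0 : ((((Fintype.card T : ℕ) : ℚ) * (finrank (ResidueField V) ↥σ.invariants : ℚ) : ℚ) : ℂ) =
      ((∑ x : T, om σ x : ℚ) : ℂ) := by
    push_cast
    rw [← sum_bc hM hV hcard σ, Finset.sum_congr rfl fun x _ => om_eq hM hV hcard σ x]
    simp_rw [Finset.sum_filter, Finset.sum_div]
    rw [Finset.sum_comm]
    refine Finset.sum_congr rfl fun y _ => ?_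
    have h1 : ∀ x : T, (if Subgroup.zpowers y = Subgroup.zpowers x then bc p σ y else 0) / ((orderOf x).totient : ℂ) =
        if Subgroup.zpowers x = Subgroup.zpowers y then bc p σ y / ((orderOf y).totient : ℂ) else 0 := by
      intro x
      by_cases h : Subgroup.zpowers x = Subgroup.zpowers y
      · rw [if_pos h.symm, if_pos h]
        congr 2
        rw [← Nat.card_zpowers, ← Nat.card_zpowers, h]
      · rw [if_neg (fun h' => h h'.symm), if_neg h, zero_div]
    rw [Finset.sum_congr rfl fun x _ => h1 x, ← Finset.sum_filter, Finset.sum_const, card_gen, nsmul_eq_mul]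
    have h2 : ((orderOf y).totient : ℂ) ≠ 0 := by
      have := Nat.totient_pos.2 (orderOf_pos y)
      exact_mod_cast this.ne'
    field_simp
  exact_mod_cast h0

end resid

/-! ### finite fields -/

section fin

theorem exists_hom_resid (p : ℕ) [hp : Fact p.Prime] (F : Type*) [Field F] [Finite F] [CharP F p] (K : Type*) [Field K]
    [IsAlgClosed K] [CharP K p] : Nonempty (F →+* K) := by
  letI : Algebra (ZMod p) F := ZMod.algebra F p
  letI : Algebra (ZMod p) K := ZMod.algebra K p
  have : Algebra.IsAlgebraic (ZMod p) F := inferInstance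
  exact ⟨(IsAlgClosed.lift (R := ZMod p) (S := F) (M := K)).toRingHom⟩

section mat
variable {F : Type*} [Field F] {T : Type*} [Group T] [Fintype T] {m : ℕ}

/-- the dimension of the invariants is the rank of the average -/
theorem finrank_inv_rank (hT : (Fintype.card T : F) ≠ 0) (R : T →* Matrix (Fin m) (Fin m) F)
    (σ : Representation F T (Fin m → F)) (hσ : ∀ g, σ g = Matrix.toLin' (R g)) :
    finrank F ↥σ.invariants = (∑ g, R g).rank := by
  have : Invertible (Fintype.card T : F) := invertibleOfNonzero hT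
  have h1 : LinearMap.range (Matrix.toLin' (∑ g, R g)) = σ.invariants := by
    rw [map_sum]
    ext v
    constructor
    · rintro ⟨w, rfl⟩
      rw [Representation.mem_invariants]
      intro g
      rw [LinearMap.sum_apply, map_sum]
      refine Fintype.sum_bijective (fun h => g * h) (Group.mulLeft_bijective g) _ _ fun h => ?_
      rw [hσ, ← Matrix.toLin'_mul_apply, ← map_mul]
    · intro hv
      rw [Representation.mem_invariants] at hv
      refine ⟨(⅟(Fintype.card T : F)) • v, ?_⟩
      rw [map_smul, LinearMap.sum_apply]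
      have h2 : ∀ g, Matrix.toLin' (R g) v = v := fun g => by rw [← hσ]; exact hv g
      rw [Finset.sum_congr rfl fun g _ => h2 g, Finset.sum_const, Finset.card_univ, ← Nat.cast_smul_eq_nsmul F,
        smul_smul, invOf_mul_self, one_smul]
  rw [← h1, Matrix.rank_eq_finrank_range_toLin _ (Pi.basisFun F (Fin m)) (Pi.basisFun F (Fin m))]
  rw [Matrix.toLin_eq_toLin']

end mat

/-- **Artin's formula** -/
theorem artin {F : Type*} [Field F] [Finite F] {W : Type*} [AddCommGroup W] [Module F W] [FiniteDimensional F W]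
    {T : Type u} [Group T] [Fintype T] (hT : (Fintype.card T : F) ≠ 0) (σ : Representation F T W) :
    (Fintype.card T : ℚ) * (finrank F ↥σ.invariants : ℚ) = ∑ x : T, om σ x := by
  classical
  obtain ⟨p, hp⟩ := CharP.exists F
  have hpp : Fact p.Prime := ⟨CharP.char_is_prime F p⟩
  obtain ⟨M, hM⟩ := Cfsg.Agent.Blocks.ExistsModular.exists_isPModular hpp.1
  obtain ⟨V, hV⟩ := Cfsg.Agent.H657.exists_above hM
  have hch : CharP (ResidueField V) p := hV.charP hM
  obtain ⟨f⟩ := exists_hom_resid p F (ResidueField V)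
  have hcard : ¬ p ∣ Nat.card T := by
    intro h
    apply hT
    rw [CharP.cast_eq_zero_iff F p, ← Nat.card_eq_fintype_card]
    exact h
  have hT' : (Fintype.card T : ResidueField V) ≠ 0 := by
    intro h
    rw [CharP.cast_eq_zero_iff (ResidueField V) p, ← Nat.card_eq_fintype_card] at h
    exact hcard h
  let b := Module.finBasis F W
  let m := finrank F W
  -- matrices
  let R : T →* Matrix (Fin m) (Fin m) F :=
    ((LinearMap.toMatrixAlgEquiv b : (W →ₗ[F] W) ≃ₐ[F] Matrix (Fin m) (Fin m) F) : (W →ₗ[F] W) →* _).comp σ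
  let R' : T →* Matrix (Fin m) (Fin m) (ResidueField V) :=
    MonoidHom.comp (RingHom.toMonoidHom (f.mapMatrix (m := Fin m))) R
  let σ1 : Representation F T (Fin m → F) :=
    ((Matrix.toLinAlgEquiv' : Matrix (Fin m) (Fin m) F ≃ₐ[F] _) : Matrix (Fin m) (Fin m) F →* _).comp R
  let σ2 : Representation (ResidueField V) T (Fin m → ResidueField V) :=
    ((Matrix.toLinAlgEquiv' : Matrix (Fin m) (Fin m) (ResidueField V) ≃ₐ[ResidueField V] _) :
      Matrix (Fin m) (Fin m) (ResidueField V) →* _).comp R'
  have e1 : ∀ g, σ1 g = b.equivFun.conj (σ g) := by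
    intro g
    show Matrix.toLin' (LinearMap.toMatrix b b (σ g)) = _
    refine LinearMap.ext fun v => ?_
    rw [Matrix.toLin'_apply, LinearEquiv.conj_apply_apply]
    have h1 := LinearMap.toMatrix_mulVec_repr b b (σ g) (b.equivFun.symm v)
    have h2 : (b.repr (b.equivFun.symm v) : Fin m → F) = v := b.equivFun.apply_symm_apply v
    rw [h2] at h1
    exact h1
  have hev1 : ∀ g μ, ev (σ1 g) μ = ev (σ g) μ := by
    intro g μ
    rw [e1]
    have h1 : Module.End.eigenspace (b.equivFun.conj (σ g)) μ = (Module.End.eigenspace (σ g) μ).map (b.equivFun : W →ₗ[F] _) := by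
      ext v
      rw [Module.End.mem_eigenspace_iff, Submodule.mem_map]
      constructor
      · intro h
        refine ⟨b.equivFun.symm v, ?_, b.equivFun.apply_symm_apply v⟩
        rw [Module.End.mem_eigenspace_iff]
        apply b.equivFun.injective
        rw [map_smul, b.equivFun.apply_symm_apply, ← h, LinearEquiv.conj_apply_apply]
      · rintro ⟨w, hw, rfl⟩
        rw [Module.End.mem_eigenspace_iff] at hw
        show b.equivFun.conj (σ g) (b.equivFun w) = μ • b.equivFun w
        rw [LinearEquiv.conj_apply_apply, b.equivFun.symm_apply_apply, hw, map_smul]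
    rw [ev, h1, LinearEquiv.finrank_map_eq]
    rfl
  have hinv1 : finrank F ↥σ1.invariants = finrank F ↥σ.invariants := by
    have h1 : σ1.invariants = σ.invariants.map (b.equivFun : W →ₗ[F] _) := by
      ext v
      rw [Representation.mem_invariants, Submodule.mem_map]
      constructor
      · intro h
        refine ⟨b.equivFun.symm v, ?_, b.equivFun.apply_symm_apply v⟩
        rw [Representation.mem_invariants]
        intro g
        apply b.equivFun.injective
        rw [b.equivFun.apply_symm_apply]
        have h2 := h g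
        rwa [e1, LinearEquiv.conj_apply_apply] at h2
      · rintro ⟨w, hw, rfl⟩ g
        rw [Representation.mem_invariants] at hw
        rw [e1]
        show b.equivFun.conj (σ g) (b.equivFun w) = b.equivFun w
        rw [LinearEquiv.conj_apply_apply, b.equivFun.symm_apply_apply, hw g]
    rw [h1, LinearEquiv.finrank_map_eq]
  have hσ1 : ∀ g, σ1 g = Matrix.toLin' (R g) := fun g => rfl
  have hσ2 : ∀ g, σ2 g = Matrix.toLin' (R' g) := fun g => rfl
  have hinv2 : finrank (ResidueField V) ↥σ2.invariants = finrank F ↥σ1.invariants := by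
    rw [finrank_inv_rank hT R σ1 hσ1, finrank_inv_rank hT' R' σ2 hσ2]
    have h1 : ∑ g, R' g = (∑ g, R g).map f := by
      have h2 : (∑ g, R g).map f = f.mapMatrix (∑ g, R g) := rfl
      rw [h2, map_sum]
      rfl
    rw [h1, Cfsg.Agent.H593.RobinsonRank.rank_map]
  have hev2 : ∀ g, ev (σ2 g) 1 = ev (σ1 g) 1 := by
    intro g
    have h1 := Cfsg.Agent.H815.F4Chg.ev_map f (R g) 1
    rw [map_one] at h1
    exact h1
  have hom : ∀ x, om σ x = om σ2 x := by
    intro x
    unfold om
    congr 1
    refine Finset.sum_congr rfl fun a _ => ?_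
    rw [hev2, hev1]
  rw [Finset.sum_congr rfl fun x _ => hom x, ← artin_res hM hV hcard σ2, hinv2, hinv1]

end fin

/-! ### the values -/

section values
variable {K : Type*} [Field K] {W : Type*} [AddCommGroup W] [Module K W] {T : Type*} [Group T]
  (σ : Representation K T W)

theorem ev_one : ev (σ 1) 1 = finrank K W := by
  rw [ev, map_one]
  have h1 : Module.End.eigenspace (1 : Module.End K W) 1 = ⊤ := by
    rw [eq_top_iff]
    intro v _
    rw [Module.End.mem_eigenspace_iff, one_smul]
    rfl
  rw [h1, finrank_top]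

theorem om_one : om σ 1 = finrank K W := by
  have h := ev_one σ
  rw [map_one] at h
  unfold om
  rw [orderOf_one, Nat.divisorsAntidiagonal_one]
  simp only [h, _root_.one_pow, _root_.map_one, _root_.Finset.sum_singleton, _root_.isUnit_iff_eq_one, _root_.IsUnit.squarefree, _root_.ArithmeticFunction.moebius_apply_of_squarefree, _root_.Int.reduceNeg, _root_.ArithmeticFunction.cardFactors_one, _root_.pow_zero, _root_.Int.cast_one, _root_.Nat.cast_one, _root_.one_mul, _root_.Nat.totient_one, _root_.div_one]

theorem antidiag {r : ℕ} (hr : r.Prime) : r.divisorsAntidiagonal = {(1, r), (r, 1)} := by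
  ext ⟨a, b⟩
  rw [Nat.mem_divisorsAntidiagonal, Finset.mem_insert, Finset.mem_singleton, Prod.mk.injEq, Prod.mk.injEq]
  constructor
  · rintro ⟨h, -⟩
    have h' : a * b = r := h
    rcases (Nat.dvd_prime hr).1 (Dvd.intro b h') with h1 | h1
    · left
      rw [h1, one_mul] at h'
      exact ⟨h1, h'⟩
    · right
      rw [h1] at h'
      exact ⟨h1, Nat.eq_of_mul_eq_mul_left hr.pos (h'.trans (mul_one r).symm)⟩
  · rintro (⟨rfl, rfl⟩ | ⟨rfl, rfl⟩)
    · exact ⟨one_mul _, hr.ne_zero⟩
    · exact ⟨mul_one _, hr.ne_zero⟩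

theorem om_prime {x : T} {r : ℕ} (hr : r.Prime) (h : orderOf x = r) :
    om σ x = ((r : ℚ) * ev (σ x) 1 - finrank K W) / ((r : ℚ) - 1) := by
  unfold om
  rw [h, antidiag hr]
  have h1 : (1, r) ≠ (r, 1) := fun h2 => hr.one_lt.ne (Prod.mk.inj h2).1
  rw [Finset.sum_insert (by simp [h1]), Finset.sum_singleton]
  have h2 : x ^ r = 1 := by rw [← h]; exact pow_orderOf_eq_one x
  have h3 : ((r.totient : ℕ) : ℚ) = (r : ℚ) - 1 := by
    rw [Nat.totient_prime hr, Nat.cast_sub hr.one_lt.le, Nat.cast_one]
  rw [h3, ArithmeticFunction.moebius_apply_prime hr, h2, ev_one σ]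
  simp only [_root_.isUnit_iff_eq_one, _root_.IsUnit.squarefree, _root_.ArithmeticFunction.moebius_apply_of_squarefree, _root_.Int.reduceNeg, _root_.ArithmeticFunction.cardFactors_one, _root_.pow_zero, _root_.Int.cast_one, _root_.pow_one, _root_.one_mul, _root_.Int.cast_neg, _root_.Nat.cast_one, _root_.neg_mul]
  ring

theorem om_four {x : T} (h : orderOf x = 4) : om σ x = 2 * ev (σ x) 1 - ev (σ (x ^ 2)) 1 := by
  unfold om
  have h1 : (4 : ℕ).divisorsAntidiagonal = {(1, 4), (2, 2), (4, 1)} := by decide
  have h2 : (4 : ℕ).totient = 2 := by decide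
  have h3 : ArithmeticFunction.moebius 4 = 0 := by
    rw [ArithmeticFunction.moebius_eq_zero_of_not_squarefree]
    decide
  have h4 : ArithmeticFunction.moebius 2 = -1 := ArithmeticFunction.moebius_apply_prime Nat.prime_two
  rw [h, h1, h2, Finset.sum_insert (by decide), Finset.sum_insert (by decide), Finset.sum_singleton, h3, h4]
  simp only [_root_.isUnit_iff_eq_one, _root_.IsUnit.squarefree, _root_.ArithmeticFunction.moebius_apply_of_squarefree, _root_.Int.reduceNeg, _root_.ArithmeticFunction.cardFactors_one, _root_.pow_zero, _root_.Int.cast_one, _root_.Nat.cast_ofNat, _root_.pow_one, _root_.one_mul, _root_.Int.cast_neg, _root_.map_pow, _root_.neg_mul, _root_.Int.cast_zero, _root_.Nat.cast_one, _root_.MulZeroClass.zero_mul, _root_.add_zero]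
  ring

theorem om_six {x : T} (h : orderOf x = 6) :
    om σ x = (6 * ev (σ x) 1 - 3 * ev (σ (x ^ 2)) 1 - 2 * ev (σ (x ^ 3)) 1 + finrank K W) / 2 := by
  unfold om
  have h1 : (6 : ℕ).divisorsAntidiagonal = {(1, 6), (2, 3), (3, 2), (6, 1)} := by decide
  have h2 : (6 : ℕ).totient = 2 := by decide
  have h4 : ArithmeticFunction.moebius 2 = -1 := ArithmeticFunction.moebius_apply_prime Nat.prime_two
  have h5 : ArithmeticFunction.moebius 3 = -1 := ArithmeticFunction.moebius_apply_prime Nat.prime_three
  have h3 : ArithmeticFunction.moebius 6 = 1 := by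
    have h6 := ArithmeticFunction.isMultiplicative_moebius.map_mul_of_coprime (m := 2) (n := 3) (by decide)
    rw [h4, h5] at h6
    exact h6
  have h6 : x ^ 6 = 1 := by rw [← h]; exact pow_orderOf_eq_one x
  rw [h, h1, h2, Finset.sum_insert (by decide), Finset.sum_insert (by decide), Finset.sum_insert (by decide),
    Finset.sum_singleton, h3, h4, h5, h6, ev_one σ]
  simp only [_root_.isUnit_iff_eq_one, _root_.IsUnit.squarefree, _root_.ArithmeticFunction.moebius_apply_of_squarefree, _root_.Int.reduceNeg, _root_.ArithmeticFunction.cardFactors_one, _root_.pow_zero, _root_.Int.cast_one, _root_.Nat.cast_ofNat, _root_.pow_one, _root_.one_mul, _root_.Int.cast_neg, _root_.map_pow, _root_.neg_mul, _root_.Nat.cast_one, _root_.ne_eq, _root_.OfNat.ofNat_ne_zero, _root_.not_false_eq_true, _root_.div_left_inj']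
  ring

theorem om_fifteen {x : T} (h : orderOf x = 15) :
    om σ x = (15 * ev (σ x) 1 - 5 * ev (σ (x ^ 3)) 1 - 3 * ev (σ (x ^ 5)) 1 + finrank K W) / 8 := by
  unfold om
  have h1 : (15 : ℕ).divisorsAntidiagonal = {(1, 15), (3, 5), (5, 3), (15, 1)} := by decide
  have h2 : (15 : ℕ).totient = 8 := by decide
  have h4 : ArithmeticFunction.moebius 3 = -1 := ArithmeticFunction.moebius_apply_prime Nat.prime_three
  have h5 : ArithmeticFunction.moebius 5 = -1 := ArithmeticFunction.moebius_apply_prime Nat.prime_five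
  have h3 : ArithmeticFunction.moebius 15 = 1 := by
    have h6 := ArithmeticFunction.isMultiplicative_moebius.map_mul_of_coprime (m := 3) (n := 5) (by decide)
    rw [h4, h5] at h6
    exact h6
  have h6 : x ^ 15 = 1 := by rw [← h]; exact pow_orderOf_eq_one x
  rw [h, h1, h2, Finset.sum_insert (by decide), Finset.sum_insert (by decide), Finset.sum_insert (by decide),
    Finset.sum_singleton, h3, h4, h5, h6, ev_one σ]
  simp only [_root_.isUnit_iff_eq_one, _root_.IsUnit.squarefree, _root_.ArithmeticFunction.moebius_apply_of_squarefree, _root_.Int.reduceNeg, _root_.ArithmeticFunction.cardFactors_one, _root_.pow_zero, _root_.Int.cast_one, _root_.Nat.cast_ofNat, _root_.pow_one, _root_.one_mul, _root_.Int.cast_neg, _root_.map_pow, _root_.neg_mul, _root_.Nat.cast_one, _root_.ne_eq, _root_.OfNat.ofNat_ne_zero, _root_.not_false_eq_true, _root_.div_left_inj']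
  ring

/-- `om` of a restriction -/
theorem om_comp {A : Type*} [Group A] (f : A →* T) (hf : Function.Injective f) (x : A) :
    om (MonoidHom.comp σ f) x = om σ (f x) := by
  unfold om
  rw [orderOf_injective f hf]
  congr 1
  refine Finset.sum_congr rfl fun a _ => ?_
  rw [← map_pow]
  rfl

end values

end Cfsg.Agent.R2.T1.Art

private theorem dce_b2cfa599a51a : _root_.True := by
  try have : _root_.True := by simp only [_root_.Cfsg.Agent.H657.bc.congr_simp]
  try have : _root_.True := by simp only [_root_.Cfsg.Agent.R2.T1.Art.om.eq_1]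
  exact _root_.True.intro
end
end
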