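import Mathlib
import Cfsg.Agent.R2.PX.Conf_m3
import Cfsg.Agent.R2.T1.Inf.LForm
import Cfsg.Agent.R2.T1.Five.Adj
import Cfsg.Agent.R2.T1.Inf.Cnt_m3
import Cfsg.Agent.R2.T1.Inf.Dia
import Cfsg.Agent.R2.PX.W.Cl_m3
import Cfsg.Agent.R2.T1.P3.Q3
import Cfsg.Agent.ChevFast.E7
import Cfsg.Agent.ChevFast.E8
import Cfsg.Agent.R2.T1.Mu2.Fix_m3
import Cfsg.Agent.Lib.ListFast
import Mathlib.GroupTheory.Perm.Sign
import Cfsg.Agent.R2.T1.Odd.T9
import Cfsg.Agent.FastGrp
import Cfsg.Agent.Prune
set_option linter.all false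

section
prune_inst 0x7ffdb9f9bbbcebffdfff7e7faed4fffdf9bb3fffe6def9cb7fe061ff2b9f7b8089c52b858be010fe1e96429410b87853fbffefffe86bdc7ffffd5ff41ffbee4fe5f63508519488340fb80fff03f0778e7f3fffffffffffffffffffffffffffbeffffffffffff

-- part: R2/T1/Five/BetaTab
section
set_option linter.all false
open scoped Cfsg.Agent.FastGrp

/-!
# The roots attached to the involutions with 32 fixed weights: the tables (helper25)

* `pr β s` : the value of the coroot of `β` on the root `s`;
* `BL` : the two roots;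
* `inv_chk`, `pr_cases`, `pr_F7`, `HH_chk`.
-/

set_option autoImplicit false
set_option maxRecDepth 100000

namespace Cfsg.Agent.R2.T1.Five

open Cfsg Cfsg.Lie
open Cfsg.Agent.ChevalleyStructure Cfsg.Agent.ChevalleyStructure.Columns
open Cfsg.Agent.H944.Tab Cfsg.Agent.H944.E7Two
open Cfsg.Agent.R2.T1

/-! ### the Cartan integers and the coroots as packed tables (helper40's block) -/

private noncomputable def fsA (a b : Bool) : Bool := Bool.rec false b a

private theorem fsA_true {a b : Bool} (h : fsA a b = true) : a = true ∧ b = true := by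
  cases a
  · exact absurd h Bool.false_ne_true
  · exact ⟨rfl, h⟩

private def fsI (v : ℕ) : ℤ := cond (Nat.beq v 0) 0 (Int.subNatNat v 8)

private def fsZ (W T i r : ℕ) : ℤ :=
  fsI (Nat.mod (Nat.shiftRight (Nat.mod (Nat.shiftRight T (Nat.mul W i)) (Nat.pow 2 W)) (Nat.mul 4 r)) 16)

private noncomputable def fsX (l : List ℤ) : ℕ → Bool :=
  List.rec (fun c => Nat.beq c 0) (fun x _ ih c => fsA (decide (x = fsI (Nat.mod c 16))) (ih (Nat.shiftRight c 4))) l

private noncomputable def fsY (W : ℕ) (L : List (Array ℤ)) : ℕ → Bool :=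
  List.rec (fun T => Nat.beq T 0)
    (fun x _ ih T => fsA (fsX x.toList (Nat.mod T (Nat.pow 2 W))) (ih (Nat.shiftRight T W))) L

private theorem fsX_spec : ∀ (l : List ℤ) (c : ℕ), fsX l c = true → ∀ r, l.getD r 0 = fsI (c >>> (4 * r) % 16)
  | [], c, h, r => by
    rw [Nat.eq_of_beq_eq_true h, Nat.zero_shiftRight]
    rfl
  | x :: l, c, h, 0 => of_decide_eq_true (fsA_true h).1
  | x :: l, c, h, r + 1 => by
    rw [show 4 * (r + 1) = 4 + 4 * r by ring, Nat.shiftRight_add]
    exact fsX_spec l _ (fsA_true h).2 r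

private theorem fsY_spec (W : ℕ) : ∀ (L : List (Array ℤ)) (T : ℕ), fsY W L T = true → ∀ i r,
    (L.getD i #[]).toList.getD r 0 = fsZ W T i r
  | [], T, h, i, r => by
    rw [Nat.eq_of_beq_eq_true h, show fsZ W 0 i r = fsI ((0 >>> (W * i) % Nat.pow 2 W) >>> (4 * r) % 16) from rfl,
      Nat.zero_shiftRight, Nat.zero_mod, Nat.zero_shiftRight]
    rfl
  | x :: L, T, h, 0, r => fsX_spec _ _ (fsA_true h).1 r
  | x :: L, T, h, i + 1, r => by
    rw [show fsZ W T (i + 1) r = fsI ((T >>> (W * (i + 1)) % Nat.pow 2 W) >>> (4 * r) % 16) from rfl,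
      show W * (i + 1) = W + W * i by ring, Nat.shiftRight_add]
    exact fsY_spec W L _ (fsA_true h).2 i r

private theorem fs_z {A : Array (Array ℤ)} {W T : ℕ} (h : fsY W A.toList T = true) (i r : ℕ) :
    (A.getD i #[]).getD r 0 = fsZ W T i r := by
  rw [← fsY_spec W _ _ h i r, List.getD_eq_getElem?_getD, List.getD_eq_getElem?_getD, Array.getElem?_toList,
    Array.getElem?_toList, ← Array.getD_eq_getD_getElem?, ← Array.getD_eq_getD_getElem?]

private theorem car_eq : car chevE7 = fsZ 504 0x88888978897897978897978978897888889797897889788897888978897897a6978978897888978889788978979788888978897897978897978978897888888888978897897889797889789788978889788978978897888978889788979a796797889788897888978897897889788897889789788979788978978897888888897889788899778899778889788978889977888978897888978889799a77889967797888978889788978889977888978897888997788997788897889788888978888999777888888999777888897888899977788889788897999a7778888889996777978889788889997778888978888999777888888999777888897888978888888899999977777788888888978888889999777789999a777788888888888899996777789999777788888897888888889999997777778888888897888899997777888888888888999977778888888899999999a77778777788888888888899998999967777777788888888999977778888888888889999777788897888888888888888999999999999999a777777777788888777778888888888888888888899999888889999999999677777777777777788888888888888897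 :=
  funext fun i => funext fun r => fs_z (by decide +kernel) i r

private theorem cor_eq : cor chevE7 = fsZ 28 0x9abcbaa9abcba99abcaa99abbaa99aabaa999abaa989abaa99abba999aaba9999aba9989aba999aaaa9999aaa9989aaa99999aa99899aa99889aa999aaa99999aa99989aa999999a999899a999889a99999999998999999889999988899999999989899998988999898889989888898988888899aaa99899aa99889aa998999a998899a998889a998999999889999988899998888999899998988999898889989888898988888898999998889999888899988888998888889889999888899988888998888889888999888889988888898888998888889888889888888788888887888887788888887888887788887778888888788888778888777888777788888887888887788887778887777887777788888887888878788877878877787877778788887778887777887777787777778887677887767787776778876677877667787666778888888788887878887787887778787777877777787888777788777778777777777777788767778776777777677787667777766777766677788766778776677777667787666777766677766667787656777765677766567776556778765667776566776656677655667765466776545677654566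 :=
  funext fun i => funext fun r => fs_z (by decide +kernel) i r

/-- the value of the coroot of `β` on the root `s` -/
def pr (β s : ℕ) : ℤ := ∑ i : Fin 7, cor chevE7 β i.val * car chevE7 i.val s

/-- the highest root and a simple root -/
def BL : List ℕ := [125, 63]

theorem BL_cases {β : ℕ} (h : β ∈ BL) : β = 125 ∨ β = 63 := by
  simpa [BL] using h

theorem BL_lt {β : ℕ} (h : β ∈ BL) : β < 126 := by
  rcases BL_cases h with rfl | rfl <;> norm_num

/-- the involutions of the torus with 32 fixed weights in the alcove -/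
theorem inv_chk : ∀ m < 128, (TW.filter (ev2 (bits m))).length = 32 →
    ((List.range 7).map fun i => if ev2 (bits m) (rowR (chevE7.simple i)) then 0 else th7.getD i 0).sum ≤ 2 →
    m = 84 ∨ m = 64 := by decide +kernel

theorem bits_125 : ∀ i < 7, 84 / 2 ^ i % 2 = (cor chevE7 125 i % 2).toNat := by decide +kernel
theorem bits_63 : ∀ i < 7, 64 / 2 ^ i % 2 = (cor chevE7 63 i % 2).toNat := by decide +kernel

theorem pr_cases : ∀ β ∈ BL, ∀ s < 126, (pr β s = 0 ∧ s ≠ β ∧ s ≠ 125 - β) ∨ ((pr β s = 1 ∨ pr β s = -1) ∧ s ≠ β ∧ s ≠ 125 - β)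
    ∨ (pr β s = 2 ∧ s = β) ∨ (pr β s = -2 ∧ s = 125 - β) := by
  delta pr
  rw [car_eq, cor_eq]
  decide +kernel

theorem pr_F7 : ∀ β ∈ BL, ∀ s < 126, pr β s = 0 → F7 β s = [] ∧ F7 (125 - β) s = [] := by
  delta pr
  rw [car_eq, cor_eq]
  decide +kernel

theorem pr_symm : ∀ β ∈ BL, ∀ s < 126, pr s β = pr β s := by
  delta pr
  rw [car_eq, cor_eq]
  decide +kernel

theorem car_neg7 : ∀ i < 7, ∀ s < 126, car chevE7 i (125 - s) = - car chevE7 i s := by
  rw [car_eq]
  decide +kernel

/-- the sign -/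
def sgn (β s : ℕ) : ℤ := if pr β s % 2 = 0 then 1 else -1

theorem HH_chk : ∀ β ∈ BL, ∀ i < 7, ∀ j < 7,
    ((List.range 126).map fun s => sgn β s * (car chevE7 i s * car chevE7 j s)).sum =
      4 * car chevE7 i (chevE7.simple j) - 16 * (car chevE7 i β * car chevE7 j β) := by
  delta sgn pr
  rw [car_eq, cor_eq]
  decide +kernel

theorem sum_range_126 (f : ℕ → ℤ) : ∑ s : Fin 126, f s.val = ((List.range 126).map f).sum := by
  rw [Fin.sum_univ_eq_sum_range f 126]
  rfl

theorem HH {β : ℕ} (h : β ∈ BL) {i j : ℕ} (hi : i < 7) (hj : j < 7) :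
    ∑ s : Fin 126, sgn β s.val * (car chevE7 i s.val * car chevE7 j s.val) =
      4 * car chevE7 i (chevE7.simple j) - 16 * (car chevE7 i β * car chevE7 j β) := by
  rw [← HH_chk β h i hi j hj, sum_range_126 fun s => sgn β s * (car chevE7 i s * car chevE7 j s)]

end Cfsg.Agent.R2.T1.Five

private theorem dce_ac2ade487248 : _root_.True := by
  try have : _root_.True := by simp only [_root_.Cfsg.Agent.R2.T1.Five.BL.eq_1]
  exact _root_.True.intro
end

-- part: R2/T1/Five/Beta
section
set_option linter.all false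
open scoped Cfsg.Agent.FastGrp

/-!
# The involutions with 32 fixed weights and the attached subgroup of type `A₁` (helper25)

* `exists_beta` : representatives `Phi K (hb β (-1))`, `β ∈ BL`;
* `tb_fix_iff` : the fixed vectors of the representatives;
* `EM_fix`, `xs_fix` : the action of the root elements of the roots `β`, `-β` on the fixed vectors.
-/

set_option autoImplicit false
set_option linter.unusedSectionVars false
set_option maxRecDepth 100000

namespace Cfsg.Agent.R2.T1.Five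

open Cfsg Cfsg.Lie Module Matrix
open Cfsg.Agent.ChevalleyStructure Cfsg.Agent.ChevalleyStructure.Elts Cfsg.Agent.ChevalleyStructure.Columns
open Cfsg.Agent.ChevalleyStructure.CoxeterGeomTypes
open Cfsg.Agent.ChevalleyStructure.StBasic Cfsg.Agent.H129.StCover
open Cfsg.Agent.H943.E7V.Block (D1)
open Cfsg.Agent.H944.Kac Cfsg.Agent.H944.Tab Cfsg.Agent.H944.E7Two
open Cfsg.Agent.H952.F4 (ev es)
open Cfsg.Agent.R2.T1

universe u

section
variable {K : Type u} [Field K]

/-- the torus acts on the root elements -/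
theorem Phi_xs (a : Fin chevE7.rank → Kˣ) {r : ℕ} (hr : r < 126) (t : K) :
    Phi K a * xs K r t * (Phi K a)⁻¹ = xs K r (((rtv r a : Kˣ) : K) * t) := by
  have key : ∀ S : Finset (Fin chevE7.rank), ∀ t : K, Phi K (∏ i ∈ S, Pi.mulSingle i (a i)) * xs K r t *
      (Phi K (∏ i ∈ S, Pi.mulSingle i (a i)))⁻¹ = xs K r (((∏ i ∈ S, a i ^ chevE7.cartan i r : Kˣ) : K) * t) := by
    intro S
    induction S using Finset.induction_on with
    | empty =>
      intro t
      rw [Finset.prod_empty, Finset.prod_empty, map_one, one_mul, inv_one, mul_one, Units.val_one, one_mul]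
    | insert i S hi ih =>
      intro t
      rw [Finset.prod_insert hi, Finset.prod_insert hi, map_mul, isPhi.single]
      have e : sth chevE7 (chevE7.simple i) ((a i : Kˣ) : K) * Phi K (∏ i ∈ S, Pi.mulSingle i (a i)) * xs K r t *
          (sth chevE7 (chevE7.simple i) ((a i : Kˣ) : K) * Phi K (∏ i ∈ S, Pi.mulSingle i (a i)))⁻¹ =
          sth chevE7 (chevE7.simple i) ((a i : Kˣ) : K) * (Phi K (∏ i ∈ S, Pi.mulSingle i (a i)) * xs K r t *
          (Phi K (∏ i ∈ S, Pi.mulSingle i (a i)))⁻¹) * (sth chevE7 (chevE7.simple i) ((a i : Kˣ) : K))⁻¹ := by group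
      rw [e, ih]
      have h := h_conj (K := K) e7T.inList i r i.2 hr (a i).ne_zero (((∏ i ∈ S, a i ^ chevE7.cartan i r : Kˣ) : K) * t)
      refine h.trans ?_
      show xs K r _ = _
      rw [Units.val_mul, Units.val_zpow_eq_zpow_val, mul_assoc]
  have h := key Finset.univ t
  rw [Finset.univ_prod_mulSingle] at h
  exact h

/-- the subgroup of the torus given by the coroot of `β` -/
def hb (β : ℕ) (x : Kˣ) : Fin chevE7.rank → Kˣ := fun i => x ^ cor chevE7 β i.val

theorem rtv_hb (β s : ℕ) (x : Kˣ) : rtv s (hb β x) = x ^ pr β s := by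
  unfold rtv hb pr
  rw [← prod_zpow_sum]
  exact Finset.prod_congr rfl fun i _ => (_root_.zpow_mul _ _ _).symm

theorem hb_mul (β : ℕ) (x y : Kˣ) : hb β (x * y) = hb β x * hb β y := by
  funext i
  exact mul_zpow _ _ _

theorem hb_one (β : ℕ) : hb β (1 : Kˣ) = 1 := by
  funext i
  exact one_zpow _

theorem hb_pow (β : ℕ) (x : Kˣ) (n : ℕ) : hb β (x ^ n) = hb β x ^ n := by
  induction n with
  | zero => rw [pow_zero, pow_zero, hb_one]
  | succ n ih => rw [pow_succ, pow_succ, hb_mul, ih]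

/-- **representatives** -/
theorem exists_beta (h2 : (2 : K) ≠ 0) {Z : Gh K}
    (h : ∃ (g : Gh K) (c : Fin chevE7.rank → Kˣ), Phi K c = g * Z * g⁻¹ ∧ c ^ 2 = 1) (h32 : ev (V K Z) 1 = 32) :
    ∃ β ∈ BL, ∃ g : Gh K, Phi K (hb β (-1)) = g * Z * g⁻¹ := by
  have hne := neg_ne h2
  have hz : IsPrimitiveRoot (-1 : Kˣ) 2 := by
    refine ⟨by rw [neg_one_sq], fun l hl => ?_⟩
    rcases Nat.even_or_odd l with h1 | h1
    · exact even_iff_two_dvd.1 h1
    · rw [h1.neg_one_pow] at hl
      exact absurd hl hne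
  obtain ⟨g, c, y, h1, h3, h4, h5⟩ := exists_alc (by norm_num) hz h
  obtain ⟨m, hm, rfl⟩ := exists_tm (t := c) (by rw [← pow_two, h3])
  have h6 : (TW.filter (ev2 (bits m))).length = 32 := by
    have h7 : ev (V K (Phi K (tm K m))) 1 = (TW.filter (ev2 (bits m))).length := ev_Phi _ _ fun s => wt_tm_iff h2 m s
    rw [← h7, h1, Cfsg.Agent.H952.F4.TabLin.ev_conj, h32]
  have h7 : ((List.range 7).map fun i => if ev2 (bits m) (rowR (chevE7.simple i)) then 0 else th7.getD i 0).sum ≤ 2 := by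
    refine le_trans ?_ h5
    rw [dotN_eq 7 th7 _ (by decide)]
    have e1 : ((List.range 7).map fun i => if ev2 (bits m) (rowR (chevE7.simple i)) then 0 else th7.getD i 0).sum =
        ∑ i : Fin 7, if ev2 (bits m) (rowR (chevE7.simple i)) then 0 else th7.getD i.val 0 := by
      rw [Fin.sum_univ_eq_sum_range (fun i => if ev2 (bits m) (rowR (chevE7.simple i)) then 0 else th7.getD i 0) 7]
      rfl
    rw [e1]
    refine Finset.sum_le_sum fun i _ => ?_
    split_ifs with h8
    · exact Nat.zero_le _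
    · have h9 : rtv (chevE7.simple i) (tm K m) = -1 := by
        rcases rtv_tm (K := K) m (chevE7.simple i) with ⟨h9, -⟩ | ⟨-, h9⟩
        · exact absurd h9 h8
        · exact h9
      rw [h4 i] at h9
      have h10 : y i ≠ 0 := by
        intro h10
        rw [h10, pow_zero] at h9
        exact hne h9.symm
      have e2 : (List.ofFn y).getD i 0 = y i := by
        rw [List.getD_eq_getElem _ _ (by rw [List.length_ofFn]; exact i.2), List.getElem_ofFn]
      rw [e2]
      exact Nat.le_mul_of_pos_right _ (Nat.pos_of_ne_zero h10)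
  have hsg : ∀ m : ℤ, (-1 : Kˣ) ^ (m % 2).toNat = (-1) ^ m := by
    intro m
    rw [← zpow_natCast, Int.toNat_of_nonneg (Int.emod_nonneg _ (by norm_num))]
    conv_rhs => rw [← Int.emod_add_mul_ediv m 2]
    rw [_root_.zpow_add, _root_.zpow_mul]
    norm_num
  rcases inv_chk m hm h6 h7 with rfl | rfl
  · refine ⟨125, by decide, g, ?_⟩
    rw [← h1]
    congr 1
    funext i
    show (-1 : Kˣ) ^ cor chevE7 125 i.val = (-1) ^ (84 / 2 ^ i.val % 2)
    rw [bits_125 i.val i.2, hsg]
  · refine ⟨63, by decide, g, ?_⟩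
    rw [← h1]
    congr 1
    funext i
    show (-1 : Kˣ) ^ cor chevE7 63 i.val = (-1) ^ (64 / 2 ^ i.val % 2)
    rw [bits_63 i.val i.2, hsg]

/-! ### the fixed vectors -/

/-- the vectors without odd components -/
def Ev (β : ℕ) (X : chevE7.Idx → K) : Prop := ∀ s : Fin chevE7.nroots, (pr β s.val = 1 ∨ pr β s.val = -1) → X (Sum.inr s) = 0

theorem tb_fix_iff (h2 : (2 : K) ≠ 0) {β : ℕ} (hβ : β ∈ BL) (X : chevE7.Idx → K) :
    L K (Phi K (hb β (-1))) X = X ↔ Ev β X := by
  constructor
  · intro h s hs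
    have h1 := congrFun h (Sum.inr s)
    rw [Five.L_Phi, Sum.elim_inr, rtv_hb] at h1
    have h3 : ((-1 : Kˣ) ^ pr β s.val) = -1 := by
      rcases hs with hs | hs <;> rw [hs] <;> norm_num
    rw [h3, Units.val_neg, Units.val_one] at h1
    have h4 : (2 : K) * X (Sum.inr s) = 0 := by linear_combination -h1
    exact (mul_eq_zero.1 h4).resolve_left h2
  · intro h
    funext i
    rw [Five.L_Phi]
    rcases i with i | s
    · rw [Sum.elim_inl, one_mul]
    · rw [Sum.elim_inr, rtv_hb]
      rcases pr_cases β hβ s.val s.2 with ⟨h3, -⟩ | ⟨h3, -⟩ | ⟨h3, -⟩ | ⟨h3, -⟩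
      · rw [h3, zpow_zero, Units.val_one, one_mul]
      · rw [h s h3, mul_zero]
      · rw [h3]; norm_num
      · rw [h3]; norm_num

/-- the value of the root `r` on the Cartan part of `X` -/
def al (r : ℕ) (X : chevE7.Idx → K) : K := ∑ i : Fin chevE7.rank, ((car chevE7 i.val r : ℤ) : K) * X (Sum.inl i)

/-- the coroot `h_r` -/
def hv (K : Type u) [Field K] (r : ℕ) : chevE7.Idx → K :=
  Sum.elim (fun i : Fin chevE7.rank => ((cor chevE7 r i.val : ℤ) : K)) fun _ => 0

theorem al_add (r : ℕ) (X Y : chevE7.Idx → K) : al r (X + Y) = al r X + al r Y := by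
  unfold al
  rw [← Finset.sum_add_distrib]
  exact Finset.sum_congr rfl fun i _ => by rw [Pi.add_apply]; ring

theorem al_smul (r : ℕ) (c : K) (X : chevE7.Idx → K) : al r (c • X) = c * al r X := by
  unfold al
  rw [Finset.mul_sum]
  exact Finset.sum_congr rfl fun i _ => by rw [Pi.smul_apply, smul_eq_mul]; ring

theorem al_er (r : ℕ) (s : Fin chevE7.nroots) : al r (er K s) = 0 := by
  unfold al er
  exact Finset.sum_eq_zero fun i _ => by rw [Pi.single_eq_of_ne (by simp), mul_zero]

theorem al_hv (r s : ℕ) : al r (hv K s) = ((pr s r : ℤ) : K) := by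
  unfold al hv pr
  push_cast
  exact Finset.sum_congr rfl fun i _ => by rw [Sum.elim_inl]; ring

theorem al_neg {r : ℕ} (hr : r < 126) (X : chevE7.Idx → K) : al (125 - r) X = - al r X := by
  unfold al
  rw [← Finset.sum_neg_distrib]
  refine Finset.sum_congr rfl fun i _ => ?_
  rw [car_neg7 i.val i.2 r hr]
  push_cast
  ring

theorem pr_self {r : ℕ} (hr : r < 126) : pr r r = 2 := by
  have h := sum_car_cor r hr
  unfold pr
  rw [← h]
  exact Finset.sum_congr rfl fun i _ => mul_comm _ _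

theorem EM_fix {β : ℕ} (hβ : β ∈ BL) {r : Fin chevE7.nroots} (hr : r.val = β ∨ r.val = 125 - β) {X : chevE7.Idx → K}
    (hX : Ev β X) : EM K r.val *ᵥ X = X (Sum.inr (ng r)) • hv K r.val - al r.val X • er K r := by
  have hrl : r.val < 126 := r.2
  funext a
  rw [Matrix.mulVec, dotProduct, Fintype.sum_sum_type, Pi.sub_apply, Pi.smul_apply, Pi.smul_apply, smul_eq_mul, smul_eq_mul]
  rcases a with i | u
  · simp only [EM_ll, zero_mul, Finset.sum_const_zero, zero_add]
    rw [Finset.sum_eq_single (ng r)]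
    · rw [EM_lr, if_pos (ng_val r)]
      show _ = _ * ((cor chevE7 r.val i.val : ℤ) : K) - _ * er K r (Sum.inl i)
      rw [er, Pi.single_eq_of_ne (by simp), mul_zero, sub_zero, mul_comm]
    · intro s _ hs
      rw [EM_lr, if_neg (show ¬ s.val = 125 - r.val from fun h => hs (Fin.ext h)), zero_mul]
    · intro h; exact absurd (Finset.mem_univ _) h
  · have h0 : ∑ s : Fin chevE7.nroots, EM K r.val (Sum.inr u) (Sum.inr s) * X (Sum.inr s) = 0 := by
      refine Finset.sum_eq_zero fun s _ => ?_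
      rw [EM_rr]
      have hF : F7 r.val s.val = [] ∨ X (Sum.inr s) = 0 := by
        rcases pr_cases β hβ s.val s.2 with ⟨h3, -⟩ | ⟨h3, -⟩ | ⟨-, h3⟩ | ⟨-, h3⟩
        · left
          obtain ⟨h4, h5⟩ := pr_F7 β hβ s.val s.2 h3
          rcases hr with hr | hr <;> rw [hr]
          · exact h4
          · exact h5
        · exact Or.inr (hX s h3)
        · left
          have hβ' := BL_lt hβ
          rcases hr with hr | hr
          · rw [h3, ← hr]; exact F7_self hrl
          · have : s.val = 125 - r.val := by omega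
            rw [this]; exact F7_neg hrl
        · left
          rcases hr with hr | hr
          · rw [h3, ← hr]; exact F7_neg hrl
          · rw [h3, ← hr]; exact F7_self hrl
      rcases hF with hF | hF
      · rw [cf_nil hF, Int.cast_zero, zero_mul]
      · rw [hF, mul_zero]
    rw [h0, add_zero]
    show _ = X (Sum.inr (ng r)) * 0 - al r.val X * er K r (Sum.inr u)
    rw [mul_zero, zero_sub, er]
    by_cases hu : u = r
    · subst hu
      rw [Pi.single_eq_same, mul_one, al, ← Finset.sum_neg_distrib]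
      refine Finset.sum_congr rfl fun i _ => ?_
      rw [EM_rl, if_pos rfl, neg_mul]
    · rw [Pi.single_eq_of_ne (by simpa using hu), mul_zero, neg_zero]
      refine Finset.sum_eq_zero fun i _ => ?_
      rw [EM_rl, if_neg (fun h => hu (Fin.ext h)), zero_mul]

/-- the action of the root elements -/
theorem xs_fix {β : ℕ} (hβ : β ∈ BL) {r : Fin chevE7.nroots} (hr : r.val = β ∨ r.val = 125 - β) {X : chevE7.Idx → K}
    (hX : Ev β X) (t : K) : L K (xs K r.val t) X =
      X + t • (X (Sum.inr (ng r)) • hv K r.val - al r.val X • er K r) + t ^ 2 • (-X (Sum.inr (ng r))) • er K r := by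
  rw [L_xs (show r.val < 126 from r.2), EM_fix hβ hr hX, QM_mulVec]

end

end Cfsg.Agent.R2.T1.Five

private theorem dce_1d50e88493b1 : _root_.True := by
  try have : _root_.True := by simp only [_root_.Cfsg.Agent.R2.T1.Five.al.eq_1]
  exact _root_.True.intro
end

-- part: R2/T1/Five/PForm
section
prune_inst 0x24606444304002000018050030000020080000000000080098200c000043b4622d40a00122a008069a0684442830004001000100420000000a00000001190080800042048348a104660009802080000000000000000000000000000000041000000000000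
set_option linter.all false
open scoped Cfsg.Agent.FastGrp

/-!
# The trace form of an involution with 32 fixed weights (helper25)

* `BF_tb` : the trace form of `Phi K (hb β (-1))` on its fixed vectors.
-/

set_option autoImplicit false
set_option linter.unusedSectionVars false
set_option maxRecDepth 100000

namespace Cfsg.Agent.R2.T1.Five

open Cfsg Cfsg.Lie Module Matrix
open Cfsg.Agent.ChevalleyStructure Cfsg.Agent.ChevalleyStructure.Elts Cfsg.Agent.ChevalleyStructure.Columns
open Cfsg.Agent.R2.T1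

universe u

section
variable {K : Type u} [Field K]

/-- the forms `kf` and `al` -/
theorem kf_hv {r : ℕ} (hr : r < 126) (X : chevE7.Idx → K) : kf K X (hv K r) = al r X := by
  rw [kf_apply, dotProduct, Fintype.sum_sum_type, al]
  have h0 : ∑ u : Fin chevE7.nroots, X (Sum.inr u) * (KM K *ᵥ hv K r) (Sum.inr u) = 0 := by
    refine Finset.sum_eq_zero fun u _ => ?_
    rw [KM_mulVec_inr]
    show X (Sum.inr u) * 0 = 0
    rw [mul_zero]
  rw [h0, add_zero]
  refine Finset.sum_congr rfl fun i _ => ?_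
  rw [KM_mulVec_inl]
  have h1 := congrArg (Int.cast (R := K)) (sum_car_simple r hr i.val i.2)
  push_cast at h1
  rw [mul_comm, ← h1]
  rfl

/-- vectors of the Cartan subalgebra are fixed by the torus -/
theorem Phi_inl (a : Fin chevE7.rank → Kˣ) {X : chevE7.Idx → K} (h : ∀ s, X (Sum.inr s) = 0) : L K (Phi K a) X = X := by
  funext i
  rw [Five.L_Phi]
  rcases i with i | s
  · rw [Sum.elim_inl, one_mul]
  · rw [h, mul_zero]

theorem Phi_er (a : Fin chevE7.rank → Kˣ) (s : Fin chevE7.nroots) :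
    L K (Phi K a) (er K s) = ((rtv s.val a : Kˣ) : K) • er K s := by
  funext i
  rw [Five.L_Phi, Pi.smul_apply, smul_eq_mul]
  rcases i with i | u
  · rw [er, Pi.single_eq_of_ne (by simp), mul_zero, mul_zero]
  · by_cases hu : u = s
    · subst hu; rfl
    · rw [er, Pi.single_eq_of_ne (by simpa using hu), mul_zero, mul_zero]

theorem Phi_comm (a b : Fin chevE7.rank → Kˣ) : Phi K a * Phi K b = Phi K b * Phi K a := by
  rw [← map_mul, ← map_mul, mul_comm]

theorem zpow_ne {x : Kˣ} (hx : x ^ 12 ≠ 1) {e : ℤ} (he : e ≠ 0) (h1 : -4 ≤ e) (h2 : e ≤ 4) : x ^ e ≠ 1 := by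
  intro h
  apply hx
  have h3 : e = -4 ∨ e = -3 ∨ e = -2 ∨ e = -1 ∨ e = 1 ∨ e = 2 ∨ e = 3 ∨ e = 4 := by omega
  obtain ⟨k, hk⟩ : ∃ k : ℤ, (12 : ℤ) = e * k := by
    rcases h3 with rfl | rfl | rfl | rfl | rfl | rfl | rfl | rfl
    exacts [⟨-3, by norm_num⟩, ⟨-4, by norm_num⟩, ⟨-6, by norm_num⟩, ⟨-12, by norm_num⟩, ⟨12, by norm_num⟩,
      ⟨6, by norm_num⟩, ⟨4, by norm_num⟩, ⟨3, by norm_num⟩]
  have h4 : x ^ (12 : ℤ) = 1 := by rw [hk, _root_.zpow_mul, h, _root_.one_zpow]
  exact_mod_cast h4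

theorem exists_sep {x : Kˣ} (hx : x ^ 12 ≠ 1) {s : ℕ} (hs : s < 126) : ∃ a : Fin chevE7.rank → Kˣ, rtv s a ≠ 1 := by
  by_contra hne
  push Not at hne
  apply codes_pos s hs
  have h0 : code3 s = (List.range 7).foldl (fun a j => 3 * a + (fun _ => 0) j) 0 := by
    refine foldl_congr _ _ _ (fun j hj => ?_) 0
    have hj' := List.mem_range.1 hj
    obtain ⟨b1, b2⟩ := car_bound s hs j hj'
    have h1 := hne (Pi.mulSingle (⟨j, hj'⟩ : Fin chevE7.rank) x)
    rw [rtv_single] at h1
    have h2 : car chevE7 j s = 0 := by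
      by_contra h3
      exact zpow_ne hx h3 (by omega) (by omega) h1
    rw [h2]; rfl
  rw [h0]
  decide

theorem exists_sep2 {x : Kˣ} (hx : x ^ 12 ≠ 1) {r s : ℕ} (hr : r < 126) (hs : s < 126) (h : s ≠ 125 - r) :
    ∃ a : Fin chevE7.rank → Kˣ, rtv r a * rtv s a ≠ 1 := by
  by_contra hne
  push Not at hne
  apply h
  apply code_inj hs (by omega)
  refine foldl_congr _ _ _ (fun j hj => ?_) 0
  have hj' := List.mem_range.1 hj
  obtain ⟨b1, b2⟩ := car_bound s hs j hj'
  obtain ⟨b3, b4⟩ := car_bound r hr j hj'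
  have h1 := hne (Pi.mulSingle (⟨j, hj'⟩ : Fin chevE7.rank) x)
  rw [rtv_single, rtv_single, ← _root_.zpow_add] at h1
  have h2 : car chevE7 j r + car chevE7 j s = 0 := by
    by_contra h3
    exact zpow_ne hx h3 (by omega) (by omega) h1
  rw [car_neg7 j hj' r hr]
  congr 2
  omega

variable {β : ℕ}

/-- the trace form vanishes -/
theorem BF_inl_er {x : Kˣ} (hx : x ^ 12 ≠ 1) {X : chevE7.Idx → K} (h : ∀ s, X (Sum.inr s) = 0) (s : Fin chevE7.nroots)
    (c : Fin chevE7.rank → Kˣ) : BF (Phi K c) X (er K s) = 0 := by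
  obtain ⟨a, ha⟩ := exists_sep hx (show s.val < 126 from s.2)
  have h1 := BF_inv (Phi_comm a c) X (er K s)
  rw [Phi_inl a h, Phi_er, map_smul, smul_eq_mul] at h1
  have h2 : (((rtv s.val a : Kˣ) : K) - 1) * BF (Phi K c) X (er K s) = 0 := by linear_combination h1
  exact (mul_eq_zero.1 h2).resolve_left (sub_ne_zero.2 fun h3 => ha (Units.ext h3))

theorem BF_er_inl {x : Kˣ} (hx : x ^ 12 ≠ 1) {X : chevE7.Idx → K} (h : ∀ s, X (Sum.inr s) = 0) (s : Fin chevE7.nroots)
    (c : Fin chevE7.rank → Kˣ) : BF (Phi K c) (er K s) X = 0 := by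
  obtain ⟨a, ha⟩ := exists_sep hx (show s.val < 126 from s.2)
  have h1 := BF_inv (Phi_comm a c) (er K s) X
  rw [Phi_inl a h, Phi_er, map_smul, LinearMap.smul_apply, smul_eq_mul] at h1
  have h2 : (((rtv s.val a : Kˣ) : K) - 1) * BF (Phi K c) (er K s) X = 0 := by linear_combination h1
  exact (mul_eq_zero.1 h2).resolve_left (sub_ne_zero.2 fun h3 => ha (Units.ext h3))

theorem BF_er_er {x : Kˣ} (hx : x ^ 12 ≠ 1) {r s : Fin chevE7.nroots} (h : s ≠ ng r)
    (c : Fin chevE7.rank → Kˣ) : BF (Phi K c) (er K r) (er K s) = 0 := by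
  obtain ⟨a, ha⟩ := exists_sep2 hx (show r.val < 126 from r.2) (show s.val < 126 from s.2)
    (fun h3 => h (Fin.ext h3))
  have h1 := BF_inv (Phi_comm a c) (er K r) (er K s)
  rw [Phi_er, Phi_er, map_smul, map_smul, LinearMap.smul_apply, smul_eq_mul, smul_eq_mul] at h1
  have h2 : (((rtv r.val a : Kˣ) : K) * ((rtv s.val a : Kˣ) : K) - 1) * BF (Phi K c) (er K r) (er K s) = 0 := by
    linear_combination h1
  refine (mul_eq_zero.1 h2).resolve_left (sub_ne_zero.2 fun h3 => ha (Units.ext ?_))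
  rw [Units.val_mul, h3, Units.val_one]

theorem sgn_cast (β s : ℕ) : ((((-1 : Kˣ) ^ pr β s : Kˣ)) : K) = ((sgn β s : ℤ) : K) := by
  have h1 : (-1 : Kˣ) ^ pr β s = (-1 : Kˣ) ^ (pr β s % 2) := by
    conv_lhs => rw [← Int.emod_add_mul_ediv (pr β s) 2]
    rw [_root_.zpow_add, _root_.zpow_mul]
    norm_num
  rw [h1, sgn]
  split_ifs with h
  · rw [h]; norm_num
  · have h2 : pr β s % 2 = 1 := by omega
    rw [h2]; norm_num

/-- the Cartan part -/
theorem BF_eh (hβ : β ∈ BL) (i j : Fin chevE7.rank) : BF (Phi K (hb β (-1))) (eh K i) (eh K j) =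
    4 * ((car chevE7 i.val (chevE7.simple j.val) : ℤ) : K) -
      16 * (((car chevE7 i.val β : ℤ) : K) * ((car chevE7 j.val β : ℤ) : K)) := by
  rw [BF_apply, adx_eh, adx_eh, R2.T1.ad_Phi, diagonal_mul_diagonal, diagonal_mul_diagonal, trace_diagonal,
    Fintype.sum_sum_type]
  have h0 : ∑ k : Fin chevE7.rank, dL (hb β (-1 : Kˣ)) (Sum.inl k) * dH K i.val (Sum.inl k) * dH K j.val (Sum.inl k) = 0 := by
    refine Finset.sum_eq_zero fun k _ => ?_
    show _ * _ * (0 : K) = 0
    rw [mul_zero]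
  have h1 : ∑ s : Fin chevE7.nroots, dL (hb β (-1 : Kˣ)) (Sum.inr s) * dH K i.val (Sum.inr s) * dH K j.val (Sum.inr s) =
      ((∑ s : Fin 126, sgn β s.val * (car chevE7 i.val s.val * car chevE7 j.val s.val) : ℤ) : K) := by
    rw [Int.cast_sum]
    show ∑ s : Fin 126, _ = _
    refine Finset.sum_congr rfl fun s _ => ?_
    show ((rtv s.val (hb β (-1)) : Kˣ) : K) * ((car chevE7 i.val s.val : ℤ) : K) * ((car chevE7 j.val s.val : ℤ) : K) = _
    rw [rtv_hb, sgn_cast]
    push_cast
    ring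
  rw [h0, h1, HH hβ i.2 j.2]
  push_cast
  ring

/-- the difference of the forms -/
noncomputable def Df (β : ℕ) (b : Fin chevE7.nroots) : (chevE7.Idx → K) →ₗ[K] (chevE7.Idx → K) →ₗ[K] K :=
  LinearMap.mk₂ K (fun X Y => BF (Phi K (hb β (-1))) X Y - 4 * kf K X Y +
      32 * (X (Sum.inr b) * Y (Sum.inr (ng b)) + X (Sum.inr (ng b)) * Y (Sum.inr b)) + 16 * (al β X * al β Y))
    (fun X X' Y => by
      simp only [map_add, LinearMap.add_apply, al_add, Pi.add_apply]; ring)
    (fun c X Y => by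
      simp only [map_smul, LinearMap.smul_apply, al_smul, Pi.smul_apply, smul_eq_mul]; ring)
    (fun X Y Y' => by
      simp only [map_add, al_add, Pi.add_apply]; ring)
    (fun c X Y => by
      simp only [map_smul, al_smul, Pi.smul_apply, smul_eq_mul]; ring)

theorem Df_apply (b : Fin chevE7.nroots) (X Y : chevE7.Idx → K) : Df β b X Y =
    BF (Phi K (hb β (-1))) X Y - 4 * kf K X Y +
      32 * (X (Sum.inr b) * Y (Sum.inr (ng b)) + X (Sum.inr (ng b)) * Y (Sum.inr b)) + 16 * (al β X * al β Y) := rfl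

theorem bil_zero (D : (chevE7.Idx → K) →ₗ[K] (chevE7.Idx → K) →ₗ[K] K) (P : chevE7.Idx → Prop)
    (h : ∀ a b, P a → P b → D (Pi.single a 1) (Pi.single b 1) = 0) {X Y : chevE7.Idx → K}
    (hX : ∀ a, ¬ P a → X a = 0) (hY : ∀ a, ¬ P a → Y a = 0) : D X Y = 0 := by
  have e : ∀ Z : chevE7.Idx → K, Z = ∑ a, Z a • (Pi.single a (1 : K) : chevE7.Idx → K) := by
    intro Z
    ext k
    simp [Finset.sum_apply, Pi.single_apply]
  rw [e X, map_sum, LinearMap.sum_apply]
  refine Finset.sum_eq_zero fun a _ => ?_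
  rw [map_smul, LinearMap.smul_apply, smul_eq_mul]
  by_cases ha : P a
  · rw [e Y, map_sum, Finset.mul_sum]
    refine Finset.sum_eq_zero fun b _ => ?_
    rw [map_smul, smul_eq_mul]
    by_cases hb : P b
    · rw [h a b ha hb, mul_zero, mul_zero]
    · rw [hY b hb, zero_mul, mul_zero]
  · rw [hX a ha, zero_mul]

theorem kf_single (a b : chevE7.Idx) : kf K (Pi.single a 1) (Pi.single b 1) = KM K a b := by
  rw [kf_apply, single_one_dotProduct, Matrix.mulVec_single_one, Matrix.col_apply]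

theorem al_eh (r : ℕ) (i : Fin chevE7.rank) : al r (Pi.single (Sum.inl i) (1 : K)) = ((car chevE7 i.val r : ℤ) : K) := by
  unfold al
  rw [Finset.sum_eq_single i]
  · rw [Pi.single_eq_same, mul_one]
  · intro j _ hj
    rw [Pi.single_eq_of_ne (by simpa using hj), mul_zero]
  · intro h; exact absurd (Finset.mem_univ _) h

theorem single_inl (i : Fin chevE7.rank) (s : Fin chevE7.nroots) :
    (Pi.single (Sum.inl i) (1 : K) : chevE7.Idx → K) (Sum.inr s) = 0 := by
  rw [Pi.single_eq_of_ne (by simp)]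

theorem Df_inl (hβ : β ∈ BL) (b : Fin chevE7.nroots) (i j : Fin chevE7.rank) :
    Df β b (Pi.single (Sum.inl i) (1 : K)) (Pi.single (Sum.inl j) 1) = 0 := by
  have h := BF_eh (K := K) hβ i j
  unfold eh at h
  rw [Df_apply, h, kf_single, KM_ll, al_eh, al_eh]
  simp only [single_inl]
  ring

/-- the Cartan part -/
theorem BF_cartan (hβ : β ∈ BL) {X Y : chevE7.Idx → K} (hX : ∀ s, X (Sum.inr s) = 0) (hY : ∀ s, Y (Sum.inr s) = 0) :
    BF (Phi K (hb β (-1))) X Y = 4 * kf K X Y - 16 * (al β X * al β Y) := by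
  have b : Fin chevE7.nroots := ⟨0, by decide +kernel⟩
  have h := bil_zero (Df β b) (fun a => ∃ i, a = Sum.inl i) (by
    rintro _ _ ⟨i, rfl⟩ ⟨j, rfl⟩
    exact Df_inl hβ b i j) (X := X) (Y := Y) (by
    rintro (i | s) h
    · exact absurd ⟨i, rfl⟩ h
    · exact hX s) (by
    rintro (i | s) h
    · exact absurd ⟨i, rfl⟩ h
    · exact hY s)
  rw [Df_apply, hX, hX] at h
  linear_combination h

theorem hv_inr (r : ℕ) (s : Fin chevE7.nroots) : hv K r (Sum.inr s) = 0 := rfl

/-- the value on opposite roots -/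
theorem BF_opp (h2 : (2 : K) ≠ 0) {x : Kˣ} (hx : x ^ 12 ≠ 1) (hβ : β ∈ BL) {r : Fin chevE7.nroots}
    (hr : ¬ (pr β r.val = 1 ∨ pr β r.val = -1)) :
    BF (Phi K (hb β (-1))) (er K r) (er K (ng r)) = 4 - 8 * ((pr β r.val : ℤ) : K) ^ 2 := by
  have hrl : r.val < 126 := r.2
  have hβl := BL_lt hβ
  set z := Phi K (hb β (-1)) with hz
  have hcomm : xs K r.val 1 * z = z * xs K r.val 1 := by
    have h := Phi_xs (K := K) (hb β (-1)) hrl 1
    have h1 : rtv r.val (hb β (-1 : Kˣ)) = 1 := by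
      rw [rtv_hb]
      rcases pr_cases β hβ r.val hrl with ⟨h3, -⟩ | ⟨h3, -⟩ | ⟨h3, -⟩ | ⟨h3, -⟩
      · rw [h3, zpow_zero]
      · exact absurd h3 hr
      · rw [h3]; norm_num
      · rw [h3]; norm_num
    rw [h1, Units.val_one, one_mul, ← hz] at h
    nth_rewrite 1 [← h]
    group
  have hL : L K (xs K r.val 1) (er K (ng r)) = er K (ng r) + hv K r.val - er K r := by
    have e1 : EM K r.val *ᵥ er K (ng r) = hv K r.val := by
      rw [EM_er_neg hrl (ng r) (ng_val r)]
      funext a
      rw [Finset.sum_apply]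
      rcases a with i | s
      · rw [Finset.sum_eq_single i]
        · rw [Pi.smul_apply, eh, Pi.single_eq_same, smul_eq_mul, mul_one]; rfl
        · intro j _ hj
          rw [Pi.smul_apply, eh, Pi.single_eq_of_ne (by simpa using hj.symm), smul_zero]
        · intro h; exact absurd (Finset.mem_univ _) h
      · refine Finset.sum_eq_zero fun j _ => ?_
        rw [Pi.smul_apply, eh, Pi.single_eq_of_ne (by simp), smul_zero]
    rw [L_xs hrl, e1, QM_mulVec, er, Pi.single_eq_same]
    unfold er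
    module
  have hne : ng r ≠ r := by
    intro h
    have := congrArg Fin.val h
    rw [ng_val] at this
    omega
  have h1 := BF_inv hcomm (er K (ng r)) (er K (ng r))
  rw [hL] at h1
  have f1 : BF z (er K (ng r)) (hv K r.val) = 0 := BF_er_inl hx (hv_inr _) _ _
  have f2 : BF z (hv K r.val) (er K (ng r)) = 0 := BF_inl_er hx (hv_inr _) _ _
  have f3 : BF z (er K r) (hv K r.val) = 0 := BF_er_inl hx (hv_inr _) _ _
  have f4 : BF z (hv K r.val) (er K r) = 0 := BF_inl_er hx (hv_inr _) _ _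
  have f5 : BF z (er K r) (er K r) = 0 := BF_er_er hx hne.symm _
  have f6 : BF z (hv K r.val) (hv K r.val) = 8 - 16 * ((pr β r.val : ℤ) : K) ^ 2 := by
    rw [BF_cartan hβ (hv_inr _) (hv_inr _), kf_hv hrl, al_hv, al_hv, pr_self hrl, pr_symm β hβ r.val hrl]
    push_cast
    ring
  have f7 : BF z (er K (ng r)) (er K r) = BF z (er K r) (er K (ng r)) := by
    apply BF_symm
    rw [tb_fix_iff h2 hβ]
    intro s hs
    rw [er]
    by_cases h3 : s = ng r
    · exfalso
      subst h3
      have h4 : pr β (125 - r.val) = - pr β r.val := by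
        unfold pr
        rw [← Finset.sum_neg_distrib]
        refine Finset.sum_congr rfl fun i _ => ?_
        rw [car_neg7 i.val i.2 r.val hrl]
        ring
      rw [ng_val, h4] at hs
      omega
    · rw [Pi.single_eq_of_ne (by simpa using h3)]
  simp only [map_add, map_sub, LinearMap.add_apply, LinearMap.sub_apply, f1, f2, f3, f4, f5, f6, f7] at h1
  have h3 : (2 : K) * (BF z (er K r) (er K (ng r)) - (4 - 8 * ((pr β r.val : ℤ) : K) ^ 2)) = 0 := by
    linear_combination -h1
  exact sub_eq_zero.1 ((mul_eq_zero.1 h3).resolve_left h2)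

/-- **the trace form on the fixed vectors** -/
theorem BF_tb (h2 : (2 : K) ≠ 0) (hx : ∃ x : Kˣ, x ^ 12 ≠ 1) (hβ : β ∈ BL) {b : Fin chevE7.nroots} (hb' : b.val = β)
    {X Y : chevE7.Idx → K} (hX : Ev β X) (hY : Ev β Y) : BF (Phi K (hb β (-1))) X Y = 4 * kf K X Y -
      32 * (X (Sum.inr b) * Y (Sum.inr (ng b)) + X (Sum.inr (ng b)) * Y (Sum.inr b)) - 16 * (al β X * al β Y) := by
  obtain ⟨x, hx⟩ := hx
  have hβl := BL_lt hβ
  have key := bil_zero (Df β b) (fun a => ∀ s, a = Sum.inr s → ¬ (pr β s.val = 1 ∨ pr β s.val = -1)) (X := X) (Y := Y)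
    (by
      rintro (i | r) (j | s) h1 h3
      · exact Df_inl hβ b i j
      · have e0 := BF_inl_er hx (X := Pi.single (Sum.inl i) (1 : K)) (fun s => by rw [Pi.single_eq_of_ne (by simp)]) s
          (hb β (-1))
        unfold er at e0
        rw [Df_apply, e0, kf_single, KM_lr,
          show al β (Pi.single (Sum.inr s) (1 : K)) = 0 from al_er _ _, single_inl, single_inl]
        ring
      · have e0 := BF_er_inl hx (X := Pi.single (Sum.inl j) (1 : K)) (fun s => by rw [Pi.single_eq_of_ne (by simp)]) r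
          (hb β (-1))
        unfold er at e0
        rw [Df_apply, e0, kf_single, KM_rl,
          show al β (Pi.single (Sum.inr r) (1 : K)) = 0 from al_er _ _, single_inl, single_inl]
        ring
      · have hr := h1 r rfl
        rw [Df_apply, kf_single, KM_rr, show al β (Pi.single (Sum.inr r) (1 : K)) = 0 from al_er _ _]
        by_cases hs : s = ng r
        · subst hs
          have h4 := BF_opp h2 hx hβ hr
          unfold er at h4
          rw [h4, if_pos (ng_val r)]
          simp only [Pi.single_apply, Sum.inr.injEq]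
          rcases pr_cases β hβ r.val r.2 with ⟨h5, h6, h7⟩ | ⟨h5, -⟩ | ⟨h5, h6⟩ | ⟨h5, h6⟩
          · have e1 : b ≠ r := fun h => h6 (by rw [← h]; exact hb')
            have e2 : ng b ≠ r := fun h => h7 (by rw [← h, ng_val, hb'])
            rw [if_neg e1, if_neg e2, h5]
            push_cast; ring
          · exact absurd h5 hr
          · have e1 : b = r := Fin.ext (by rw [hb', h6])
            have e2 : ng b ≠ r := fun h => by
              have := congrArg Fin.val h
              rw [ng_val, hb', h6] at this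
              omega
            rw [if_pos e1, if_neg e2, h5, e1, if_pos rfl]
            push_cast; ring
          · have e1 : b ≠ r := fun h => by
              have := congrArg Fin.val h
              rw [hb', h6] at this
              omega
            have e2 : ng b = r := Fin.ext (by rw [ng_val, hb', h6])
            have e3 : b = ng r := by rw [← e2, ng_ng]
            rw [if_neg e1, if_pos e2, if_pos e3, h5]
            push_cast; ring
        · have h4 := BF_er_er hx hs (hb β (-1))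
          unfold er at h4
          have h5 : ¬ s.val = 125 - r.val := fun h => hs (Fin.ext h)
          rw [h4, if_neg h5]
          simp only [Pi.single_apply, Sum.inr.injEq]
          by_cases e1 : b = r
          · have e2 : ng b ≠ s := fun h => hs (by rw [← h, e1])
            have e3 : ng b ≠ r := fun h => by
              have := congrArg Fin.val h
              rw [ng_val, e1] at this
              have := r.2
              have h126 : r.val < 126 := this
              omega
            rw [if_neg e2, if_neg e3]; ring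
          · rw [if_neg e1]
            by_cases e2 : ng b = r
            · have e3 : b ≠ s := fun h => hs (by rw [← h, ← e2, ng_ng])
              rw [if_neg e3]; ring
            · rw [if_neg e2]; ring)
    (by
      rintro (i | s) h
      · exact absurd (fun s h1 => absurd h1 (by simp)) h
      · apply hX
        by_contra h1
        apply h
        rintro s' hs'
        cases hs'
        exact h1)
    (by
      rintro (i | s) h
      · exact absurd (fun s h1 => absurd h1 (by simp)) h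
      · apply hY
        by_contra h1
        apply h
        rintro s' hs'
        cases hs'
        exact h1)
  rw [Df_apply] at key
  linear_combination key

end

end Cfsg.Agent.R2.T1.Five

private theorem dce_353b451d5c38 : _root_.True := by
  try have : _root_.True := by simp only [_root_.Cfsg.Agent.R2.T1.Five.sgn.eq_1]
  exact _root_.True.intro
end

-- part: R2/T1/Five/Nrm
section
set_option linter.all false
open scoped Cfsg.Agent.FastGrp

/-!
# Normal forms of the fixed vectors of an involution with 32 fixed weights (helper25)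
-/

set_option autoImplicit false
set_option linter.unusedSectionVars false
set_option maxRecDepth 100000

namespace Cfsg.Agent.R2.T1.Five

open Cfsg Cfsg.Lie Module Matrix
open Cfsg.Agent.ChevalleyStructure Cfsg.Agent.ChevalleyStructure.Elts Cfsg.Agent.ChevalleyStructure.Columns
open Cfsg.Agent.R2.T1

universe u

section
variable {K : Type u} [Field K] {β : ℕ}

theorem pr_neg {r : ℕ} (hr : r < 126) : pr β (125 - r) = - pr β r := by
  unfold pr
  rw [← Finset.sum_neg_distrib]
  refine Finset.sum_congr rfl fun i _ => ?_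
  rw [car_neg7 i.val i.2 r hr]
  ring

/-- the root elements of even roots commute with the involution -/
theorem xs_comm (hβ : β ∈ BL) {r : Fin chevE7.nroots} (hr : ¬ (pr β r.val = 1 ∨ pr β r.val = -1)) (t : K) :
    xs K r.val t * Phi K (hb β (-1)) = Phi K (hb β (-1)) * xs K r.val t := by
  have hrl : r.val < 126 := r.2
  set z := Phi K (hb β (-1)) with hz
  have h := Phi_xs (K := K) (hb β (-1)) hrl t
  have h1 : rtv r.val (hb β (-1 : Kˣ)) = 1 := by
    rw [rtv_hb]
    rcases pr_cases β hβ r.val hrl with ⟨h3, -⟩ | ⟨h3, -⟩ | ⟨h3, -⟩ | ⟨h3, -⟩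
    · rw [h3, zpow_zero]
    · exact absurd h3 hr
    · rw [h3]; norm_num
    · rw [h3]; norm_num
  rw [h1, Units.val_one, one_mul, ← hz] at h
  nth_rewrite 1 [← h]
  group

theorem pr_pm (hβ : β ∈ BL) {r : Fin chevE7.nroots} (hr : r.val = β ∨ r.val = 125 - β) :
    ¬ (pr β r.val = 1 ∨ pr β r.val = -1) := by
  have hβl := BL_lt hβ
  rcases hr with hr | hr
  · rw [hr, pr_self hβl]; norm_num
  · rw [hr, pr_neg hβl, pr_self hβl]; norm_num

theorem ng_ne (r : Fin chevE7.nroots) : ng r ≠ r := by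
  intro h
  have := congrArg Fin.val h
  rw [ng_val] at this
  have hrl : r.val < 126 := r.2
  omega

/-- the coordinates -/
theorem xs_coord (hβ : β ∈ BL) {r : Fin chevE7.nroots} (hr : r.val = β ∨ r.val = 125 - β) {X : chevE7.Idx → K}
    (hX : Ev β X) (t : K) :
    L K (xs K r.val t) X (Sum.inr r) = X (Sum.inr r) - t * al r.val X - t ^ 2 * X (Sum.inr (ng r)) ∧
    L K (xs K r.val t) X (Sum.inr (ng r)) = X (Sum.inr (ng r)) ∧
    al r.val (L K (xs K r.val t) X) = al r.val X + 2 * t * X (Sum.inr (ng r)) := by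
  rw [xs_fix hβ hr hX]
  have e0 : hv K r.val (Sum.inr r) = 0 := rfl
  have e1 : hv K r.val (Sum.inr (ng r)) = 0 := rfl
  have e2 : er K r (Sum.inr r) = 1 := by rw [er, Pi.single_eq_same]
  have e3 : er K r (Sum.inr (ng r)) = 0 := by
    rw [er, Pi.single_eq_of_ne (by simpa using ng_ne r)]
  refine ⟨?_, ?_, ?_⟩
  · simp only [Pi.add_apply, Pi.smul_apply, Pi.sub_apply, smul_eq_mul, e0, e2]
    ring
  · simp only [Pi.add_apply, Pi.smul_apply, Pi.sub_apply, smul_eq_mul, e1, e3]
    ring
  · rw [sub_eq_add_neg, ← neg_smul]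
    simp only [al_add, al_smul, al_er, al_hv, pr_self (show r.val < 126 from r.2)]
    push_cast
    ring

/-- the invariant -/
def Qn (b : Fin chevE7.nroots) (X : chevE7.Idx → K) : K := al b.val X ^ 2 + 4 * X (Sum.inr b) * X (Sum.inr (ng b))

theorem Ev_L (h2 : (2 : K) ≠ 0) (hβ : β ∈ BL) {g : Gh K} (hg : g * Phi K (hb β (-1)) = Phi K (hb β (-1)) * g)
    {X : chevE7.Idx → K} (hX : Ev β X) : Ev β (L K g X) := by
  rw [← tb_fix_iff h2 hβ] at hX ⊢
  rw [← Module.End.mul_apply, ← map_mul, ← hg, map_mul, Module.End.mul_apply, hX]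

/-- **normal forms** -/
theorem nrm [IsAlgClosed K] (h2 : (2 : K) ≠ 0) (hβ : β ∈ BL) {b : Fin chevE7.nroots} (hb' : b.val = β)
    {X : chevE7.Idx → K} (hX : Ev β X) :
    (X (Sum.inr b) = 0 ∧ X (Sum.inr (ng b)) = 0 ∧ al β X = 0) ∨
    (Qn b X = 0 ∧ ∃ g : Gh K, g * Phi K (hb β (-1)) = Phi K (hb β (-1)) * g ∧ ∃ r : Fin chevE7.nroots,
      (r = b ∨ r = ng b) ∧ al β (L K g X) = 0 ∧ L K g X (Sum.inr (ng r)) = 0 ∧ L K g X (Sum.inr r) ≠ 0) ∨
    (∃ g : Gh K, g * Phi K (hb β (-1)) = Phi K (hb β (-1)) * g ∧ L K g X (Sum.inr b) = 0 ∧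
      L K g X (Sum.inr (ng b)) = 0 ∧ al β (L K g X) ≠ 0 ∧ al β (L K g X) ^ 2 = Qn b X) := by
  have hβl := BL_lt hβ
  have h4 : (4 : K) ≠ 0 := by
    have : (4 : K) = 2 * 2 := by norm_num
    rw [this]; exact mul_ne_zero h2 h2
  have hbr : b.val = β ∨ b.val = 125 - β := Or.inl hb'
  have hnr : (ng b).val = β ∨ (ng b).val = 125 - β := Or.inr (by rw [ng_val, hb'])
  have hone : (1 : Gh K) * Phi K (hb β (-1)) = Phi K (hb β (-1)) * 1 := by rw [one_mul, mul_one]
  have hL1 : L K (1 : Gh K) X = X := by rw [map_one]; rfl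
  by_cases hz : X (Sum.inr b) = 0 ∧ X (Sum.inr (ng b)) = 0 ∧ al β X = 0
  · exact Or.inl hz
  right
  by_cases hq : Qn b X = 0
  · left
    refine ⟨hq, ?_⟩
    unfold Qn at hq
    rw [hb'] at hq
    by_cases hn : X (Sum.inr (ng b)) = 0
    · rw [hn, mul_zero, add_zero] at hq
      have hal : al β X = 0 := by
        rw [pow_eq_zero_iff (by norm_num)] at hq
        exact hq
      refine ⟨1, hone, b, Or.inl rfl, ?_, ?_, ?_⟩
      · rw [hL1]; exact hal
      · rw [hL1]; exact hn
      · rw [hL1]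
        intro h
        exact hz ⟨h, hn, hal⟩
    · obtain ⟨c1, c2, c3⟩ := xs_coord hβ hbr hX (-(al β X) / (2 * X (Sum.inr (ng b))))
      rw [hb'] at c1 c2 c3
      refine ⟨xs K β (-(al β X) / (2 * X (Sum.inr (ng b)))), ?_, ng b, Or.inr rfl, ?_, ?_, ?_⟩
      · have h := xs_comm hβ (pr_pm hβ hbr) (-(al β X) / (2 * X (Sum.inr (ng b))))
        rw [hb'] at h
        exact h
      · rw [c3]
        field_simp
        ring
      · rw [ng_ng, c1]
        field_simp
        linear_combination hq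
      · rw [c2]; exact hn
  · right
    obtain ⟨δ, hδ⟩ := IsAlgClosed.exists_pow_nat_eq (Qn b X) (n := 2) (by norm_num)
    have hδ0 : δ ≠ 0 := by
      rintro rfl
      apply hq
      rw [← hδ]; norm_num
    have hq' : δ ^ 2 = al β X ^ 2 + 4 * X (Sum.inr b) * X (Sum.inr (ng b)) := by rw [hδ, Qn, hb']
    by_cases hn : X (Sum.inr (ng b)) = 0
    · rw [hn, mul_zero, add_zero] at hq'
      have hal : al β X ≠ 0 := by
        intro h
        rw [h] at hq'
        apply hδ0
        rw [← pow_eq_zero_iff (n := 2) (by norm_num), hq']; norm_num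
      obtain ⟨c1, c2, c3⟩ := xs_coord hβ hbr hX (X (Sum.inr b) / al β X)
      rw [hb'] at c1 c2 c3
      refine ⟨xs K β (X (Sum.inr b) / al β X), ?_, ?_, ?_, ?_, ?_⟩
      · have h := xs_comm hβ (pr_pm hβ hbr) (X (Sum.inr b) / al β X)
        rw [hb'] at h
        exact h
      · rw [c1, hn]
        field_simp
        ring
      · rw [c2, hn]
      · rw [c3, hn, mul_zero, add_zero]; exact hal
      · rw [c3, hn, mul_zero, add_zero, ← hδ, hq']
    · obtain ⟨c1, c2, c3⟩ := xs_coord hβ hbr hX ((-(al β X) + δ) / (2 * X (Sum.inr (ng b))))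
      rw [hb'] at c1 c2 c3
      set g1 := xs K β ((-(al β X) + δ) / (2 * X (Sum.inr (ng b)))) with hg1
      have hg1c : g1 * Phi K (hb β (-1)) = Phi K (hb β (-1)) * g1 := by
        have h := xs_comm hβ (pr_pm hβ hbr) ((-(al β X) + δ) / (2 * X (Sum.inr (ng b))))
        rw [hb'] at h
        exact h
      have d1 : L K g1 X (Sum.inr b) = 0 := by
        rw [c1]
        field_simp
        linear_combination -hq'
      have d3 : al β (L K g1 X) = δ := by
        rw [c3]
        field_simp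
        ring
      have hX1 := Ev_L h2 hβ hg1c hX
      obtain ⟨e1, e2, e3⟩ := xs_coord hβ hnr hX1 (-(X (Sum.inr (ng b))) / δ)
      have hng : (ng b).val = 125 - β := by rw [ng_val, hb']
      rw [hng, ng_ng] at e1 e2 e3
      rw [al_neg hβl] at e1 e3
      rw [d1] at e1 e2 e3
      set g2 := xs K (125 - β) (-(X (Sum.inr (ng b))) / δ) with hg2
      have hg2c : g2 * Phi K (hb β (-1)) = Phi K (hb β (-1)) * g2 := by
        have h := xs_comm hβ (pr_pm hβ hnr) (-(X (Sum.inr (ng b))) / δ)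
        rw [hng] at h
        exact h
      have hLm : L K (g2 * g1) X = L K g2 (L K g1 X) := by rw [map_mul, Module.End.mul_apply]
      rw [mul_zero, add_zero, al_neg hβl, neg_inj, d3] at e3
      refine ⟨g2 * g1, ?_, ?_, ?_, ?_, ?_⟩
      · rw [mul_assoc, hg1c, ← mul_assoc, hg2c, mul_assoc]
      · rw [hLm, e2]
      · rw [hLm, e1, c2, d3, mul_zero, sub_zero]
        field_simp
        ring
      · rw [hLm, e3]; exact hδ0
      · rw [hLm, e3, hδ]

end

end Cfsg.Agent.R2.T1.Five

private theorem dce_47ab1c0a1394 : _root_.True := by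
  try have : _root_.True := by simp only [_root_.Cfsg.Agent.R2.T1.Five.Qn.eq_1]
  exact _root_.True.intro
end

-- part: R2/T1/Five/PF
section
prune_inst 0x204024443140020000180500b00000200800000210400800800008040041844224408001aa2010169a0004102000004001000000422000000a000000000100000000000482480104420008000080000000000000000000000000000000000000000000000
set_option linter.all false
open scoped Cfsg.Agent.FastGrp

/-!
# The part of a fixed vector in the subalgebra of type `A₁` (helper25)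

* `PF Z v u` : `u` is the part of the fixed vector `v` of the involution `Z` in the subalgebra of type `A₁`;
* `PF.unique`, `PF.conj`, `PF.map`;
* `rat_nil`, `rat_ss` : rationality of elements of the subgroup of type `A₁`.
-/

set_option autoImplicit false
set_option linter.unusedSectionVars false
set_option maxRecDepth 100000

namespace Cfsg.Agent.R2.T1.Five

open Cfsg Cfsg.Lie Module Matrix
open Cfsg.Agent.ChevalleyStructure Cfsg.Agent.ChevalleyStructure.Elts Cfsg.Agent.ChevalleyStructure.Columns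
open Cfsg.Agent.R2.T1

universe u v

section
variable {K : Type u} [Field K] {β : ℕ}

theorem L_mul (g h : Gh K) (X : chevE7.Idx → K) : L K (g * h) X = L K g (L K h X) := by
  rw [map_mul, Module.End.mul_apply]

theorem L_one (X : chevE7.Idx → K) : L K 1 X = X := by rw [map_one]; rfl

theorem L_inv_L (g : Gh K) (X : chevE7.Idx → K) : L K g⁻¹ (L K g X) = X := by rw [← L_mul, inv_mul_cancel, L_one]

theorem L_L_inv (g : Gh K) (X : chevE7.Idx → K) : L K g (L K g⁻¹ X) = X := by rw [← L_mul, mul_inv_cancel, L_one]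

/-- the part of `v` in the subalgebra of type `A₁` attached to `Z` is `u` -/
def PF (Z : Gh K) (v u : chevE7.Idx → K) : Prop :=
  L K Z u = u ∧ ∀ Y, L K Z Y = Y → BF Z v Y = 4 * kf K v Y - 32 * kf K u Y

theorem two_pow_ne (h2 : (2 : K) ≠ 0) : (32 : K) ≠ 0 ∧ (16 : K) ≠ 0 := by
  have e1 : (32 : K) = 2 ^ 5 := by norm_num
  have e2 : (16 : K) = 2 ^ 4 := by norm_num
  rw [e1, e2]
  exact ⟨pow_ne_zero _ h2, pow_ne_zero _ h2⟩

theorem PF.unique (h2 : (2 : K) ≠ 0) {Z : Gh K} (hZ : Z * Z = 1) {v u u' : chevE7.Idx → K} (h : PF Z v u)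
    (h' : PF Z v u') : u = u' := by
  have h32 := (two_pow_ne h2).1
  have key : ∀ Y, L K Z Y = Y → kf K (u - u') Y = 0 := by
    intro Y hY
    have h1 := h.2 Y hY
    rw [h'.2 Y hY] at h1
    have h3 : (32 : K) * kf K (u - u') Y = 0 := by
      rw [map_sub, LinearMap.sub_apply]
      linear_combination h1
    exact (mul_eq_zero.1 h3).resolve_left h32
  have hw : L K Z (u - u') = u - u' := by rw [map_sub, h.1, h'.1]
  rw [← sub_eq_zero]
  apply kf_nondeg h2
  intro Y
  rw [kf_comm]
  have h3 := key (Y + L K Z Y) (by rw [map_add, ← L_mul, hZ, L_one, add_comm])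
  have h4 : kf K (u - u') (L K Z Y) = kf K (u - u') Y := by
    nth_rewrite 1 [← hw]
    exact kf_L Z _ _
  rw [map_add, h4] at h3
  have h5 : (2 : K) * kf K (u - u') Y = 0 := by linear_combination h3
  exact (mul_eq_zero.1 h5).resolve_left h2

theorem PF.conj {Z : Gh K} {v u : chevE7.Idx → K} (h : PF Z v u) (g : Gh K) :
    PF (g * Z * g⁻¹) (L K g v) (L K g u) := by
  refine ⟨?_, fun Y hY => ?_⟩
  · rw [L_mul, L_mul, L_inv_L, h.1]
  · have h1 : L K Z (L K g⁻¹ Y) = L K g⁻¹ Y := by
      conv_rhs => rw [← hY]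
      rw [L_mul, L_mul, L_inv_L]
    have h3 := h.2 _ h1
    rw [← BF_conj g Z v, ← kf_L g v, ← kf_L g u, L_L_inv] at h3
    exact h3

theorem PF.of_conj {Z Z' : Gh K} {v v' u : chevE7.Idx → K} {g : Gh K} (hZ : Z' = g * Z * g⁻¹) (hv : v' = L K g v)
    (h : PF Z' v' u) : PF Z v (L K g⁻¹ u) := by
  have h1 := h.conj g⁻¹
  rw [hZ, hv, L_inv_L] at h1
  have e : g⁻¹ * (g * Z * g⁻¹) * g⁻¹⁻¹ = Z := by group
  rwa [e] at h1

theorem PF.map {K' : Type v} [Field K'] {Z : Gh K} {w u : chevE7.Idx → K} (h : PF Z w u) (s : K →+* K')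
    (hs : Function.Surjective s) :
    PF (emb s Z) (fun i => s (w i)) (fun i => s (u i)) := by
  refine ⟨by rw [L_emb, h.1], fun Y hY => ?_⟩
  obtain ⟨Y0, rfl⟩ : ∃ Y0 : chevE7.Idx → K, Y = fun i => s (Y0 i) := by
    choose g hg using hs
    exact ⟨fun i => g (Y i), funext fun i => (hg (Y i)).symm⟩
  rw [L_emb] at hY
  have h3 := h.2 Y0 (fun_injective s hY)
  rw [BF_map, kf_map, kf_map, h3, map_sub, map_mul, map_mul, map_ofNat, map_ofNat]

/-! ### the standard involution -/

theorem kf_er (r : Fin chevE7.nroots) (Y : chevE7.Idx → K) : kf K (er K r) Y = Y (Sum.inr (ng r)) := by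
  rw [kf_apply, er, single_one_dotProduct, KM_mulVec_inr]

theorem Ev_er (hβ : β ∈ BL) {r : Fin chevE7.nroots} (hr : r.val = β ∨ r.val = 125 - β) : Ev β (er K r) := by
  intro s hs
  rw [er]
  by_cases h : s = r
  · subst h
    exact absurd hs (pr_pm hβ hr)
  · rw [Pi.single_eq_of_ne (by simpa using h)]

theorem Ev_hv (r : ℕ) : Ev β (hv K r) := fun _ _ => rfl

variable (h2 : (2 : K) ≠ 0) (hx : ∃ x : Kˣ, x ^ 12 ≠ 1) (hβ : β ∈ BL) {b : Fin chevE7.nroots} (hb' : b.val = β)
  {X : chevE7.Idx → K} (hX : Ev β X)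

include h2 hx hβ hb' hX

theorem PF_zero (h1 : X (Sum.inr b) = 0) (h3 : X (Sum.inr (ng b)) = 0) (h4 : al β X = 0) :
    PF (Phi K (hb β (-1))) X 0 := by
  refine ⟨map_zero _, fun Y hY => ?_⟩
  rw [BF_tb h2 hx hβ hb' hX ((tb_fix_iff h2 hβ Y).1 hY), h1, h3, h4, map_zero, LinearMap.zero_apply]
  ring

theorem zero_of_PF (h : PF (Phi K (hb β (-1))) X 0) : X (Sum.inr b) = 0 ∧ X (Sum.inr (ng b)) = 0 ∧ al β X = 0 := by
  obtain ⟨h32, h16⟩ := two_pow_ne h2
  have hbl : b.val < 126 := b.2
  have hβl := BL_lt hβ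
  have key : ∀ Y : chevE7.Idx → K, Ev β Y →
      32 * (X (Sum.inr b) * Y (Sum.inr (ng b)) + X (Sum.inr (ng b)) * Y (Sum.inr b)) + 16 * (al β X * al β Y) = 0 := by
    intro Y hY
    have h1 := h.2 Y ((tb_fix_iff h2 hβ Y).2 hY)
    rw [BF_tb h2 hx hβ hb' hX hY, map_zero, LinearMap.zero_apply] at h1
    linear_combination -h1
  have hne := ng_ne b
  refine ⟨?_, ?_, ?_⟩
  · have h1 := key (er K (ng b)) (Ev_er hβ (Or.inr (by rw [ng_val, hb'])))
    rw [al_er, er, Pi.single_eq_same, Pi.single_eq_of_ne (by simpa using hne.symm)] at h1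
    have h3 : (32 : K) * X (Sum.inr b) = 0 := by linear_combination h1
    exact (mul_eq_zero.1 h3).resolve_left h32
  · have h1 := key (er K b) (Ev_er hβ (Or.inl hb'))
    rw [al_er, er, Pi.single_eq_same, Pi.single_eq_of_ne (by simpa using hne)] at h1
    have h3 : (32 : K) * X (Sum.inr (ng b)) = 0 := by linear_combination h1
    exact (mul_eq_zero.1 h3).resolve_left h32
  · have h1 := key (hv K β) (Ev_hv β)
    rw [al_hv, pr_self hβl, hv_inr, hv_inr] at h1
    push_cast at h1
    have h3 : (32 : K) * al β X = 0 := by linear_combination h1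
    exact (mul_eq_zero.1 h3).resolve_left h32

theorem PF_nil {r : Fin chevE7.nroots} (hr : r = b ∨ r = ng b) (h1 : al β X = 0) (h3 : X (Sum.inr (ng r)) = 0) :
    PF (Phi K (hb β (-1))) X (X (Sum.inr r) • er K r) := by
  have hr' : r.val = β ∨ r.val = 125 - β := by
    rcases hr with rfl | rfl
    · exact Or.inl hb'
    · exact Or.inr (by rw [ng_val, hb'])
  refine ⟨?_, fun Y hY => ?_⟩
  · rw [map_smul, (tb_fix_iff h2 hβ _).2 (Ev_er hβ hr')]
  · rw [BF_tb h2 hx hβ hb' hX ((tb_fix_iff h2 hβ Y).1 hY), h1, map_smul, LinearMap.smul_apply, smul_eq_mul, kf_er]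
    rcases hr with rfl | rfl
    · rw [h3]; ring
    · rw [ng_ng] at h3 ⊢
      rw [h3]; ring

theorem PF_ss {l : K} (h1 : X (Sum.inr b) = 0) (h3 : X (Sum.inr (ng b)) = 0) (h4 : al β X = 2 * l) :
    PF (Phi K (hb β (-1))) X (l • hv K β) := by
  refine ⟨?_, fun Y hY => ?_⟩
  · rw [map_smul, (tb_fix_iff h2 hβ _).2 (Ev_hv β)]
  · rw [BF_tb h2 hx hβ hb' hX ((tb_fix_iff h2 hβ Y).1 hY), h1, h3, map_smul, LinearMap.smul_apply, smul_eq_mul,
      kf_comm (hv K β), kf_hv (BL_lt hβ), h4]
    ring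

end

/-! ### rationality -/

section
variable {K : Type u} [Field K] (s : K →+* K)

theorem ad_eq_of_adM {g h : Gh K} (e : adM K g = adM K h) : ad K g = ad K h := Subtype.ext (Units.ext e)

theorem emb_eq_of (ρ : Gh K) {k : ℕ} (hk : Odd k) (h1 : ρ ^ k = 1) (h : (adM K ρ).map s = adM K ρ) : emb s ρ = ρ := by
  refine odd_unique hk (ad_eq_of_adM ?_) ?_ h1
  · rw [adM_map, h]
  · rw [← map_pow, h1, map_one]

theorem smul_mat_inj {c : K} (hc : c ≠ 0) {A B : Matrix chevE7.Idx chevE7.Idx K} (h : c • A = c • B) : A = B := by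
  ext i j
  have h1 := congrFun (congrFun h i) j
  rw [Matrix.smul_apply, Matrix.smul_apply, smul_eq_mul, smul_eq_mul] at h1
  exact mul_left_cancel₀ hc h1

/-- rationality of root elements -/
theorem rat_nil (h2 : (2 : K) ≠ 0) {g : Gh K} {r : Fin chevE7.nroots} {μ : K}
    (h : (fun i => s (L K g⁻¹ (μ • er K r) i)) = L K g⁻¹ (μ • er K r)) :
    (adM K (g⁻¹ * xs K r.val μ * g)).map s = adM K (g⁻¹ * xs K r.val μ * g) := by
  set u := L K g⁻¹ (μ • er K r) with hu
  have e1 : adx K u = adM K g⁻¹ * (μ • EM K r.val) * adM K g := by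
    rw [hu, adx_L, adx_smul, adx_er, inv_inv]
  have e2 : adx K u * adx K u = adM K g⁻¹ * ((2 * μ ^ 2) • QM K r.val) * adM K g := by
    rw [e1]
    have e3 : adM K g⁻¹ * (μ • EM K r.val) * adM K g * (adM K g⁻¹ * (μ • EM K r.val) * adM K g) =
        adM K g⁻¹ * ((μ • EM K r.val) * (adM K g * adM K g⁻¹) * (μ • EM K r.val)) * adM K g := by
      simp only [mul_assoc]
    rw [e3, adM_mul_inv, mul_one, smul_mul_smul_comm, EM_EM (show r.val < 126 from r.2), smul_smul]
    congr 3
    ring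
  have e3 : (2 : K) • adM K (g⁻¹ * xs K r.val μ * g) = (2 : K) • (1 : Matrix chevE7.Idx chevE7.Idx K) +
      (2 : K) • adx K u + adx K u * adx K u := by
    rw [e2, e1, map_mul, map_mul, adM_xs (show r.val < 126 from r.2)]
    rw [mul_add, mul_add, add_mul, add_mul, mul_one, adM_inv_mul, smul_add, smul_add]
    congr 1
    rw [Matrix.mul_smul, Matrix.smul_mul, Matrix.mul_smul, Matrix.smul_mul, smul_smul]
  have e4 : (adx K u).map s = adx K u := by rw [adx_map, h]
  apply smul_mat_inj h2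
  rw [e3]
  have e5 : ((2 : K) • adM K (g⁻¹ * xs K r.val μ * g)).map s = ((2 : K) • (1 : Matrix chevE7.Idx chevE7.Idx K) +
      (2 : K) • adx K u + adx K u * adx K u).map s := by rw [e3]
  have e6 : ((2 : K) • adM K (g⁻¹ * xs K r.val μ * g)).map s = (2 : K) • (adM K (g⁻¹ * xs K r.val μ * g)).map s := by
    ext i j
    rw [Matrix.map_apply, Matrix.smul_apply, Matrix.smul_apply, Matrix.map_apply, smul_eq_mul, smul_eq_mul, map_mul s,
      map_ofNat]
  rw [e6] at e5
  rw [e5]
  rw [Matrix.map_add s (map_add s), Matrix.map_add s (map_add s), Matrix.map_mul, e4]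
  congr 2
  · ext i j
    simp only [Matrix.map_apply, Matrix.smul_apply, smul_eq_mul, map_mul, map_ofNat, Matrix.one_apply]
    split_ifs
    · rw [map_one]
    · rw [map_zero]
  · ext i j
    have e7 := congrFun (congrFun e4 i) j
    rw [Matrix.map_apply] at e7
    simp only [Matrix.map_apply, Matrix.smul_apply, smul_eq_mul, map_mul, map_ofNat, e7]

/-- the diagonal of `ad h_β` -/
def dB (K : Type u) [Field K] (β : ℕ) : chevE7.Idx → K :=
  Sum.elim (fun _ => (0 : K)) (fun s : Fin chevE7.nroots => ((pr β s.val : ℤ) : K))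

theorem adx_hv (β : ℕ) : adx K (hv K β) = Matrix.diagonal (dB K β) := by
  have e : hv K β = ∑ i : Fin chevE7.rank, ((cor chevE7 β i.val : ℤ) : K) • eh K i := by
    funext a
    rw [Finset.sum_apply]
    rcases a with i | s
    · rw [Finset.sum_eq_single i]
      · rw [Pi.smul_apply, eh, Pi.single_eq_same, smul_eq_mul, mul_one]; rfl
      · intro j _ hj
        rw [Pi.smul_apply, eh, Pi.single_eq_of_ne (by simpa using hj.symm), smul_zero]
      · intro h; exact absurd (Finset.mem_univ _) h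
    · rw [hv_inr]
      exact (Finset.sum_eq_zero fun j _ => by
        rw [Pi.smul_apply, eh, Pi.single_eq_of_ne (by simp), smul_zero]).symm
  have e2 : adx K (hv K β) = ∑ i : Fin chevE7.rank, ((cor chevE7 β i.val : ℤ) : K) • adx K (eh K i) := by
    rw [e]
    have h : ∀ Y : chevE7.Idx → K, adx K Y =
        Cfsg.Agent.ChevalleyStructure.LieAbs.advLin (Cfsg.Agent.ChevalleyStructure.LieAut.adR chevE7 K) Y := fun _ => rfl
    simp only [h, map_sum, map_smul]
  rw [e2]
  ext a c
  rw [Matrix.sum_apply, Matrix.diagonal_apply]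
  by_cases hac : a = c
  · subst hac
    rw [if_pos rfl]
    rcases a with i | s
    · refine Finset.sum_eq_zero fun j _ => ?_
      rw [adx_eh, Matrix.smul_apply, Matrix.diagonal_apply_eq]
      show _ • (0 : K) = 0
      rw [smul_zero]
    · show _ = ((pr β s.val : ℤ) : K)
      unfold pr
      push_cast
      refine Finset.sum_congr rfl fun j _ => ?_
      rw [adx_eh, Matrix.smul_apply, Matrix.diagonal_apply_eq]
      rfl
  · rw [if_neg hac]
    refine Finset.sum_eq_zero fun j _ => ?_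
    rw [adx_eh, Matrix.smul_apply, Matrix.diagonal_apply_ne _ hac, smul_zero]

theorem small_zero (h2 : (2 : K) ≠ 0) (h3 : (3 : K) ≠ 0) {m : ℤ} (h1 : -4 ≤ m) (h4 : m ≤ 4) (h : (m : K) = 0) : m = 0 := by
  have h4' : (4 : K) ≠ 0 := by
    have : (4 : K) = 2 * 2 := by norm_num
    rw [this]; exact mul_ne_zero h2 h2
  have h5 : m = -4 ∨ m = -3 ∨ m = -2 ∨ m = -1 ∨ m = 0 ∨ m = 1 ∨ m = 2 ∨ m = 3 ∨ m = 4 := by omega
  rcases h5 with rfl | rfl | rfl | rfl | rfl | rfl | rfl | rfl | rfl
  · push_cast at h; exact absurd (neg_eq_zero.1 h) h4'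
  · push_cast at h; exact absurd (neg_eq_zero.1 h) h3
  · push_cast at h; exact absurd (neg_eq_zero.1 h) h2
  · push_cast at h; exact absurd (neg_eq_zero.1 h) one_ne_zero
  · rfl
  · push_cast at h; exact absurd h one_ne_zero
  · push_cast at h; exact absurd h h2
  · push_cast at h; exact absurd h h3
  · push_cast at h; exact absurd h h4'

/-- rationality of semisimple elements -/
theorem rat_ss (h2 : (2 : K) ≠ 0) (h3 : (3 : K) ≠ 0) {β : ℕ} (hβ : β ∈ BL) {g : Gh K} {l : K} (hl : l ≠ 0) (hls : s l = -l)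
    {ξ : Kˣ} (hξ : s (ξ : K) = ((ξ⁻¹ : Kˣ) : K))
    (h : (fun i => s (L K g⁻¹ (l • hv K β) i)) = L K g⁻¹ (l • hv K β)) :
    (adM K (g⁻¹ * Phi K (hb β ξ) * g)).map s = adM K (g⁻¹ * Phi K (hb β ξ) * g) := by
  set u := L K g⁻¹ (l • hv K β) with hu
  have e1 : adx K u = adM K g⁻¹ * (l • Matrix.diagonal (dB K β)) * adM K g := by
    rw [hu, adx_L, adx_smul, adx_hv, inv_inv]
  have e4 : (adx K u).map s = adx K u := by rw [adx_map, h]
  have ed : (Matrix.diagonal (dB K β)).map s = Matrix.diagonal (dB K β) := by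
    ext a c
    rw [Matrix.map_apply, Matrix.diagonal_apply]
    split_ifs
    · rcases a with i | t
      · exact map_zero s
      · exact map_intCast s _
    · exact map_zero s
  have e5 : (adx K u).map s = adM K (emb s g)⁻¹ * (-l • Matrix.diagonal (dB K β)) * adM K (emb s g) := by
    rw [e1, Matrix.map_mul, Matrix.map_mul, ← adM_map, ← adM_map, map_inv]
    congr 2
    ext a c
    have e6 := congrFun (congrFun ed a) c
    rw [Matrix.map_apply] at e6
    rw [Matrix.map_apply, Matrix.smul_apply, Matrix.smul_apply, smul_eq_mul, smul_eq_mul, map_mul, hls, e6]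
  set k := adM K (emb s g) * adM K g⁻¹ with hk
  -- `k` intertwines
  have e6 : k * (l • Matrix.diagonal (dB K β)) = (-l • Matrix.diagonal (dB K β)) * k := by
    have h1 : adM K (emb s g) * adx K u * adM K g⁻¹ = k * (l • Matrix.diagonal (dB K β)) := by
      rw [e1, hk]
      have : adM K (emb s g) * (adM K g⁻¹ * (l • Matrix.diagonal (dB K β)) * adM K g) * adM K g⁻¹ =
        adM K (emb s g) * adM K g⁻¹ * (l • Matrix.diagonal (dB K β)) * (adM K g * adM K g⁻¹) := by
        simp only [mul_assoc]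
      rw [this, adM_mul_inv, mul_one]
    have h2 : adM K (emb s g) * adx K u * adM K g⁻¹ = (-l • Matrix.diagonal (dB K β)) * k := by
      rw [← e4, e5, hk]
      have : adM K (emb s g) * (adM K (emb s g)⁻¹ * (-l • Matrix.diagonal (dB K β)) * adM K (emb s g)) * adM K g⁻¹ =
        (adM K (emb s g) * adM K (emb s g)⁻¹) * (-l • Matrix.diagonal (dB K β)) * (adM K (emb s g) * adM K g⁻¹) := by
        simp only [mul_assoc]
      rw [this, adM_mul_inv, one_mul]
    rw [← h1, h2]
  have hdL : ∀ a : chevE7.Idx, ∃ m : ℤ, -2 ≤ m ∧ m ≤ 2 ∧ dB K β a = (m : K) ∧ ∀ η : Kˣ, dL (hb β η) a = ((η ^ m : Kˣ) : K) := by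
    rintro (i | t)
    · exact ⟨0, by norm_num, by norm_num, by push_cast; rfl, fun η => by rw [zpow_zero]; rfl⟩
    · refine ⟨pr β t.val, ?_, ?_, rfl, fun η => ?_⟩
      · rcases pr_cases β hβ t.val t.2 with ⟨h5, -⟩ | ⟨h5 | h5, -⟩ | ⟨h5, -⟩ | ⟨h5, -⟩ <;> rw [h5] <;> norm_num
      · rcases pr_cases β hβ t.val t.2 with ⟨h5, -⟩ | ⟨h5 | h5, -⟩ | ⟨h5, -⟩ | ⟨h5, -⟩ <;> rw [h5] <;> norm_num
      · show ((rtv t.val (hb β η) : Kˣ) : K) = _
        rw [rtv_hb]
  have e7 : k * Matrix.diagonal (dL (hb β ξ)) = Matrix.diagonal (dL (hb β ξ⁻¹)) * k := by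
    ext a c
    rw [Matrix.mul_diagonal, Matrix.diagonal_mul]
    have e8 := congrFun (congrFun e6 a) c
    rw [Matrix.mul_smul, Matrix.smul_apply, Matrix.smul_mul, Matrix.smul_apply, Matrix.mul_diagonal,
      Matrix.diagonal_mul, smul_eq_mul, smul_eq_mul] at e8
    obtain ⟨m, m1, m2, m3, m4⟩ := hdL a
    obtain ⟨n, n1, n2, n3, n4⟩ := hdL c
    rw [m3, n3] at e8
    rw [m4, n4]
    by_cases h0 : k a c = 0
    · rw [h0, zero_mul, mul_zero]
    · have e9 : ((m + n : ℤ) : K) = 0 := by
        push_cast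
        have e10 : (l * k a c) * ((m : K) + n) = 0 := by linear_combination e8
        exact (mul_eq_zero.1 e10).resolve_left (mul_ne_zero hl h0)
      have e11 := small_zero h2 h3 (by omega) (by omega) e9
      have e12 : n = -m := by omega
      rw [e12, mul_comm, _root_.inv_zpow, _root_.zpow_neg]
  -- conclusion
  have e8 : (adM K (g⁻¹ * Phi K (hb β ξ) * g)).map s = adM K (emb s g)⁻¹ * Matrix.diagonal (dL (hb β ξ⁻¹)) * adM K (emb s g) := by
    rw [← adM_map, map_mul (emb s), map_mul (emb s), map_inv (emb s), map_mul, map_mul, emb_Phi, R2.T1.ad_Phi]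
    congr 4
    funext i
    apply Units.ext
    show s (((hb β ξ i : Kˣ)) : K) = _
    show s (((ξ ^ cor chevE7 β i.val : Kˣ)) : K) = (((ξ⁻¹) ^ cor chevE7 β i.val : Kˣ) : K)
    rw [Units.val_zpow_eq_zpow_val, map_zpow₀, hξ, Units.val_zpow_eq_zpow_val]
  rw [e8, map_mul, map_mul, R2.T1.ad_Phi]
  have e9 : adM K (emb s g)⁻¹ * Matrix.diagonal (dL (hb β ξ⁻¹)) * adM K (emb s g) =
      adM K (emb s g)⁻¹ * (Matrix.diagonal (dL (hb β ξ⁻¹)) * k) * adM K g := by
    rw [hk]
    have : adM K (emb s g)⁻¹ * (Matrix.diagonal (dL (hb β ξ⁻¹)) * (adM K (emb s g) * adM K g⁻¹)) * adM K g =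
      adM K (emb s g)⁻¹ * Matrix.diagonal (dL (hb β ξ⁻¹)) * adM K (emb s g) * (adM K g⁻¹ * adM K g) := by
      simp only [mul_assoc]
    rw [this, adM_inv_mul, mul_one]
  rw [e9, ← e7, hk]
  have : adM K (emb s g)⁻¹ * (adM K (emb s g) * adM K g⁻¹ * Matrix.diagonal (dL (hb β ξ))) * adM K g =
    (adM K (emb s g)⁻¹ * adM K (emb s g)) * adM K g⁻¹ * Matrix.diagonal (dL (hb β ξ)) * adM K g := by
    simp only [mul_assoc]
  rw [this, adM_inv_mul, one_mul]

end

end Cfsg.Agent.R2.T1.Five
end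

-- part: R2/T1/Five/Core
section
prune_inst 0x246024443140000000180500b00000600c0000021040080088400c040841a44224400000862000169a0284442830004001000130422000000a0004000119008008811204b058a000400006000080000000000000000000000000000000000000000000000
set_option linter.all false
open scoped Cfsg.Agent.FastGrp

/-!
# Elements commuting with an involution and fixing a vector, over the field with 5 elements (helper25)

* `two_e` : if `F` has 5 elements, `z` is an involution with 32 eigenvalues 1 on the module of degree 56, `v` is a vector of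
  the adjoint module fixed by `z` with `Qf z v ∈ {0, 2, 3}`, there is an element `ρ ≠ 1`, `ρ ^ 3 = 1` or `ρ ^ 5 = 1`, commuting
  with `z` and fixing `v`.
-/

set_option autoImplicit false
set_option linter.unusedSectionVars false
set_option maxRecDepth 100000

namespace Cfsg.Agent.R2.T1.Five

open Cfsg Cfsg.Lie Module Matrix
open Cfsg.Agent.ChevalleyStructure Cfsg.Agent.ChevalleyStructure.Elts Cfsg.Agent.ChevalleyStructure.Columns
open Cfsg.Agent.ChevalleyStructure.StBasic
open Cfsg.Agent.H943.E7V.Block (D1)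
open Cfsg.Agent.H952.F4 (ev es)
open Cfsg.Agent.R2.T1

universe u

section stdelts
variable {K : Type u} [Field K] {β : ℕ}

theorem xs_mul (r : ℕ) (t t' : K) : xs K r t * xs K r t' = xs K r (t + t') := stGen_mul chevE7 r t t'

theorem xs_zero (r : ℕ) : xs K r 0 = 1 := stGen_zero chevE7 r

theorem xs_pow (r : ℕ) (t : K) (n : ℕ) : xs K r t ^ n = xs K r (n * t) := by
  induction n with
  | zero => rw [pow_zero, Nat.cast_zero, zero_mul, xs_zero]
  | succ n ih => rw [pow_succ, ih, xs_mul]; congr 1; push_cast; ring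

theorem xs_ne (hβ : β ∈ BL) {r : Fin chevE7.nroots} (hr : r.val = β ∨ r.val = 125 - β) {μ : K} (hμ : μ ≠ 0) :
    xs K r.val μ ≠ 1 := by
  intro h
  have hr' : (ng r).val = β ∨ (ng r).val = 125 - β := by
    have hβl := BL_lt hβ
    rcases hr with hr | hr
    · right; rw [ng_val, hr]
    · left; rw [ng_val, hr]; omega
  have h1 := (xs_coord hβ hr (Ev_er (K := K) hβ hr') μ).1
  rw [h, L_one, er, Pi.single_eq_same, Pi.single_eq_of_ne (by simpa using (ng_ne r).symm)] at h1
  rw [show Pi.single (Sum.inr (ng r)) (1 : K) = er K (ng r) from rfl, al_er] at h1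
  apply hμ
  rw [← pow_eq_zero_iff (n := 2) (by norm_num)]
  linear_combination h1

theorem hb_ne (hβ : β ∈ BL) {ξ : Kˣ} (hξ : ξ ^ 2 ≠ 1) : Phi K (hb β ξ) ≠ 1 := by
  intro h
  have hβl := BL_lt hβ
  have h1 := Phi_er (hb β ξ) (⟨β, hβl⟩ : Fin chevE7.nroots)
  rw [h, L_one, rtv_hb, pr_self hβl] at h1
  have h3 := congrFun h1 (Sum.inr (⟨β, hβl⟩ : Fin chevE7.nroots))
  rw [Pi.smul_apply, er, Pi.single_eq_same, smul_eq_mul, mul_one] at h3
  apply hξ
  apply Units.ext
  rw [Units.val_one, h3]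
  rfl

/-- the root elements fix the vectors of the first kind -/
theorem xs_stab (hβ : β ∈ BL) {r : Fin chevE7.nroots} (hr : r.val = β ∨ r.val = 125 - β) {X : chevE7.Idx → K}
    (hX : Ev β X) (h1 : X (Sum.inr (ng r)) = 0) (h3 : al β X = 0) (t : K) : L K (xs K r.val t) X = X := by
  have h4 : al r.val X = 0 := by
    rcases hr with hr | hr
    · rw [hr, h3]
    · rw [hr, al_neg (BL_lt hβ), h3, neg_zero]
  rw [xs_fix hβ hr hX, h1, h4]
  module

theorem hb_stab (hβ : β ∈ BL) {b : Fin chevE7.nroots} (hb' : b.val = β) {X : chevE7.Idx → K}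
    (hX : Ev β X) (h1 : X (Sum.inr b) = 0) (h3 : X (Sum.inr (ng b)) = 0) (ξ : Kˣ) : L K (Phi K (hb β ξ)) X = X := by
  funext i
  rw [Five.L_Phi]
  rcases i with i | s
  · rw [Sum.elim_inl, one_mul]
  · rw [Sum.elim_inr, rtv_hb]
    rcases pr_cases β hβ s.val s.2 with ⟨h4, -⟩ | ⟨h4, -⟩ | ⟨-, h4⟩ | ⟨-, h4⟩
    · rw [h4, zpow_zero, Units.val_one, one_mul]
    · rw [hX s h4, mul_zero]
    · have : s = b := Fin.ext (by rw [h4, hb'])
      rw [this, h1, mul_zero]
    · have : s = ng b := Fin.ext (by rw [h4, ng_val, hb'])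
      rw [this, h3, mul_zero]

end stdelts

/-- the quadratic form -/
noncomputable def Qf {F : Type u} [Field F] (z : Gh F) (v : chevE7.Idx → F) : F := 4 * kf F v v - BF z v v

section
variable {F : Type u} [Field F] [Finite F]

theorem five_facts (h5 : Nat.card F = 5) : (5 : F) = 0 ∧ (2 : F) ≠ 0 ∧ (3 : F) ≠ 0 := by
  have := Fintype.ofFinite F
  have h : ((Fintype.card F : ℕ) : F) = 0 := FiniteField.cast_card_eq_zero F
  rw [← Nat.card_eq_fintype_card, h5] at h
  have h' : (5 : F) = 0 := by exact_mod_cast h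
  refine ⟨h', fun h2 => one_ne_zero (α := F) ?_, fun h3 => one_ne_zero (α := F) ?_⟩
  · linear_combination 3 * h2 - h'
  · linear_combination 2 * h3 - h'

variable {K : Type u} [Field K] [IsAlgClosed K] (f : F →+* K) (s : K →+* K)

/-- the elements found over the algebraic closure descend -/
theorem descend (hs : ∀ t, s t = t ^ Nat.card F) {z : Gh F} {β : ℕ}
    (h2 : (2 : K) ≠ 0) (hx : ∃ x : Kˣ, x ^ 12 ≠ 1)
    (hβ : β ∈ BL) {b : Fin chevE7.nroots} (hb' : b.val = β) {g : Gh K} (hg : Phi K (hb β (-1)) = g * emb f z * g⁻¹)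
    {v : chevE7.Idx → F} {ρ0 : Gh K} (h1 : ρ0 * Phi K (hb β (-1)) = Phi K (hb β (-1)) * ρ0)
    (h3 : L K ρ0 (L K g fun i => f (v i)) = L K g fun i => f (v i))
    (h4 : ∀ W, Ev β W → W (Sum.inr b) = 0 → W (Sum.inr (ng b)) = 0 → al β W = 0 → L K ρ0 W = W)
    {k : ℕ} (hk : Odd k) (h5 : ρ0 ^ k = 1) (h6 : ρ0 ≠ 1) (h7 : (adM K (g⁻¹ * ρ0 * g)).map s = adM K (g⁻¹ * ρ0 * g)) :
    ∃ ρ : Gh F, ρ * z = z * ρ ∧ L F ρ v = v ∧
      (∀ w, L F z w = w → PF (emb f z) (fun i => f (w i)) 0 → L F ρ w = w) ∧ ρ ^ k = 1 ∧ ρ ≠ 1 := by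
  have e1 : (g⁻¹ * ρ0 * g) ^ k = 1 := by
    have h := conj_pow (i := k) (a := g⁻¹) (b := ρ0)
    rw [inv_inv, h5, mul_one, inv_mul_cancel] at h
    exact h
  have h8 := emb_eq_of s _ hk e1 h7
  obtain ⟨ρ, hρ⟩ := exists_of_emb_eq f s hs h8
  have hinj := emb_injective f
  refine ⟨ρ, ?_, ?_, ?_, ?_, ?_⟩
  · apply hinj
    rw [map_mul, map_mul, hρ]
    have e : emb f z = g⁻¹ * Phi K (hb β (-1)) * g := by rw [hg]; group
    rw [e]
    have e2 : g⁻¹ * ρ0 * g * (g⁻¹ * Phi K (hb β (-1)) * g) = g⁻¹ * (ρ0 * Phi K (hb β (-1))) * g := by group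
    rw [e2, h1]
    group
  · apply fun_injective f
    rw [← L_emb, hρ, L_mul, L_mul, h3, L_inv_L]
  · intro w hw hPF
    apply fun_injective f
    rw [← L_emb, hρ, L_mul, L_mul]
    have hE : Ev β (L K g fun i => f (w i)) := by
      rw [← tb_fix_iff h2 hβ, hg, L_mul, L_mul, L_inv_L, L_emb, hw]
    have h9 := hPF.conj g
    rw [← hg, map_zero] at h9
    obtain ⟨c1, c2, c3⟩ := zero_of_PF h2 hx hβ hb' hE h9
    rw [h4 _ hE c1 c2 c3, L_inv_L]
  · apply hinj
    rw [map_pow, hρ, e1, map_one]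
  · rintro rfl
    rw [map_one] at hρ
    apply h6
    have : ρ0 = g * (g⁻¹ * ρ0 * g) * g⁻¹ := by group
    rw [this, ← hρ]
    group

/-- the main step -/
theorem core (hs : ∀ t, s t = t ^ Nat.card F) (hsurj : Function.Surjective s) (h5 : Nat.card F = 5) {z : Gh F}
    (hz : z * z = 1) {β : ℕ} (hβ : β ∈ BL) {b : Fin chevE7.nroots} (hb' : b.val = β) {g0 : Gh K}
    (hx : ∃ x : Kˣ, x ^ 12 ≠ 1) (hξ : ∃ ξ : K, ξ ^ 3 = 1 ∧ ξ ≠ 1)
    (hg0 : Phi K (hb β (-1)) = g0 * emb f z * g0⁻¹) {v : chevE7.Idx → F} (hv : L F z v = v)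
    (hQ : Qf z v = 0 ∨ Qf z v = 2 ∨ Qf z v = 3) (hne : ¬ PF (emb f z) (fun i => f (v i)) 0) :
    ∃ ρ : Gh F, ρ * z = z * ρ ∧ L F ρ v = v ∧
      (∀ w, L F z w = w → PF (emb f z) (fun i => f (w i)) 0 → L F ρ w = w) ∧ (ρ ^ 3 = 1 ∨ ρ ^ 5 = 1) ∧ ρ ≠ 1 := by
  obtain ⟨f5, f2, f3⟩ := five_facts h5
  have k2 : (2 : K) ≠ 0 := by
    have h := (map_ne_zero f).2 f2
    rwa [map_ofNat] at h
  have k3 : (3 : K) ≠ 0 := by
    have h := (map_ne_zero f).2 f3
    rwa [map_ofNat] at h
  have k5 : (5 : K) = 0 := by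
    have h := congrArg f f5
    rwa [map_ofNat, map_zero] at h
  set X0 : chevE7.Idx → K := fun i => f (v i) with hX0
  set X := L K g0 X0 with hXdef
  have hX : Ev β X := by
    rw [← tb_fix_iff k2 hβ, hg0, hXdef, L_mul, L_mul, L_inv_L, hX0, L_emb, hv]
  -- the invariant
  have hqn : f (Qf z v) = 16 * Qn b X := by
    have e1 : f (BF z v v) = BF (Phi K (hb β (-1))) X X := by
      rw [← BF_map, hg0, hXdef, BF_conj]
    have e2 : f (kf F v v) = kf K X X := by
      rw [← kf_map, hXdef, kf_L]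
    rw [Qf, map_sub, map_mul, e1, e2, BF_tb k2 hx hβ hb' hX hX, Qn, hb', map_ofNat]
    ring
  -- Frobenius
  have hfr : ∀ {g : Gh K} {u : chevE7.Idx → K}, Phi K (hb β (-1)) = g * emb f z * g⁻¹ →
      PF (Phi K (hb β (-1))) (L K g X0) u → (fun i => s (L K g⁻¹ u i)) = L K g⁻¹ u := by
    intro g u hg hu
    have h1 := hu.of_conj hg rfl
    have h3 := h1.map s hsurj
    rw [emb_frob f s hs] at h3
    have h4 : (fun i => s (X0 i)) = X0 := by
      funext i
      rw [hX0, hs]
      show f (v i) ^ Nat.card F = f (v i)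
      have := Fintype.ofFinite F
      rw [← map_pow, Nat.card_eq_fintype_card, FiniteField.pow_card]
    rw [h4] at h3
    exact h3.unique k2 (by rw [← map_mul, hz, map_one]) h1
  rcases nrm k2 hβ hb' hX with ⟨c1, c2, c3⟩ | ⟨hq, g1, hg1, r, hr, c1, c2, c3⟩ | ⟨g1, hg1, c1, c2, c3, c4⟩
  · exfalso
    apply hne
    have h1 := (PF_zero k2 hx hβ hb' hX c1 c2 c3).of_conj hg0 hXdef
    rwa [map_zero] at h1
  · -- nilpotent case
    have hg : Phi K (hb β (-1)) = (g1 * g0) * emb f z * (g1 * g0)⁻¹ := by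
      have e : (g1 * g0) * emb f z * (g1 * g0)⁻¹ = g1 * (g0 * emb f z * g0⁻¹) * g1⁻¹ := by group
      rw [e, ← hg0, hg1, mul_inv_cancel_right]
    have hXg : L K g1 X = L K (g1 * g0) X0 := by rw [L_mul]
    have hX' : Ev β (L K g1 X) := Ev_L k2 hβ hg1 hX
    have hr' : r.val = β ∨ r.val = 125 - β := by
      rcases hr with rfl | rfl
      · exact Or.inl hb'
      · exact Or.inr (by rw [ng_val, hb'])
    have hPF := PF_nil k2 hx hβ hb' hX' hr c1 c2
    set μ := L K g1 X (Sum.inr r) with hμ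
    rw [hXg] at hPF
    have hrat := rat_nil s k2 (hfr hg hPF)
    obtain ⟨ρ, r1, r2, r3, r4, r5⟩ := descend f s hs (z := z) k2 hx hβ hb' hg (v := v) (ρ0 := xs K r.val μ)
      (xs_comm hβ (pr_pm hβ hr') μ) (by
        rw [← hXg]
        exact xs_stab hβ hr' hX' c2 c1 μ) (by
        intro W hW w1 w2 w3
        refine xs_stab hβ hr' hW ?_ w3 μ
        rcases hr with rfl | rfl
        · exact w2
        · rw [ng_ng]; exact w1) (k := 5) (by decide) (by
        rw [xs_pow]
        push_cast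
        rw [k5, zero_mul, xs_zero]) (xs_ne hβ hr' c3) hrat
    exact ⟨ρ, r1, r2, r3, Or.inr r4, r5⟩
  · -- semisimple case
    have hg : Phi K (hb β (-1)) = (g1 * g0) * emb f z * (g1 * g0)⁻¹ := by
      have e : (g1 * g0) * emb f z * (g1 * g0)⁻¹ = g1 * (g0 * emb f z * g0⁻¹) * g1⁻¹ := by group
      rw [e, ← hg0, hg1, mul_inv_cancel_right]
    have hXg : L K g1 X = L K (g1 * g0) X0 := by rw [L_mul]
    have hX' : Ev β (L K g1 X) := Ev_L k2 hβ hg1 hX
    set a := al β (L K g1 X) with ha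
    have ha2 : a ^ 2 = f (Qf z v) := by
      rw [c4, hqn]
      linear_combination (-3 * Qn b X) * k5
    have ha4 : a ^ 4 = -1 := by
      have e : a ^ 4 = (a ^ 2) ^ 2 := by ring
      rw [e, ha2]
      rcases hQ with hQ | hQ | hQ
      · exfalso
        rw [hQ, map_zero] at ha2
        exact c3 ((pow_eq_zero_iff (by norm_num)).1 ha2)
      · rw [hQ, map_ofNat]
        linear_combination k5
      · rw [hQ, map_ofNat]
        linear_combination 2 * k5
    have hPF := PF_ss k2 hx hβ hb' hX' (l := a / 2) c1 c2 (by rw [← ha]; field_simp)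
    rw [hXg] at hPF
    obtain ⟨ξ0, hξ3, hξ1⟩ := hξ
    have hξ0 : ξ0 ≠ 0 := by
      rintro rfl
      norm_num at hξ3
    set ξ : Kˣ := Units.mk0 ξ0 hξ0 with hξdef
    have hξu : ξ ^ 3 = 1 := by
      apply Units.ext
      rw [Units.val_pow_eq_pow_val, Units.val_one]
      exact hξ3
    have hl0 : a / 2 ≠ 0 := div_ne_zero c3 k2
    have hls : s (a / 2) = -(a / 2) := by
      rw [hs, h5]
      have e : (a / 2) ^ 5 = a ^ 4 * a / 32 := by
        have e3 : (32 : K) = 2 ^ 5 := by norm_num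
        rw [div_pow, e3, pow_succ a 4]
      rw [e, ha4]
      have e2 : (32 : K) = 2 := by linear_combination 6 * k5
      rw [e2]
      ring
    have hξs : s (ξ : K) = ((ξ⁻¹ : Kˣ) : K) := by
      have e : ξ⁻¹ = ξ ^ 5 := by
        rw [inv_eq_iff_mul_eq_one]
        have : ξ * ξ ^ 5 = (ξ ^ 3) ^ 2 := by group
        rw [this, hξu, one_pow]
      rw [e, hs, h5, Units.val_pow_eq_pow_val]
    have hrat := rat_ss s k2 k3 hβ hl0 hls hξs (hfr hg hPF)
    obtain ⟨ρ, r1, r2, r3, r4, r5⟩ := descend f s hs (z := z) k2 hx hβ hb' hg (v := v) (ρ0 := Phi K (hb β ξ))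
      (Phi_comm _ _) (by
        rw [← hXg]
        exact hb_stab hβ hb' hX' c1 c2 ξ) (by
        intro W hW w1 w2 _
        exact hb_stab hβ hb' hW w1 w2 ξ) (k := 3) (by decide) (by
        rw [← map_pow, ← hb_pow, hξu, hb_one, map_one]) (hb_ne hβ (by
          intro h
          apply hξ1
          have : ξ = ξ ^ 3 * (ξ ^ 2)⁻¹ := by group
          rw [hξu, h, inv_one, mul_one] at this
          exact congrArg Units.val this)) hrat
    exact ⟨ρ, r1, r2, r3, Or.inl r4, r5⟩

end

end Cfsg.Agent.R2.T1.Five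

private theorem dce_ce8202bb8ae3 : _root_.True := by
  try have : _root_.True := by simp only [_root_.Cfsg.Agent.R2.T1.Five.Qf.eq_1]
  exact _root_.True.intro
end

-- part: R2/T1/Five/TwoE
section
prune_inst 0x246064443140020000000500b00000600800000210400800e8e00c040801a44280460040ba301412000084146838004001000030420800000a000c00011901a088811204b048a10026000e000080000000000000000000000000000000000000000000000
set_option linter.all false
open scoped Cfsg.Agent.FastGrp

/-!
# Elements commuting with an involution and fixing a vector, over the field with 5 elements (helper25)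
-/

set_option autoImplicit false
set_option linter.unusedSectionVars false
set_option maxRecDepth 100000

namespace Cfsg.Agent.R2.T1.Five

open Cfsg Cfsg.Lie Module Matrix
open Cfsg.Agent.H943.E7V.Block (D1)
open Cfsg.Agent.H952.F4 (ev es)
open Cfsg.Agent.H65.E6Emb (ext ext_le mem_ext_of_mem)
open Cfsg.Agent.R2.T1

universe u

theorem quad_zmod : ∀ a b c : ZMod 5, ∃ x y : ZMod 5, ¬ (x = 0 ∧ y = 0) ∧
    (a * x ^ 2 + b * (x * y) + c * y ^ 2 = 0 ∨ a * x ^ 2 + b * (x * y) + c * y ^ 2 = 2 ∨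
      a * x ^ 2 + b * (x * y) + c * y ^ 2 = 3) := by decide +kernel

section
variable {F : Type u} [Field F] [Finite F]

theorem quad_five (h5 : Nat.card F = 5) (a b c : F) : ∃ x y : F, ¬ (x = 0 ∧ y = 0) ∧
    (a * x ^ 2 + b * (x * y) + c * y ^ 2 = 0 ∨ a * x ^ 2 + b * (x * y) + c * y ^ 2 = 2 ∨
      a * x ^ 2 + b * (x * y) + c * y ^ 2 = 3) := by
  have := Fintype.ofFinite F
  let e : ZMod 5 ≃+* F := ZMod.ringEquivOfPrime F (by norm_num) (by rw [← Nat.card_eq_fintype_card, h5])
  obtain ⟨x, y, h1, h2⟩ := quad_zmod (e.symm a) (e.symm b) (e.symm c)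
  have key : a * e x ^ 2 + b * (e x * e y) + c * e y ^ 2 =
      e (e.symm a * x ^ 2 + e.symm b * (x * y) + e.symm c * y ^ 2) := by
    simp only [map_add, map_mul, map_pow, RingEquiv.apply_symm_apply]
  refine ⟨e x, e y, ?_, ?_⟩
  · rintro ⟨h3, h4⟩
    exact h1 ⟨(map_eq_zero_iff e e.injective).1 h3, (map_eq_zero_iff e e.injective).1 h4⟩
  · rw [key]
    rcases h2 with h2 | h2 | h2
    · left; rw [h2, map_zero]
    · right; left; rw [h2, map_ofNat]
    · right; right; rw [h2, map_ofNat]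

theorem Qf_add (z : Gh F) (x y : F) (v w : chevE7.Idx → F) : Qf z (x • v + y • w) =
    Qf z v * x ^ 2 + (8 * kf F v w - BF z v w - BF z w v) * (x * y) + Qf z w * y ^ 2 := by
  unfold Qf
  simp only [map_add, map_smul, LinearMap.add_apply, LinearMap.smul_apply, smul_eq_mul]
  rw [kf_comm w v]
  ring

variable {K : Type u} [Field K] [IsAlgClosed K] (f : F →+* K)

/-- the determinant of two coordinates -/
noncomputable def Dt (g0 : Gh K) (b : Fin chevE7.nroots) (W1 W2 : chevE7.Idx → K) : K :=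
  L K g0 W1 (Sum.inr b) * L K g0 W2 (Sum.inr (ng b)) - L K g0 W1 (Sum.inr (ng b)) * L K g0 W2 (Sum.inr b)

theorem exists_Dt {z : Gh F} {β : ℕ} (k2 : (2 : K) ≠ 0) (hβ : β ∈ BL) {b : Fin chevE7.nroots} (hb' : b.val = β)
    {g0 : Gh K} (hg0 : Phi K (hb β (-1)) = g0 * emb f z * g0⁻¹) :
    ∃ v1 v2 : chevE7.Idx → F, L F z v1 = v1 ∧ L F z v2 = v2 ∧
      Dt g0 b (fun i => f (v1 i)) (fun i => f (v2 i)) ≠ 0 := by
  by_contra hne
  push Not at hne
  have hmem : ∀ {v : chevE7.Idx → F}, v ∈ es (L F z) 1 ↔ L F z v = v := by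
    intro v
    show v ∈ Module.End.eigenspace (L F z) 1 ↔ _
    rw [Module.End.mem_eigenspace_iff, one_smul]
  have hext : ext f (es (L F z) 1) = es (L K (emb f z)) 1 := by
    rw [ext_es_L, map_one]
  have s1 : ∀ v2 : chevE7.Idx → F, L F z v2 = v2 → ∀ W ∈ ext f (es (L F z) 1), Dt g0 b W (fun i => f (v2 i)) = 0 := by
    intro v2 hv2
    let U : Submodule K (chevE7.Idx → K) :=
      { carrier := {W | Dt g0 b W (fun i => f (v2 i)) = 0}
        zero_mem' := by
          show Dt g0 b 0 _ = 0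
          unfold Dt
          rw [map_zero]
          simp
        add_mem' := by
          intro W W' h h'
          change Dt g0 b W _ = 0 at h
          change Dt g0 b W' _ = 0 at h'
          show Dt g0 b (W + W') _ = 0
          unfold Dt at h h' ⊢
          rw [map_add, Pi.add_apply, Pi.add_apply]
          linear_combination h + h'
        smul_mem' := by
          intro c W h
          change Dt g0 b W _ = 0 at h
          show Dt g0 b (c • W) _ = 0
          unfold Dt at h ⊢
          rw [map_smul, Pi.smul_apply, Pi.smul_apply, smul_eq_mul, smul_eq_mul]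
          linear_combination c * h }
    have h1 : ext f (es (L F z) 1) ≤ U := ext_le fun x hx => hne x v2 (hmem.1 hx) hv2
    exact fun W hW => h1 hW
  have s2 : ∀ W1 ∈ ext f (es (L F z) 1), ∀ W ∈ ext f (es (L F z) 1), Dt g0 b W1 W = 0 := by
    intro W1 hW1
    let U : Submodule K (chevE7.Idx → K) :=
      { carrier := {W | Dt g0 b W1 W = 0}
        zero_mem' := by
          show Dt g0 b _ 0 = 0
          unfold Dt
          rw [map_zero]
          simp
        add_mem' := by
          intro W W' h h'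
          change Dt g0 b _ W = 0 at h
          change Dt g0 b _ W' = 0 at h'
          show Dt g0 b _ (W + W') = 0
          unfold Dt at h h' ⊢
          rw [map_add, Pi.add_apply, Pi.add_apply]
          linear_combination h + h'
        smul_mem' := by
          intro c W h
          change Dt g0 b _ W = 0 at h
          show Dt g0 b _ (c • W) = 0
          unfold Dt at h ⊢
          rw [map_smul, Pi.smul_apply, Pi.smul_apply, smul_eq_mul, smul_eq_mul]
          linear_combination c * h }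
    have h1 : ext f (es (L F z) 1) ≤ U := ext_le fun x hx => s1 x (hmem.1 hx) W1 hW1
    exact fun W hW => h1 hW
  have hz : emb f z = g0⁻¹ * Phi K (hb β (-1)) * g0 := by rw [hg0]; group
  have hin : ∀ r : Fin chevE7.nroots, (r.val = β ∨ r.val = 125 - β) → L K g0⁻¹ (er K r) ∈ ext f (es (L F z) 1) := by
    intro r hr
    rw [hext]
    show _ ∈ Module.End.eigenspace (L K (emb f z)) 1
    rw [Module.End.mem_eigenspace_iff, one_smul, hz, L_mul, L_mul, L_L_inv,
      (tb_fix_iff k2 hβ _).2 (Ev_er hβ hr)]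
  have h1 := s2 _ (hin b (Or.inl hb')) _ (hin (ng b) (Or.inr (by rw [ng_val, hb'])))
  unfold Dt at h1
  rw [L_L_inv, L_L_inv, er, er, Pi.single_eq_same, Pi.single_eq_same,
    Pi.single_eq_of_ne (by simpa using ng_ne b)] at h1
  norm_num at h1

theorem exists_v0 (h5 : Nat.card F = 5) {z : Gh F} {β : ℕ} (k2 : (2 : K) ≠ 0) (hx : ∃ x : Kˣ, x ^ 12 ≠ 1) (hβ : β ∈ BL)
    {b : Fin chevE7.nroots} (hb' : b.val = β) {g0 : Gh K} (hg0 : Phi K (hb β (-1)) = g0 * emb f z * g0⁻¹) :
    ∃ v : chevE7.Idx → F, L F z v = v ∧ (Qf z v = 0 ∨ Qf z v = 2 ∨ Qf z v = 3) ∧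
      ¬ PF (emb f z) (fun i => f (v i)) 0 := by
  obtain ⟨v1, v2, h1, h2, hD⟩ := exists_Dt f k2 hβ hb' hg0
  obtain ⟨x, y, hxy, hq⟩ := quad_five h5 (Qf z v1) (8 * kf F v1 v2 - BF z v1 v2 - BF z v2 v1) (Qf z v2)
  rw [← Qf_add] at hq
  have hv : L F z (x • v1 + y • v2) = x • v1 + y • v2 := by rw [map_add, map_smul, map_smul, h1, h2]
  refine ⟨x • v1 + y • v2, hv, hq, fun hPF => hxy ?_⟩
  have h3 := hPF.conj g0
  rw [← hg0, map_zero] at h3
  have hE : Ev β (L K g0 fun i => f ((x • v1 + y • v2) i)) := by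
    rw [← tb_fix_iff k2 hβ, hg0, L_mul, L_mul, L_inv_L, L_emb, hv]
  obtain ⟨c1, c2, -⟩ := zero_of_PF k2 hx hβ hb' hE h3
  have e : (fun i => f ((x • v1 + y • v2) i)) = f x • (fun i => f (v1 i)) + f y • fun i => f (v2 i) := by
    funext i
    simp only [Pi.add_apply, Pi.smul_apply, smul_eq_mul, map_add, map_mul]
  rw [e, map_add, map_smul, map_smul, Pi.add_apply, Pi.smul_apply, Pi.smul_apply, smul_eq_mul, smul_eq_mul] at c1 c2
  unfold Dt at hD
  constructor
  · have h4 : f x * (L K g0 (fun i => f (v1 i)) (Sum.inr b) * L K g0 (fun i => f (v2 i)) (Sum.inr (ng b)) -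
        L K g0 (fun i => f (v1 i)) (Sum.inr (ng b)) * L K g0 (fun i => f (v2 i)) (Sum.inr b)) = 0 := by
      linear_combination L K g0 (fun i => f (v2 i)) (Sum.inr (ng b)) * c1 - L K g0 (fun i => f (v2 i)) (Sum.inr b) * c2
    exact (map_eq_zero f).1 ((mul_eq_zero.1 h4).resolve_right hD)
  · have h4 : f y * (L K g0 (fun i => f (v1 i)) (Sum.inr b) * L K g0 (fun i => f (v2 i)) (Sum.inr (ng b)) -
        L K g0 (fun i => f (v1 i)) (Sum.inr (ng b)) * L K g0 (fun i => f (v2 i)) (Sum.inr b)) = 0 := by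
      linear_combination L K g0 (fun i => f (v1 i)) (Sum.inr b) * c2 - L K g0 (fun i => f (v1 i)) (Sum.inr (ng b)) * c1
    exact (map_eq_zero f).1 ((mul_eq_zero.1 h4).resolve_right hD)

/-- **elements commuting with an involution and fixing a vector** -/
theorem two_e (h5 : Nat.card F = 5) {z : Gh F} (hz : z * z = 1) (h32 : ev (V F z) 1 = 32) {v : chevE7.Idx → F}
    (hv : L F z v = v) (hQ : Qf z v = 0 ∨ Qf z v = 2 ∨ Qf z v = 3) :
    ∃ ρ : Gh F, ρ * z = z * ρ ∧ L F ρ v = v ∧ (ρ ^ 3 = 1 ∨ ρ ^ 5 = 1) ∧ ρ ≠ 1 := by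
  have := Fintype.ofFinite F
  obtain ⟨f5, f2, f3⟩ := five_facts h5
  have hch : CharP F 5 := by
    obtain ⟨p, hp⟩ := CharP.exists F
    have hpp : p.Prime := CharP.char_is_prime F p
    have h8 : p ∣ 5 := (CharP.cast_eq_zero_iff F p 5).1 (by exact_mod_cast f5)
    rwa [(Nat.prime_dvd_prime_iff_eq hpp Nat.prime_five).1 h8] at hp
  have hp5 : Fact (Nat.Prime 5) := ⟨Nat.prime_five⟩
  set K := AlgebraicClosure F with hK
  set f : F →+* K := algebraMap F K with hf
  let s : K →+* K := (FiniteField.frobeniusAlgEquivOfAlgebraic F K : K →+* K)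
  have hs : ∀ t, s t = t ^ Nat.card F := by
    intro t
    rw [Nat.card_eq_fintype_card]
    rfl
  have hsurj : Function.Surjective s := (FiniteField.frobeniusAlgEquivOfAlgebraic F K).surjective
  have k2 : (2 : K) ≠ 0 := by
    have h := (map_ne_zero f).2 f2
    rwa [map_ofNat] at h
  have k3 : (3 : K) ≠ 0 := by
    have h := (map_ne_zero f).2 f3
    rwa [map_ofNat] at h
  have k5 : (5 : K) = 0 := by
    have h := congrArg f f5
    rwa [map_ofNat, map_zero] at h
  have k7 : ((7 : ℕ) : K) ≠ 0 := by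
    have : ((7 : ℕ) : K) = 2 := by push_cast; linear_combination k5
    rw [this]; exact k2
  have hx : ∃ x : Kˣ, x ^ 12 ≠ 1 := by
    have : NeZero ((7 : ℕ) : K) := ⟨k7⟩
    obtain ⟨ζ, hζ⟩ : ∃ ζ : K, IsPrimitiveRoot ζ 7 := HasEnoughRootsOfUnity.exists_primitiveRoot K 7
    refine ⟨Units.mk0 ζ (hζ.ne_zero (by norm_num)), fun h => ?_⟩
    have h1 : ζ ^ 12 = 1 := by
      have := congrArg Units.val h
      simpa using this
    have h3 := hζ.dvd_of_pow_eq_one 12 h1
    norm_num at h3
  have hξ : ∃ ξ : K, ξ ^ 3 = 1 ∧ ξ ≠ 1 := by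
    have : NeZero ((3 : ℕ) : K) := ⟨by exact_mod_cast k3⟩
    obtain ⟨ζ, hζ⟩ : ∃ ζ : K, IsPrimitiveRoot ζ 3 := HasEnoughRootsOfUnity.exists_primitiveRoot K 3
    exact ⟨ζ, hζ.pow_eq_one, hζ.ne_one (by norm_num)⟩
  have hfr := frame 5 (by norm_num : (2 : ℕ) ≠ 0) (by norm_num) (x := z) (by rw [pow_two, hz])
  obtain ⟨β, hβ, g0, hg0⟩ := exists_beta k2 hfr (by rw [ev_V_one, h32])
  have hb' : ((⟨β, BL_lt hβ⟩ : Fin chevE7.nroots)).val = β := rfl
  by_cases hne : PF (emb f z) (fun i => f (v i)) 0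
  · obtain ⟨v0, w1, w2, w3⟩ := exists_v0 f h5 k2 hx hβ hb' hg0
    obtain ⟨ρ, r1, r2, r3, r4, r5⟩ := core f s hs hsurj h5 hz hβ hb' hx hξ hg0 w1 w2 w3
    exact ⟨ρ, r1, r3 v hv hne, r4, r5⟩
  · obtain ⟨ρ, r1, r2, r3, r4, r5⟩ := core f s hs hsurj h5 hz hβ hb' hx hξ hg0 hv hQ hne
    exact ⟨ρ, r1, r2, r4, r5⟩

end

end Cfsg.Agent.R2.T1.Five
end

-- part: R2/T1/T3/Core
section
prune_inst 0x24606004210002000018001290000060480001021043080081a00d06084164622d02a601bab006161a8090c460380040000000300000000000000400411901a0988052043340a10446000f800800000000000000000000000000000000000000000000000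
set_option linter.all false
open scoped Cfsg.Agent.FastGrp

/-!
# T1, pattern T3 (helper25): module theory

* `Hyp` : the hypotheses;
* `core` : they are contradictory.
-/

set_option autoImplicit false
set_option linter.unusedSectionVars false

namespace Cfsg.Agent.R2.T1.T3

open Equiv Equiv.Perm Module
open Cfsg.Agent.H952.F4 (ev es GenT)
open Cfsg.Agent.H952.F4.Scott (scott_form)

variable {K W : Type*} [Field K] [AddCommGroup W] [Module K W] [FiniteDimensional K W]

/-- the hypotheses -/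
structure Hyp (ρ : Representation K (A 8) W) (B : W →ₗ[K] W →ₗ[K] K) : Prop where
  two : (2 : K) = 0
  dim : finrank K W = 56
  nd : ∀ v, (∀ w, B v w = 0) → v = 0
  inv : ∀ g v w, B (ρ g v) (ρ g w) = B v w
  symm : ∀ v w, B v w = B w v
  fix : ρ.invariants = ⊥
  c3 : ∀ a : A 8, (a : Perm (Fin 8)).cycleType = {3} → ev (ρ a) 1 = 32
  c33 : ∀ a : A 8, (a : Perm (Fin 8)).cycleType = {3, 3} → ev (ρ a) 1 = 20
  c5 : ∀ a : A 8, (a : Perm (Fin 8)).cycleType = {5} → ev (ρ a) 1 = 16
  c7 : ∀ a : A 8, (a : Perm (Fin 8)).cycleType = {7} → ev (ρ a) 1 = 8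
  c53 : ∀ a : A 8, (a : Perm (Fin 8)).cycleType = {5, 3} → ev (ρ a) 1 = 8

variable {ρ : Representation K (A 8) W} {B : W →ₗ[K] W →ₗ[K] K}

theorem finrank_map {V : Type*} [AddCommGroup V] [Module K V] [FiniteDimensional K V] (f : W →ₗ[K] V)
    (P : Submodule K W) (hf : ∀ w ∈ P, f w = 0 → w = 0) : finrank K ↥(P.map f) = finrank K ↥P := by
  have h1 := LinearMap.finrank_range_add_finrank_ker (f ∘ₗ P.subtype)
  have h2 : LinearMap.ker (f ∘ₗ P.subtype) = ⊥ := by
    rw [eq_bot_iff]
    intro w hw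
    rw [Submodule.mem_bot]
    exact Subtype.ext (hf w w.2 (LinearMap.mem_ker.1 hw))
  rw [h2, finrank_bot, add_zero, LinearMap.range_comp, Submodule.range_subtype] at h1
  exact h1

/-- orthogonal subspaces of a nondegenerate space -/
theorem perp_bound (B : W →ₗ[K] W →ₗ[K] K) (N P D : Submodule K W) (hP : P ≤ N) (hD : D ≤ N)
    (hnd : ∀ n ∈ N, (∀ n' ∈ N, B n n' = 0) → n = 0) (horth : ∀ p ∈ P, ∀ d ∈ D, B p d = 0) :
    finrank K ↥P + finrank K ↥D ≤ finrank K ↥N := by
  let β : ↥N →ₗ[K] Module.Dual K ↥N := B.domRestrict₁₂ N N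
  have hβ : ∀ n n' : ↥N, β n n' = B n n' := fun _ _ => rfl
  let P' : Submodule K ↥N := P.comap N.subtype
  let D' : Submodule K ↥N := D.comap N.subtype
  have h1 : finrank K ↥(P'.map β) = finrank K ↥P' := finrank_map β P' (by
    intro n _ hn
    apply Subtype.ext
    refine hnd n n.2 fun n' hn' => ?_
    rw [← hβ n ⟨n', hn'⟩, hn]
    rfl)
  have h2 : P'.map β ≤ D'.dualAnnihilator := by
    rintro _ ⟨p, hp, rfl⟩
    rw [Submodule.mem_dualAnnihilator]
    intro d hd
    exact horth p hp d hd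
  have h3 := Submodule.finrank_mono h2
  have h4 := Subspace.finrank_add_finrank_dualAnnihilator_eq D'
  have h5 : finrank K ↥P' = finrank K ↥P := by
    rw [← finrank_map N.subtype P' (fun w _ hw => Subtype.ext hw)]
    rw [Submodule.map_comap_subtype, inf_eq_right.2 hP]
  have h6 : finrank K ↥D' = finrank K ↥D := by
    rw [← finrank_map N.subtype D' (fun w _ hw => Subtype.ext hw)]
    rw [Submodule.map_comap_subtype, inf_eq_right.2 hD]
  omega

theorem rho_mul (g h : A 8) (w : W) : ρ (g * h) w = ρ g (ρ h w) := by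
  rw [map_mul, Module.End.mul_apply]

theorem rho_one (w : W) : ρ 1 w = w := by rw [map_one, Module.End.one_apply]

theorem two_smul_zero (h : Hyp ρ B) (w : W) : w + w = 0 := by
  rw [← two_smul K w, h.two, zero_smul]

theorem neg_eq (h : Hyp ρ B) (w : W) : -w = w := neg_eq_of_add_eq_zero_left (two_smul_zero h w)

theorem add_k (h : Hyp ρ B) (a : K) : a + a = 0 := by
  rw [← two_mul, h.two, zero_mul]

/-! ### The fixed spaces -/

variable (ρ) in
/-- the vectors fixed by `A₇` -/
def U : Submodule K W where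
  carrier := {w | ∀ g : A 8, (g : Perm (Fin 8)) 7 = 7 → ρ g w = w}
  add_mem' := fun {a b} ha hb g hg => by rw [map_add, ha g hg, hb g hg]
  zero_mem' := fun g _ => map_zero _
  smul_mem' := fun c a ha g hg => by rw [map_smul, ha g hg]

variable (ρ) in
/-- the vectors fixed by `A₆` -/
def W6 : Submodule K W where
  carrier := {w | ∀ g : A 8, (g : Perm (Fin 8)) 6 = 6 → (g : Perm (Fin 8)) 7 = 7 → ρ g w = w}
  add_mem' := fun {a b} ha hb g hg hg' => by rw [map_add, ha g hg hg', hb g hg hg']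
  zero_mem' := fun g _ _ => map_zero _
  smul_mem' := fun c a ha g hg hg' => by rw [map_smul, ha g hg hg']

theorem dim_U (h : Hyp ρ B) : 2 ≤ finrank K ↥(U ρ) := by
  obtain ⟨a, b, hgen, ha, hb, hab⟩ := gen7b
  have hs := scott_form (V := W) (MonoidHom.comp ρ inc : Representation K (A 7) W) hgen B h.nd
    (fun g v w => h.inv (inc g) v w)
  have e1 : ev ((MonoidHom.comp ρ inc : Representation K (A 7) W) a) 1 = 32 := h.c3 _ (by rw [ct_inc, ha])
  have e2 : ev ((MonoidHom.comp ρ inc : Representation K (A 7) W) b) 1 = 20 := h.c33 _ (by rw [ct_inc, hb])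
  have e3 : ev ((MonoidHom.comp ρ inc : Representation K (A 7) W) (a * b)) 1 = 8 := h.c7 _ (by rw [ct_inc, hab])
  rw [e1, e2, e3, h.dim] at hs
  have hle : Representation.invariants (MonoidHom.comp ρ inc : Representation K (A 7) W) ≤ U ρ := by
    intro w hw g hg
    obtain ⟨g', rfl⟩ := exists_inc (n := 7) g hg
    exact (Representation.mem_invariants (ρ := (MonoidHom.comp ρ inc : Representation K (A 7) W)) w).1 hw g'
  have := Submodule.finrank_mono hle
  omega

theorem dim_W6 (h : Hyp ρ B) : 6 ≤ finrank K ↥(W6 ρ) := by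
  obtain ⟨a, b, hgen, ha, hb, hab⟩ := Cfsg.Agent.H952.F4.Gen.gen6b
  let σ : Representation K (A 6) W := MonoidHom.comp ρ (MonoidHom.comp (inc (n := 7)) (inc (n := 6)))
  have hs := scott_form (V := W) σ hgen B h.nd (fun g v w => h.inv (inc (inc g)) v w)
  have e1 : ev (σ a) 1 = 32 := h.c3 _ (by show (((inc (inc a) : A 8)) : Perm (Fin 8)).cycleType = _; rw [ct_inc, ct_inc, ha])
  have e2 : ev (σ b) 1 = 20 := h.c33 _ (by show (((inc (inc b) : A 8)) : Perm (Fin 8)).cycleType = _; rw [ct_inc, ct_inc, hb])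
  have e3 : ev (σ (a * b)) 1 = 16 := h.c5 _ (by
    show (((inc (inc (a * b)) : A 8)) : Perm (Fin 8)).cycleType = _
    rw [ct_inc, ct_inc, hab])
  rw [e1, e2, e3, h.dim] at hs
  have hle : Representation.invariants σ ≤ W6 ρ := by
    intro w hw g h6 h7
    obtain ⟨g', rfl⟩ := exists_inc2 g h6 h7
    exact (Representation.mem_invariants (ρ := σ) w).1 hw g'
  have := Submodule.finrank_mono hle
  omega

/-! ### Generation -/

variable (ρ) in
/-- the stabilizer of a vector -/
def stab (w : W) : Subgroup (A 8) where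
  carrier := {g | ρ g w = w}
  mul_mem' := fun {a b} ha hb => by
    show ρ (a * b) w = w
    rw [rho_mul, show ρ b w = w from hb, show ρ a w = w from ha]
  one_mem' := rho_one w
  inv_mem' := fun {a} ha => by
    show ρ a⁻¹ w = w
    have h : ρ a⁻¹ (ρ a w) = w := by rw [← rho_mul, inv_mul_cancel, rho_one]
    rwa [show ρ a w = w from ha] at h

theorem zero_of_all (h : Hyp ρ B) {w : W} (hw : ∀ g, ρ g w = w) : w = 0 := by
  have h1 : w ∈ ρ.invariants := (Representation.mem_invariants (ρ := ρ) w).2 hw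
  rwa [h.fix, Submodule.mem_bot] at h1

theorem zero_of_67 (h : Hyp ρ B) {w : W} (h6 : ∀ g : A 8, (g : Perm (Fin 8)) 6 = 6 → ρ g w = w) (h7 : w ∈ U ρ) :
    w = 0 := zero_of_all h (gen_67 (stab ρ w) h6 h7)

theorem zero_of_y (h : Hyp ρ B) {w : W} (h6 : w ∈ W6 ρ) (hy : ρ y w = w) : w = 0 :=
  zero_of_all h (gen_y (stab ρ w) h6 hy)

/-! ### The translates -/

theorem exists_tr7 (i : Fin 8) : ∃ a : A 8, (a : Perm (Fin 8)) 7 = i ∧ (i = 7 → a = 1) := by
  by_cases h : i = 7
  · exact ⟨1, h.symm, fun _ => rfl⟩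
  · by_cases h' : i = 6
    · obtain ⟨a, -, h2⟩ := exists_two 7 i (by rw [h']; decide)
      exact ⟨a, h2, fun h3 => absurd h3 h⟩
    · obtain ⟨a, -, h2⟩ := exists_two 6 i (Ne.symm h')
      exact ⟨a, h2, fun h3 => absurd h3 h⟩

/-- an element moving 7 to `i` -/
noncomputable def tr (i : Fin 8) : A 8 := (exists_tr7 i).choose

theorem tr_spec (i : Fin 8) : (tr i : Perm (Fin 8)) 7 = i := (exists_tr7 i).choose_spec.1

theorem tr_seven : tr 7 = 1 := (exists_tr7 7).choose_spec.2 rfl

variable (ρ) in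
/-- the translates of the vectors fixed by `A₇` -/
noncomputable def v (i : Fin 8) : W →ₗ[K] W := ρ (tr i)

theorem v_seven (u : W) : v ρ 7 u = u := by rw [v, tr_seven, rho_one]

theorem rho_v {u : W} (hu : u ∈ U ρ) (g : A 8) (i : Fin 8) : ρ g (v ρ i u) = v ρ ((g : Perm (Fin 8)) i) u := by
  have h := hu ((tr ((g : Perm (Fin 8)) i))⁻¹ * (g * tr i)) (by
    show (((tr ((g : Perm (Fin 8)) i) : Perm (Fin 8)))⁻¹ * ((g : Perm (Fin 8)) * (tr i : Perm (Fin 8)))) 7 = 7
    rw [Perm.mul_apply, Perm.mul_apply, tr_spec, Perm.inv_eq_iff_eq, tr_spec])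
  have h1 := congrArg (ρ (tr ((g : Perm (Fin 8)) i))) h
  rw [← rho_mul, mul_inv_cancel_left, rho_mul] at h1
  exact h1

theorem v_inj {u : W} {i : Fin 8} (h : v ρ i u = 0) : u = 0 := by
  have h1 := congrArg (ρ (tr i)⁻¹) h
  rwa [v, ← rho_mul, inv_mul_cancel, rho_one, map_zero] at h1

theorem sum_v (h : Hyp ρ B) {u : W} (hu : u ∈ U ρ) : ∑ i, v ρ i u = 0 := by
  apply zero_of_all h
  intro g
  rw [map_sum]
  simp only [rho_v hu]
  exact Equiv.sum_comp (g : Perm (Fin 8)) (fun i => v ρ i u)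

theorem B_rho (h : Hyp ρ B) {u : W} (hu : u ∈ U ρ) (g : A 8) (w : W) (i : Fin 8) :
    B (ρ g w) (v ρ ((g : Perm (Fin 8)) i) u) = B w (v ρ i u) := by
  rw [← rho_v hu, h.inv]

theorem B_ne (h : Hyp ρ B) {u u' : W} (hu : u ∈ U ρ) (hu' : u' ∈ U ρ) {i j : Fin 8} (hij : i ≠ j) :
    B (v ρ i u) (v ρ j u') = B (v ρ 6 u) (v ρ 7 u') := by
  obtain ⟨a, h6, h7⟩ := exists_two i j hij
  conv_lhs => rw [← h6, ← h7]
  rw [← rho_v hu, ← rho_v hu', h.inv]

theorem B_eq (h : Hyp ρ B) {u u' : W} (hu : u ∈ U ρ) (hu' : u' ∈ U ρ) (i : Fin 8) :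
    B (v ρ i u) (v ρ i u') = B (v ρ 6 u) (v ρ 7 u') := by
  have h1 : B (∑ k, v ρ k u) (v ρ i u') = 0 := by rw [sum_v h hu, map_zero, LinearMap.zero_apply]
  rw [map_sum, LinearMap.sum_apply, ← Finset.add_sum_erase _ _ (Finset.mem_univ i),
    Finset.sum_congr rfl (fun k hk => B_ne h hu hu' (Finset.ne_of_mem_erase hk)), Finset.sum_const,
    Finset.card_erase_of_mem (Finset.mem_univ i), Finset.card_univ, Fintype.card_fin] at h1
  have h2 : (8 - 1) • B (v ρ 6 u) (v ρ 7 u') = B (v ρ 6 u) (v ρ 7 u') := by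
    rw [show (8 - 1 : ℕ) = 2 * 3 + 1 by norm_num, add_smul, one_smul, mul_comm, mul_smul, two_smul, add_k h,
      smul_zero, zero_add]
  rw [h2] at h1
  have h3 := eq_neg_of_add_eq_zero_left h1
  rw [h3]
  exact neg_eq_of_add_eq_zero_left (add_k h _)

theorem B_v (h : Hyp ρ B) {u u' : W} (hu : u ∈ U ρ) (hu' : u' ∈ U ρ) (i j : Fin 8) :
    B (v ρ i u) (v ρ j u') = B (v ρ 6 u) (v ρ 7 u') := by
  by_cases hij : i = j
  · subst hij
    exact B_eq h hu hu' i
  · exact B_ne h hu hu' hij

/-! ### The submodule `D` -/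

variable (ρ B) in
/-- the orthogonal space of the differences of the `v_i(u)` -/
def D : Submodule K W where
  carrier := {w | ∀ u ∈ U ρ, ∀ i j, B w (v ρ i u) = B w (v ρ j u)}
  add_mem' := fun {a b} ha hb u hu i j => by
    rw [map_add, LinearMap.add_apply, LinearMap.add_apply, ha u hu i j, hb u hu i j]
  zero_mem' := fun u _ i j => by rw [map_zero, LinearMap.zero_apply, LinearMap.zero_apply]
  smul_mem' := fun c a ha u hu i j => by
    rw [map_smul, LinearMap.smul_apply, LinearMap.smul_apply, ha u hu i j]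

theorem D_stable (h : Hyp ρ B) {w : W} (hw : w ∈ D ρ B) (g : A 8) : ρ g w ∈ D ρ B := by
  intro u hu i j
  have e : ∀ k, B (ρ g w) (v ρ k u) = B w (v ρ ((g : Perm (Fin 8))⁻¹ k) u) := fun k => by
    have h1 := B_rho h hu g w ((g : Perm (Fin 8))⁻¹ k)
    have h2 : (g : Perm (Fin 8)) ((g : Perm (Fin 8))⁻¹ k) = k := by simp
    rwa [h2] at h1
  rw [e, e]
  exact hw u hu _ _

theorem v_mem_D (h : Hyp ρ B) {u : W} (hu : u ∈ U ρ) (k : Fin 8) : v ρ k u ∈ D ρ B := by
  intro u' hu' i j
  rw [B_v h hu hu' k i, B_v h hu hu' k j]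

theorem v6_mem {u : W} (hu : u ∈ U ρ) {g : A 8} (hg : (g : Perm (Fin 8)) 6 = 6) : ρ g (v ρ 6 u) = v ρ 6 u := by
  rw [rho_v hu, hg]

theorem v6_mem_W6 {u : W} (hu : u ∈ U ρ) : v ρ 6 u ∈ W6 ρ := fun _ h6 _ => v6_mem hu h6

theorem U_le_W6 : U ρ ≤ W6 ρ := fun _ hu g _ h7 => hu g h7

variable (ρ) in
/-- the sum of the fixed spaces of the two groups `A₇` containing `A₆` -/
noncomputable def P : Submodule K W := (U ρ).map (v ρ 6) ⊔ U ρ

theorem mem_P {w : W} : w ∈ P ρ ↔ ∃ u1 ∈ U ρ, ∃ u2 ∈ U ρ, w = v ρ 6 u1 + u2 := by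
  rw [P, Submodule.mem_sup]
  constructor
  · rintro ⟨_, ⟨u1, h1, rfl⟩, u2, h2, rfl⟩
    exact ⟨u1, h1, u2, h2, rfl⟩
  · rintro ⟨u1, h1, u2, h2, rfl⟩
    exact ⟨_, ⟨u1, h1, rfl⟩, u2, h2, rfl⟩

theorem P_le (h : Hyp ρ B) : P ρ ≤ W6 ρ ⊓ D ρ B := by
  intro w hw
  obtain ⟨u1, h1, u2, h2, rfl⟩ := mem_P.1 hw
  refine ⟨(W6 ρ).add_mem (v6_mem_W6 h1) (U_le_W6 h2), (D ρ B).add_mem (v_mem_D h h1 6) ?_⟩
  have := v_mem_D h h2 7
  rwa [v_seven] at this

theorem zero_of_v6 (h : Hyp ρ B) {u u' : W} (hu : u ∈ U ρ) (hu' : u' ∈ U ρ) (he : v ρ 6 u = u') : u = 0 := by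
  have h1 : v ρ 6 u = 0 := zero_of_67 h (fun g hg => v6_mem hu hg) (by rw [he]; exact hu')
  exact v_inj h1

theorem dim_P (h : Hyp ρ B) : finrank K ↥(P ρ) = 2 * finrank K ↥(U ρ) := by
  have h1 := Submodule.finrank_sup_add_finrank_inf_eq ((U ρ).map (v ρ 6)) (U ρ)
  have h2 : (U ρ).map (v ρ 6) ⊓ U ρ = ⊥ := by
    rw [eq_bot_iff]
    rintro _ ⟨⟨u, hu, rfl⟩, h3⟩
    rw [Submodule.mem_bot]
    rw [zero_of_v6 h hu h3 rfl, map_zero]
  have h3 : finrank K ↥((U ρ).map (v ρ 6)) = finrank K ↥(U ρ) :=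
    finrank_map (v ρ 6) (U ρ) (fun w _ hw => v_inj hw)
  rw [h2, finrank_bot, h3] at h1
  rw [P]
  omega

end Cfsg.Agent.R2.T1.T3

private theorem dce_ae5923ab7b43 : _root_.True := by
  try have : _root_.True := by simp only [_root_.Cfsg.Agent.R2.T1.T3.P.eq_1]
  try have : _root_.True := by simp only [_root_.Cfsg.Agent.R2.T1.T3.v.eq_1]
  exact _root_.True.intro
end

-- part: R2/T1/T3/Core2
section
prune_inst 0x246064440140020000180512b00000604800010210400800a8e00d0608406462ad07a041bcb004161a129cc470300040000000304000000000003400011b01a098825204b358ad0476000f800004000000000000000000000000000000000000000000000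
set_option linter.all false
open scoped Cfsg.Agent.FastGrp

/-!
# T1, pattern T3 (helper25): module theory, part 2

* `core` : the hypotheses `Hyp` are contradictory.
-/

set_option autoImplicit false
set_option linter.unusedSectionVars false

namespace Cfsg.Agent.R2.T1.T3

open Equiv Equiv.Perm Module
open Cfsg.Agent.H952.F4 (ev es GenT)

variable {K W : Type*} [Field K] [AddCommGroup W] [Module K W] [FiniteDimensional K W]
variable {ρ : Representation K (A 8) W} {B : W →ₗ[K] W →ₗ[K] K}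

theorem mem_es {g : A 8} {w : W} : w ∈ es (ρ g) 1 ↔ ρ g w = w := by
  show w ∈ Module.End.eigenspace (ρ g) 1 ↔ _
  rw [Module.End.mem_eigenspace_iff, one_smul]

theorem rho_pow_fix {g : A 8} {w : W} (h : ρ g w = w) (n : ℕ) : ρ (g ^ n) w = w := by
  induction n with
  | zero => rw [pow_zero, rho_one]
  | succ n ih => rw [pow_succ, rho_mul, h, ih]

variable (ρ) in
/-- the space `N` -/
def N : Submodule K W where
  carrier := {w | ρ x5 w = w ∧ w + ρ y w + ρ y (ρ y w) = 0}
  add_mem' := fun {a b} ha hb => by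
    refine ⟨by rw [map_add, ha.1, hb.1], ?_⟩
    rw [map_add, map_add]
    calc a + b + (ρ y a + ρ y b) + (ρ y (ρ y a) + ρ y (ρ y b))
        = (a + ρ y a + ρ y (ρ y a)) + (b + ρ y b + ρ y (ρ y b)) := by abel
      _ = 0 := by rw [ha.2, hb.2, add_zero]
  zero_mem' := ⟨map_zero _, by simp⟩
  smul_mem' := fun c a ha => by
    refine ⟨by rw [map_smul, ha.1], ?_⟩
    rw [map_smul, map_smul, ← smul_add, ← smul_add, ha.2, smul_zero]

theorem dim_N (h : Hyp ρ B) : finrank K ↥(N ρ) ≤ 8 := by
  let f : ↥(es (ρ x5) 1) →ₗ[K] W := (1 + ρ y + ρ y * ρ y) ∘ₗ (es (ρ x5) 1).subtype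
  have hf : ∀ w : ↥(es (ρ x5) 1), f w = (w : W) + ρ y w + ρ y (ρ y w) := fun _ => rfl
  have h1 := LinearMap.finrank_range_add_finrank_ker f
  have e1 : finrank K ↥(es (ρ x5) 1) = 16 := h.c5 _ ct_x5
  have e2 : finrank K ↥(es (ρ (x5 * y)) 1) = 8 := h.c53 _ ct_x5y
  have h2 : es (ρ (x5 * y)) 1 ≤ LinearMap.range f := by
    intro w hw
    rw [mem_es] at hw
    have h3 : ρ x5 w = w := by
      have := rho_pow_fix hw 6
      rwa [x5y_six] at this
    have h4 : ρ y w = w := by
      have := rho_pow_fix hw 10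
      rwa [x5y_ten] at this
    refine ⟨⟨w, mem_es.2 h3⟩, ?_⟩
    rw [hf]
    show w + ρ y w + ρ y (ρ y w) = w
    rw [h4, h4, two_smul_zero h, zero_add]
  have h3 : N ρ ≤ (LinearMap.ker f).map (es (ρ x5) 1).subtype := by
    intro w hw
    refine ⟨⟨w, mem_es.2 hw.1⟩, ?_, rfl⟩
    exact LinearMap.mem_ker.2 hw.2
  have h4 := Submodule.finrank_mono h2
  have h5 := Submodule.finrank_mono h3
  rw [Submodule.finrank_map_subtype_eq] at h5
  omega

theorem yyy (w : W) : ρ y (ρ y (ρ y w)) = w := by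
  rw [← rho_mul, ← rho_mul, y3, rho_one]

theorem x5_comm (w : W) : ρ x5 (ρ y w) = ρ y (ρ x5 w) := by
  rw [← rho_mul, x5_y, rho_mul]

theorem N_nd (h : Hyp ρ B) : ∀ n ∈ N ρ, (∀ n' ∈ N ρ, B n n' = 0) → n = 0 := by
  intro n hn hn'
  apply h.nd
  intro w
  set a := w + ρ x5 w + ρ x5 (ρ x5 w) + ρ x5 (ρ x5 (ρ x5 w)) + ρ x5 (ρ x5 (ρ x5 (ρ x5 w))) with ha
  have h5 : ρ x5 (ρ x5 (ρ x5 (ρ x5 (ρ x5 w)))) = w := by
    rw [← rho_mul, ← rho_mul, ← rho_mul, ← rho_mul]
    rw [x5_pow, rho_one]
  have ha5 : ρ x5 a = a := by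
    rw [ha]
    simp only [map_add]
    rw [h5]
    abel
  have hb : ρ y a + ρ y (ρ y a) ∈ N ρ := by
    refine ⟨?_, ?_⟩
    · rw [map_add, x5_comm, x5_comm, x5_comm, ha5]
    · simp only [map_add]
      rw [yyy]
      calc ρ y a + ρ y (ρ y a) + (ρ y (ρ y a) + a) + (a + ρ y a)
          = (ρ y a + ρ y a) + (ρ y (ρ y a) + ρ y (ρ y a)) + (a + a) := by abel
        _ = 0 := by simp only [two_smul_zero h]
  have h1 := hn' _ hb
  have hx : ∀ z, B n (ρ x5 z) = B n z := fun z => by
    conv_lhs => rw [← hn.1]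
    rw [h.inv]
  have h2 : B n a = B n w := by
    rw [ha]
    simp only [map_add, hx]
    have := add_k h (B n w)
    linear_combination 2 * this
  have e1 : ρ y n + ρ y (ρ y n) = n := by
    have h3 : n + (ρ y n + ρ y (ρ y n)) = 0 := by rw [← add_assoc]; exact hn.2
    rw [eq_neg_of_add_eq_zero_right h3, neg_eq h]
  have h3 : B n (ρ y a + ρ y (ρ y a)) = B n a := by
    have e2 : B n (ρ y a) = B (ρ y (ρ y n)) a := by
      rw [← h.inv y (ρ y (ρ y n)), yyy]
    have e3 : B n (ρ y (ρ y a)) = B (ρ y n) a := by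
      rw [← h.inv y (ρ y n), ← h.inv y (ρ y (ρ y n)), yyy]
    rw [map_add, e2, e3, ← LinearMap.add_apply, ← map_add, add_comm, e1]
  rw [← h2, ← h3, h1]

theorem map_N (h : Hyp ρ B) {w : W} (hw : w ∈ W6 ρ) : w + ρ y w ∈ N ρ := by
  have hx : ρ x5 w = w := hw x5 x5_6 x5_7
  refine ⟨?_, ?_⟩
  · rw [map_add, x5_comm, hx]
  · simp only [map_add]
    rw [yyy]
    calc w + ρ y w + (ρ y w + ρ y (ρ y w)) + (ρ y (ρ y w) + w)
        = (w + w) + (ρ y w + ρ y w) + (ρ y (ρ y w) + ρ y (ρ y w)) := by abel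
      _ = 0 := by simp only [two_smul_zero h]

variable (ρ) in
/-- the map `1 + y` -/
def oy : W →ₗ[K] W := 1 + ρ y

theorem oy_apply (w : W) : oy ρ w = w + ρ y w := rfl

theorem oy_inj (h : Hyp ρ B) {w : W} (hw : w ∈ W6 ρ) (h0 : oy ρ w = 0) : w = 0 := by
  apply zero_of_y h hw
  rw [oy_apply] at h0
  rw [eq_neg_of_add_eq_zero_right h0, neg_eq h]

theorem B_oy (h : Hyp ρ B) {p d : W} (hp : p ∈ P ρ) (hd : d ∈ D ρ B) : B (oy ρ p) (oy ρ d) = 0 := by
  have hd' : oy ρ d ∈ D ρ B := (D ρ B).add_mem hd (D_stable h hd y)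
  have key : ∀ u ∈ U ρ, ∀ k, B (oy ρ d) (v ρ k u + ρ y (v ρ k u)) = 0 := by
    intro u hu k
    rw [rho_v hu, map_add, hd' u hu ((y : Perm (Fin 8)) k) k, add_k h]
  obtain ⟨u1, h1, u2, h2, rfl⟩ := mem_P.1 hp
  rw [h.symm]
  have e : oy ρ (v ρ 6 u1 + u2) = (v ρ 6 u1 + ρ y (v ρ 6 u1)) + (v ρ 7 u2 + ρ y (v ρ 7 u2)) := by
    rw [oy_apply, map_add, v_seven]
    abel
  rw [e, map_add, key u1 h1, key u2 h2, add_zero]

theorem dim_D6 (h : Hyp ρ B) : finrank K ↥(W6 ρ ⊓ D ρ B) ≤ 4 ∧ W6 ρ ⊓ D ρ B = P ρ := by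
  have hPD := P_le h
  have h1 : finrank K ↥((P ρ).map (oy ρ)) = finrank K ↥(P ρ) :=
    finrank_map _ _ fun w hw h0 => oy_inj h (hPD hw).1 h0
  have h2 : finrank K ↥((W6 ρ ⊓ D ρ B).map (oy ρ)) = finrank K ↥(W6 ρ ⊓ D ρ B) :=
    finrank_map _ _ fun w hw h0 => oy_inj h hw.1 h0
  have h3 := perp_bound B (N ρ) ((P ρ).map (oy ρ)) ((W6 ρ ⊓ D ρ B).map (oy ρ))
    (by rintro _ ⟨w, hw, rfl⟩; exact map_N h (hPD hw).1)
    (by rintro _ ⟨w, hw, rfl⟩; exact map_N h hw.1)
    (N_nd h)
    (by rintro _ ⟨p, hp, rfl⟩ _ ⟨d, hd, rfl⟩; exact B_oy h hp hd.2)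
  have h4 := dim_N h
  have h5 := dim_P h
  have h6 := dim_U h
  have h7 := Submodule.finrank_mono hPD
  have h8 : finrank K ↥(W6 ρ ⊓ D ρ B) ≤ 4 := by omega
  refine ⟨h8, ?_⟩
  exact (Submodule.eq_of_le_of_finrank_le hPD (by omega)).symm

/-! ### The values of the form -/

theorem B_low (h : Hyp ρ B) {w u : W} (hw : w ∈ W6 ρ) (hu : u ∈ U ρ) {i j : Fin 8} (hi6 : i ≠ 6) (hi7 : i ≠ 7)
    (hj6 : j ≠ 6) (hj7 : j ≠ 7) : B w (v ρ i u) = B w (v ρ j u) := by
  obtain ⟨a, a6, a7, ha⟩ := exists_one i j hi6 hi7 hj6 hj7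
  have h1 := B_rho h hu a w i
  rw [hw a a6 a7, ha] at h1
  exact h1.symm

theorem B_67 (h : Hyp ρ B) {w u : W} (hw : w ∈ W6 ρ) (hu : u ∈ U ρ) : B w (v ρ 6 u) = B w (v ρ 7 u) := by
  have h1 : B w (∑ k, v ρ k u) = 0 := by rw [sum_v h hu, map_zero]
  rw [map_sum, Fin.sum_univ_eight] at h1
  rw [B_low h hw hu (i := 1) (j := 0) (by decide) (by decide) (by decide) (by decide),
    B_low h hw hu (i := 2) (j := 0) (by decide) (by decide) (by decide) (by decide),
    B_low h hw hu (i := 3) (j := 0) (by decide) (by decide) (by decide) (by decide),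
    B_low h hw hu (i := 4) (j := 0) (by decide) (by decide) (by decide) (by decide),
    B_low h hw hu (i := 5) (j := 0) (by decide) (by decide) (by decide) (by decide)] at h1
  have h2 := add_k h (B w (v ρ 0 u))
  have h3 := add_k h (B w (v ρ 7 u))
  linear_combination h1 - 3 * h2 - h3

theorem mem_D_of (h : Hyp ρ B) {w : W} (hw : w ∈ W6 ρ) (h0 : ∀ u ∈ U ρ, B w (v ρ 0 u) = B w (v ρ 7 u)) :
    w ∈ D ρ B := by
  intro u hu
  have key : ∀ i, B w (v ρ i u) = B w (v ρ 7 u) := by
    intro i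
    by_cases h7 : i = 7
    · rw [h7]
    by_cases h6 : i = 6
    · rw [h6, B_67 h hw hu]
    rw [← h0 u hu]
    exact B_low h hw hu h6 h7 (by decide) (by decide)
  intro i j
  rw [key i, key j]

/-! ### The translates of a vector fixed by `S₆` -/

theorem exists_tr2 {w : W} (hw : w ∈ W6 ρ) (ht : ρ t w = w) :
    ∃ f : Finset (Fin 8) → W, ∀ g : A 8, f {(g : Perm (Fin 8)) 6, (g : Perm (Fin 8)) 7} = ρ g w := by
  classical
  have key : ∀ g g' : A 8, ({(g : Perm (Fin 8)) 6, (g : Perm (Fin 8)) 7} : Finset (Fin 8)) =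
      {(g' : Perm (Fin 8)) 6, (g' : Perm (Fin 8)) 7} → ρ g w = ρ g' w := by
    intro g g' hgg
    have hr : ∀ a : A 8, ρ a w = w → ρ (g' * a) w = ρ g' w := fun a ha => by rw [rho_mul, ha]
    have e : g = g' * (g'⁻¹ * g) := by group
    rw [e]
    apply hr
    have h6 : (g : Perm (Fin 8)) 6 ∈ ({(g' : Perm (Fin 8)) 6, (g' : Perm (Fin 8)) 7} : Finset (Fin 8)) := by
      rw [← hgg]; simp
    have h7 : (g : Perm (Fin 8)) 7 ∈ ({(g' : Perm (Fin 8)) 6, (g' : Perm (Fin 8)) 7} : Finset (Fin 8)) := by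
      rw [← hgg]; simp
    have hne : (g : Perm (Fin 8)) 6 ≠ (g : Perm (Fin 8)) 7 := fun h => by
      have := (g : Perm (Fin 8)).injective h
      exact absurd this (by decide)
    have hi : ∀ {i j : Fin 8}, (g : Perm (Fin 8)) i = (g' : Perm (Fin 8)) j →
        ((g'⁻¹ * g : A 8) : Perm (Fin 8)) i = j := by
      intro i j hij
      show ((g' : Perm (Fin 8))⁻¹ * (g : Perm (Fin 8))) i = j
      rw [Perm.mul_apply, Perm.inv_eq_iff_eq, hij]
    rw [Finset.mem_insert, Finset.mem_singleton] at h6 h7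
    rcases h6 with h6 | h6
    · rcases h7 with h7 | h7
      · exact absurd (h6.trans h7.symm) hne
      · exact hw _ (hi h6) (hi h7)
    · rcases h7 with h7 | h7
      · have h1 : ρ (g'⁻¹ * g * t) w = w := by
          apply hw
          · show ((g'⁻¹ * g : A 8) : Perm (Fin 8)) ((t : Perm (Fin 8)) 6) = 6
            rw [t6]
            exact hi h7
          · show ((g'⁻¹ * g : A 8) : Perm (Fin 8)) ((t : Perm (Fin 8)) 7) = 7
            rw [t7]
            exact hi h6
        rwa [rho_mul, ht] at h1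
      · exact absurd (h6.trans h7.symm) hne
  refine ⟨fun s => if hs : ∃ g : A 8, s = {(g : Perm (Fin 8)) 6, (g : Perm (Fin 8)) 7} then ρ hs.choose w else 0,
    fun g => ?_⟩
  have hs : ∃ g' : A 8, ({(g : Perm (Fin 8)) 6, (g : Perm (Fin 8)) 7} : Finset (Fin 8)) =
    {(g' : Perm (Fin 8)) 6, (g' : Perm (Fin 8)) 7} := ⟨g, rfl⟩
  show (if hs : ∃ g' : A 8, ({(g : Perm (Fin 8)) 6, (g : Perm (Fin 8)) 7} : Finset (Fin 8)) =
    {(g' : Perm (Fin 8)) 6, (g' : Perm (Fin 8)) 7} then ρ hs.choose w else 0) = _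
  rw [dif_pos hs]
  exact (key _ _ hs.choose_spec).symm

/-- the 2-subsets -/
def S2 : Finset (Finset (Fin 8)) := Finset.univ.filter fun s => s.card = 2

theorem card_in : (S2.filter fun s => 7 ∈ s).card = 7 := by decide +kernel

theorem card_out : (S2.filter fun s => ¬ 7 ∈ s).card = 21 := by decide +kernel

section
variable {w : W} (hw : w ∈ W6 ρ) {f : Finset (Fin 8) → W}
  (hf : ∀ g : A 8, f {(g : Perm (Fin 8)) 6, (g : Perm (Fin 8)) 7} = ρ g w)
include hf

theorem f_map (g : A 8) {s : Finset (Fin 8)} (hs : s ∈ S2) :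
    ρ g (f s) = f (Equiv.finsetCongr (g : Perm (Fin 8)) s) := by
  rw [S2, Finset.mem_filter] at hs
  obtain ⟨i, j, hij, rfl⟩ := Finset.card_eq_two.1 hs.2
  obtain ⟨a, rfl, rfl⟩ := exists_two i j hij
  rw [hf a, ← rho_mul, ← hf (g * a), Equiv.finsetCongr_apply, Finset.map_insert, Finset.map_singleton]
  rfl

theorem sum_map (g : A 8) (p : Finset (Fin 8) → Prop) [DecidablePred p]
    (hp : ∀ s, p s ↔ p (Equiv.finsetCongr (g : Perm (Fin 8)) s)) :
    ρ g (∑ s ∈ S2.filter p, f s) = ∑ s ∈ S2.filter p, f s := by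
  rw [map_sum]
  refine Finset.sum_equiv (Equiv.finsetCongr (g : Perm (Fin 8))) (fun s => ?_) fun s hs => ?_
  · rw [Finset.mem_filter, Finset.mem_filter, S2, Finset.mem_filter, Finset.mem_filter, ← hp s]
    have : (Equiv.finsetCongr (g : Perm (Fin 8)) s).card = s.card := by
      rw [Equiv.finsetCongr_apply, Finset.card_map]
    rw [this]
    simp
  · exact f_map hf g (Finset.mem_filter.1 hs).1

theorem sum_eq (h : Hyp ρ B) : ∑ s ∈ S2.filter (fun s => 7 ∈ s), f s = ∑ s ∈ S2.filter (fun s => ¬ 7 ∈ s), f s := by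
  have h1 : ∑ s ∈ S2.filter (fun s => 7 ∈ s), f s + ∑ s ∈ S2.filter (fun s => ¬ 7 ∈ s), f s = 0 := by
    rw [Finset.sum_filter_add_sum_filter_not]
    apply zero_of_all h
    intro g
    have := sum_map hf g (fun _ => True) (fun _ => Iff.rfl)
    simpa using this
  rw [eq_neg_of_add_eq_zero_left h1, neg_eq h]

include hw

theorem B_in (h : Hyp ρ B) {u : W} (hu : u ∈ U ρ) :
    B (∑ s ∈ S2.filter (fun s => 7 ∈ s), f s) (v ρ 7 u) = B w (v ρ 7 u) := by
  rw [map_sum, LinearMap.sum_apply]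
  have key : ∀ s ∈ S2.filter (fun s => 7 ∈ s), B (f s) (v ρ 7 u) = B w (v ρ 7 u) := by
    intro s hs
    rw [Finset.mem_filter, S2, Finset.mem_filter] at hs
    obtain ⟨i, j, hij, rfl⟩ := Finset.card_eq_two.1 hs.1.2
    have key2 : ∀ i : Fin 8, i ≠ 7 → B (f {i, 7}) (v ρ 7 u) = B w (v ρ 7 u) := by
      intro i hi
      obtain ⟨a, rfl, a7⟩ := exists_two i 7 hi
      have h1 := hf a
      rw [a7] at h1
      rw [h1]
      have h2 := B_rho h hu a w 7
      rw [a7] at h2
      exact h2
    rcases Finset.mem_insert.1 hs.2 with h7 | h7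
    · rw [← h7, Finset.pair_comm]
      exact (by
        have := key2 j (by rw [h7]; exact hij.symm)
        rw [h7] at this ⊢
        rwa [← h7] at this ⊢)
    · rw [Finset.mem_singleton] at h7
      rw [← h7] at hij ⊢
      exact key2 i hij
  rw [Finset.sum_congr rfl key, Finset.sum_const, card_in, nsmul_eq_mul]
  have := add_k h (B w (v ρ 7 u))
  push_cast
  linear_combination 3 * this

theorem B_out (h : Hyp ρ B) {u : W} (hu : u ∈ U ρ) :
    B (∑ s ∈ S2.filter (fun s => ¬ 7 ∈ s), f s) (v ρ 7 u) = B w (v ρ 0 u) := by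
  rw [map_sum, LinearMap.sum_apply]
  have key : ∀ s ∈ S2.filter (fun s => ¬ 7 ∈ s), B (f s) (v ρ 7 u) = B w (v ρ 0 u) := by
    intro s hs
    rw [Finset.mem_filter, S2, Finset.mem_filter] at hs
    obtain ⟨i, j, hij, rfl⟩ := Finset.card_eq_two.1 hs.1.2
    obtain ⟨a, rfl, rfl⟩ := exists_two i j hij
    rw [hf a]
    have h7 := hs.2
    rw [Finset.mem_insert, Finset.mem_singleton, not_or] at h7
    have h1 := B_rho h hu a w ((a : Perm (Fin 8))⁻¹ 7)
    have h2 : (a : Perm (Fin 8)) ((a : Perm (Fin 8))⁻¹ 7) = 7 := by simp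
    rw [h2] at h1
    rw [h1]
    refine B_low h hw hu ?_ ?_ (by decide) (by decide)
    · intro h3
      rw [h3] at h2
      exact h7.1 h2.symm
    · intro h3
      rw [h3] at h2
      exact h7.2 h2.symm
  rw [Finset.sum_congr rfl key, Finset.sum_const, card_out, nsmul_eq_mul]
  have := add_k h (B w (v ρ 0 u))
  push_cast
  linear_combination 10 * this

end

theorem mem_D_of_t (h : Hyp ρ B) {w : W} (hw : w ∈ W6 ρ) (ht : ρ t w = w) : w ∈ D ρ B := by
  obtain ⟨f, hf⟩ := exists_tr2 hw ht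
  apply mem_D_of h hw
  intro u hu
  rw [← B_in hw hf h hu, ← B_out hw hf h hu, sum_eq hf h]

theorem W6_t {w : W} (hw : w ∈ W6 ρ) : ρ t w ∈ W6 ρ := by
  intro g h6 h7
  have h1 := hw (t * g * t) (by
    show (t : Perm (Fin 8)) ((g : Perm (Fin 8)) ((t : Perm (Fin 8)) 6)) = 6
    rw [t6, h7, t7]) (by
    show (t : Perm (Fin 8)) ((g : Perm (Fin 8)) ((t : Perm (Fin 8)) 7)) = 7
    rw [t7, h6, t6])
  have h2 := congrArg (ρ t) h1
  rw [← rho_mul, ← mul_assoc, ← mul_assoc, tt, one_mul, rho_mul] at h2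
  exact h2

theorem tt_apply (w : W) : ρ t (ρ t w) = w := by rw [← rho_mul, tt, rho_one]

theorem W6_le_D (h : Hyp ρ B) : W6 ρ ≤ D ρ B := by
  intro w hw
  have h1 : w + ρ t w ∈ W6 ρ ⊓ D ρ B := by
    refine ⟨(W6 ρ).add_mem hw (W6_t hw), mem_D_of h ((W6 ρ).add_mem hw (W6_t hw)) fun u hu => ?_⟩
    have e : ∀ k, B (ρ t w) (v ρ ((t : Perm (Fin 8)) k) u) = B w (v ρ k u) := fun k => B_rho h hu t w k
    have e0 := e 1
    rw [show (t : Perm (Fin 8)) 1 = 0 by decide +kernel,
      B_low h hw hu (i := 1) (j := 0) (by decide) (by decide) (by decide) (by decide)] at e0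
    have e7 := e 6
    rw [t6, B_67 h hw hu] at e7
    rw [map_add, LinearMap.add_apply, LinearMap.add_apply, e0, e7, add_k h, add_k h]
  rw [(dim_D6 h).2] at h1
  obtain ⟨u1, hu1, u2, hu2, h2⟩ := mem_P.1 h1
  have hv6 : ∀ u ∈ U ρ, ρ t (v ρ 6 u) = u := fun u hu => by rw [rho_v hu, t6, v_seven]
  have hv7 : ∀ u ∈ U ρ, ρ t u = v ρ 6 u := fun u hu => by
    have := rho_v hu t 7
    rwa [t7, v_seven] at this
  have h3 : v ρ 6 (u1 + u2) = u1 + u2 := by
    have h4 := congrArg (ρ t) h2
    rw [map_add, map_add, tt_apply, hv6 u1 hu1, hv7 u2 hu2, add_comm, h2] at h4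
    rw [map_add]
    have h5 := congrArg (fun z => z + (u2 + v ρ 6 u2)) h4
    have e1 : v ρ 6 u1 + u2 + (u2 + v ρ 6 u2) = (v ρ 6 u1 + v ρ 6 u2) + (u2 + u2) := by abel
    have e2 : u1 + v ρ 6 u2 + (u2 + v ρ 6 u2) = (u1 + u2) + (v ρ 6 u2 + v ρ 6 u2) := by abel
    simp only [e1, e2, two_smul_zero h, add_zero] at h5
    exact h5
  have h4 : u1 + u2 = 0 := zero_of_v6 h ((U ρ).add_mem hu1 hu2) ((U ρ).add_mem hu1 hu2) h3
  have h5 : u2 = u1 := by rw [eq_neg_of_add_eq_zero_right h4, neg_eq h]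
  rw [h5] at h2
  have h6 : ρ t (w + v ρ 6 u1) = w + v ρ 6 u1 := by
    rw [map_add, hv6 u1 hu1]
    have h7 := congrArg (fun z => z + (w + u1)) h2
    have e1 : w + ρ t w + (w + u1) = (w + w) + (ρ t w + u1) := by abel
    have e2 : v ρ 6 u1 + u1 + (w + u1) = (w + v ρ 6 u1) + (u1 + u1) := by abel
    simp only [e1, e2, two_smul_zero h, zero_add, add_zero] at h7
    exact h7
  have h7 := mem_D_of_t h ((W6 ρ).add_mem hw (v6_mem_W6 hu1)) h6
  have h8 := (D ρ B).sub_mem h7 (v_mem_D h hu1 6)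
  rwa [add_sub_cancel_right] at h8

/-- **the hypotheses `Hyp` are contradictory** -/
theorem core (h : Hyp ρ B) : False := by
  have h1 := (dim_D6 h).1
  rw [inf_eq_left.2 (W6_le_D h)] at h1
  have h2 := dim_W6 h
  omega

end Cfsg.Agent.R2.T1.T3

private theorem dce_f0ec1a794373 : _root_.True := by
  try have : _root_.True := by simp only [_root_.Cfsg.Agent.R2.T1.T3.S2.eq_1]
  exact _root_.True.intro
end

-- part: R2/T1/T3/Main
section
set_option linter.all false
open scoped Cfsg.Agent.FastGrp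

/-!
# T1, pattern T3 (helper25)

* `T3.false` : the pattern `(3-cycle, 3², 5, 7, 15) = (32, 20, 16, 8, 8)` in characteristic 2, `n = 8`, is impossible.
-/

set_option autoImplicit false

namespace Cfsg.Agent.R2.T1.T3

open Cfsg Cfsg.Lie Module Equiv Equiv.Perm
open Cfsg.Agent.H943.E7V.Block (D1)
open Cfsg.Agent.H952.F4 (ev es MaxAlt)
open Cfsg.Agent.R2.T1

universe u

/-- **pattern T3 is impossible** -/
theorem false {F : Type u} [Field F] [Finite F] (h2 : (2 : F) = 0) {H : Subgroup ↥(chevE7.group F)}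
    {φ : ↥(alternatingGroup (Fin 8)) →* ↥(chevE7.group F)} (hM : MaxAlt H 8 φ)
    {ψ : ↥(alternatingGroup (Fin 8)) →* Gh F} (hψ : Lift φ ψ)
    (h3 : ∀ a : ↥(alternatingGroup (Fin 8)), (a : Perm (Fin 8)).cycleType = {3} → ev (V F (ψ a)) 1 = 32)
    (h33 : ∀ a : ↥(alternatingGroup (Fin 8)), (a : Perm (Fin 8)).cycleType = {3, 3} → ev (V F (ψ a)) 1 = 20)
    (h5 : ∀ a : ↥(alternatingGroup (Fin 8)), (a : Perm (Fin 8)).cycleType = {5} → ev (V F (ψ a)) 1 = 16)
    (h7 : ∀ a : ↥(alternatingGroup (Fin 8)), (a : Perm (Fin 8)).cycleType = {7} → ev (V F (ψ a)) 1 = 8)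
    (h53 : ∀ a : ↥(alternatingGroup (Fin 8)), (a : Perm (Fin 8)).cycleType = {5, 3} → ev (V F (ψ a)) 1 = 8) :
    False := by
  refine core (ρ := (MonoidHom.comp (V F) ψ : Representation F (A 8) (D1 → F))) (B := sf F) ?_
  exact
    { two := h2
      dim := finrank_V
      nd := fun v hv => sf_nondeg' hv
      inv := fun g v w => sf_V (ψ g) v w
      symm := fun v w => by
        rw [sf_swap]
        have : sf F w v + sf F w v = 0 := by rw [← two_mul, h2, zero_mul]
        exact neg_eq_of_add_eq_zero_left this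
      fix := no_fixed hM (by norm_num) (by norm_num) hψ
      c3 := h3
      c33 := h33
      c5 := h5
      c7 := h7
      c53 := h53 }

end Cfsg.Agent.R2.T1.T3
end

-- part: R2/T1/Mu/Alg
section
prune_inst 0x200024443040000000000002a0000060000000021040080000200000004184600d402040ba2000169a0004042830004001000100422000000a000000011800800000000081480000400000000080000000000000000000000000000000000000000000000
set_option linter.all false
open scoped Cfsg.Agent.FastGrp

-- part: R2/T1/Mu/Sl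
section
/-!
# MU27 (S5771): the `sl₂` attached to an involution with 32 fixed weights (helper27)

* `Tri E F` : `E`, `F` generate a (sum of natural modules) copy of `2 × 2` matrices;
* `AA t` : the elements of the Lie algebra killing the fixed space of `t`;
* `exists_tri` : `AA t` is spanned by `E`, `EF - FE`, `F`.
-/

set_option autoImplicit false
set_option maxRecDepth 100000

namespace Cfsg.Agent.R2.T1.Mu

open Cfsg Cfsg.Lie Matrix Module
open Cfsg.Agent.ChevalleyStructure.RootVec
open Cfsg.Agent.R2.T1 Cfsg.Agent.R2.PX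
open Cfsg.Agent.H943.E7V.Block (D1 rho)
open Cfsg.Agent.R2.T1.Five (hb BL exists_beta BL_lt)
open Cfsg.Agent.H952.F4 (ev)

universe u
section
variable {F : Type u} [Field F]

/-! ### the range of `del` is closed under the bracket -/

theorem br_NM (h2 : (2 : F) ≠ 0) {r : ℕ} (hr : r < 126) (z : chevE7.Idx → F) :
    ∃ w, NM F r * del F z - del F z * NM F r = del F w := by
  have h1 := del_L h2 (xs F r 1) z
  have h3 := del_L h2 (xs F r (-1)) z
  have e1 : (xs F r (1 : F))⁻¹ = xs F r (-1) := by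
    rw [inv_eq_iff_mul_eq_one]
    apply rho_injective
    rw [map_mul, rho_xs' hr, rho_xs' hr, map_one, mul_add, mul_one, add_mul, one_mul, smul_mul_smul_comm, NM_mul_self hr,
      smul_zero, add_zero, one_smul, neg_smul, one_smul]
    abel
  have e2 : (xs F r (-1 : F))⁻¹ = xs F r 1 := by rw [← e1, inv_inv]
  rw [e1, rho_xs' hr, rho_xs' hr, one_smul, neg_smul, one_smul] at h1
  rw [e2, rho_xs' hr, rho_xs' hr, one_smul, neg_smul, one_smul] at h3
  refine ⟨(2 : F)⁻¹ • (L F (xs F r 1) z - L F (xs F r (-1)) z), ?_⟩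
  rw [map_smul, map_sub, h1, h3]
  have e3 : (1 + NM F r) * del F z * (1 + -NM F r) - (1 + -NM F r) * del F z * (1 + NM F r) =
      (2 : F) • (NM F r * del F z - del F z * NM F r) := by
    rw [two_smul]
    noncomm_ring
  rw [e3, smul_smul, inv_mul_cancel₀ h2, one_smul]

theorem Hi_eq {i : ℕ} (hi : i < 7) : Hi F i = Hd F (chevE7.simple i) := by
  rw [Hd_eq]
  have h : ∀ i < 7, ∀ j < 7, (chevE7.coroot.getD (chevE7.simple i) #[]).getD j 0 = if j = i then 1 else 0 := by (rewrite [Cfsg.Agent.ChevFast.E7.coroot]; decide +kernel)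
  rw [Finset.sum_eq_single (⟨i, hi⟩ : Fin chevE7.rank)]
  · rw [h i hi i hi, if_pos rfl, Int.cast_one, one_smul]
  · intro j _ hj
    rw [h i hi j j.2, if_neg fun e => hj (Fin.ext e), Int.cast_zero, zero_smul]
  · intro h
    exact absurd (Finset.mem_univ _) h

theorem br_Hi (h2 : (2 : F) ≠ 0) {i : ℕ} (hi : i < 7) (z : chevE7.Idx → F) :
    ∃ w, Hi F i * del F z - del F z * Hi F i = del F w := by
  have hr : chevE7.simple i < 126 := simple_lt7 i hi
  rw [Hi_eq hi, ← NM_comm_neg hr]
  obtain ⟨w1, h1⟩ := br_NM h2 (r := 125 - chevE7.simple i) (by omega) z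
  obtain ⟨w2, h3⟩ := br_NM h2 hr w1
  obtain ⟨w3, h4⟩ := br_NM h2 hr z
  obtain ⟨w4, h5⟩ := br_NM h2 (r := 125 - chevE7.simple i) (by omega) w3
  refine ⟨w2 - w4, ?_⟩
  rw [map_sub, ← h3, ← h5, ← h1, ← h4]
  noncomm_ring

/-- **the range of `del` is a Lie algebra** -/
theorem br (h2 : (2 : F) ≠ 0) (y z : chevE7.Idx → F) : ∃ w, del F y * del F z - del F z * del F y = del F w := by
  have h : ∀ (S : Finset chevE7.Idx) (c : chevE7.Idx → F), (∑ j ∈ S, c j • del F (Pi.single j 1)) * del F z -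
      del F z * (∑ j ∈ S, c j • del F (Pi.single j 1)) ∈ LinearMap.range (del F) := by
    intro S c
    rw [Finset.sum_mul, Finset.mul_sum, ← Finset.sum_sub_distrib]
    refine Submodule.sum_mem _ fun j _ => ?_
    rw [smul_mul_assoc, mul_smul_comm, ← smul_sub]
    refine Submodule.smul_mem _ _ ?_
    rcases j with i | s
    · rw [del_inl]
      obtain ⟨w, hw⟩ := br_Hi h2 i.2 z
      exact ⟨w, hw.symm⟩
    · rw [del_inr]
      obtain ⟨w, hw⟩ := br_NM h2 s.2 z
      exact ⟨w, hw.symm⟩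
  have e : y = ∑ j, y j • (Pi.single j 1 : chevE7.Idx → F) := by
    funext k
    rw [Finset.sum_apply, Finset.sum_eq_single k]
    · rw [Pi.smul_apply, Pi.single_eq_same, smul_eq_mul, mul_one]
    · intro j _ hj
      rw [Pi.smul_apply, Pi.single_eq_of_ne (Ne.symm hj), smul_zero]
    · intro h
      exact absurd (Finset.mem_univ _) h
  obtain ⟨w, hw⟩ := h Finset.univ y
  refine ⟨w, ?_⟩
  rw [hw]
  conv_lhs => rw [e, map_sum]
  simp only [map_smul]

/-! ### elements of the Lie algebra killing the weights orthogonal to `β` -/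

theorem chkHd : (BL.all fun β => (List.range 7).all fun i => (List.range 7).all fun j =>
    decide ((W56.map fun b => if wr β b = 0 then mmn b i * chevE8.cartan j b else 0).sum =
      (if i = j then 16 else 0) - 8 * (chevE7.cartan j β * (chevE7.coroot.getD β #[]).getD i 0))) = true := by
  (delta Cfsg.Agent.R2.PX.wr; rewrite [Cfsg.Agent.ChevFast.E7.cartan, Cfsg.Agent.ChevFast.E7.coroot, Cfsg.Agent.ChevFast.E8.cartan]; decide +kernel)

theorem chkRt : (BL.all fun β => (List.range 126).all fun s => Nat.beq s β || (Nat.beq s (125 - β) ||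
    W56.any fun b => decide (wr β b = 0) && (mv s b).isSome)) = true := by (delta Cfsg.Agent.R2.PX.wr; rewrite [Cfsg.Agent.ChevFast.E7.coroot, Cfsg.Agent.ChevFast.E8.cartan]; decide +kernel)

theorem chkW : ∀ k ∈ W56, k < 240 ∧ rt chevE8 k 7 = 1 := by decide +kernel

theorem exists_row {β : ℕ} (hβ : β ∈ BL) {s : ℕ} (hs : s < 126) (h1 : s ≠ β) (h2 : s ≠ 125 - β) :
    ∃ (a b : D1) (c : ℤ), wr β (nn b) = 0 ∧ mv s (nn b) = some (nn a, c) ∧ c * c = 1 := by
  have h := List.all_eq_true.1 (List.all_eq_true.1 chkRt β hβ) s (List.mem_range.2 hs)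
  rw [Bool.or_eq_true, Bool.or_eq_true] at h
  rcases h with h | h | h
  · exact absurd (Nat.eq_of_beq_eq_true h) h1
  · exact absurd (Nat.eq_of_beq_eq_true h) h2
  · obtain ⟨k, hk, h⟩ := List.any_eq_true.1 h
    rw [Bool.and_eq_true, decide_eq_true_eq] at h
    obtain ⟨hk1, hk2⟩ := chkW k hk
    let b : D1 := ⟨⟨k, hk1⟩, hk2⟩
    rcases mv_spec hs b with h' | ⟨a, c, h', hc, -⟩
    · have : mv s k = none := h'
      rw [this] at h
      exact absurd h.2 (by simp)
    · exact ⟨a, b, c, h.1, h', hc⟩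

/-- **the elements of the Lie algebra killing the weights orthogonal to `β`** -/
theorem std (h2 : (2 : F) ≠ 0) {β : ℕ} (hβ : β ∈ BL) {z : chevE7.Idx → F}
    (hz : ∀ b : D1, wr β (nn b) = 0 → del F z *ᵥ bs F b = 0) :
    ∃ x y w : F, del F z = x • NM F β + y • Hd F β + w • NM F (125 - β) := by
  have hb := BL_lt hβ
  have h16 : (16 : F) ≠ 0 := by
    have : (16 : F) = 2 ^ 4 := by norm_num
    rw [this]
    exact pow_ne_zero _ h2
  have hr : ∀ s : Fin chevE7.nroots, s.val ≠ β → s.val ≠ 125 - β → z (Sum.inr s) = 0 := by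
    intro s h1 h3
    obtain ⟨a, b, c, h4, h5, h6⟩ := exists_row hβ s.2 h1 h3
    have h7 := congrFun (hz b h4) a
    rw [bs, Matrix.mulVec_single_one, Matrix.col_apply, del_entry z s.2 h5] at h7
    exact (mul_eq_zero.1 h7).resolve_right (cast_ne h6)
  have hne : β ≠ 125 - β := by omega
  have hdel : del F z = (∑ i : Fin chevE7.rank, z (Sum.inl i) • Hi F i) + (z (Sum.inr ⟨β, hb⟩) • NM F β +
      z (Sum.inr ⟨125 - β, by show _ < 126; omega⟩) • NM F (125 - β)) := by
    rw [del_apply]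
    congr 1
    rw [← Finset.add_sum_erase _ _ (Finset.mem_univ (⟨β, hb⟩ : Fin chevE7.nroots)),
      ← Finset.add_sum_erase _ _ (Finset.mem_erase.2 ⟨fun e => hne (Fin.ext_iff.1 e).symm,
        Finset.mem_univ (⟨125 - β, by show _ < 126; omega⟩ : Fin chevE7.nroots)⟩), Finset.sum_eq_zero, add_zero]
    intro s hs
    rw [Finset.mem_erase, Finset.mem_erase] at hs
    rw [hr s (fun e => hs.2.1 (Fin.ext e)) (fun e => hs.1 (Fin.ext e)), zero_smul]
  have hca : ∀ b : D1, wr β (nn b) = 0 → ∑ j : Fin chevE7.rank, z (Sum.inl j) * ((chevE8.cartan j (nn b) : ℤ) : F) = 0 := by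
    intro b h0
    have h1 := hz b h0
    have h3 : mv β (nn b) = none ∧ mv (125 - β) (nn b) = none := by
      rcases wr_spec hb b with h | h | h
      · omega
      · exact h.2
      · omega
    rw [hdel, Matrix.add_mulVec, Matrix.add_mulVec, Matrix.smul_mulVec, Matrix.smul_mulVec, NM_bs_none h3.1,
      NM_bs_none h3.2, smul_zero, smul_zero, add_zero, add_zero, Matrix.sum_mulVec] at h1
    simp only [Matrix.smul_mulVec, Hi, diag_bs, smul_smul] at h1
    rw [← Finset.sum_smul] at h1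
    have h4 := congrFun h1 b
    rw [Pi.smul_apply, bs, Pi.single_eq_same, smul_eq_mul, mul_one] at h4
    exact h4
  have hi : ∀ i : Fin chevE7.rank, z (Sum.inl i) = ((∑ j : Fin chevE7.rank, z (Sum.inl j) * ((chevE7.cartan j β : ℤ) : F)) / 2) *
      (((chevE7.coroot.getD β #[]).getD i 0 : ℤ) : F) := by
    intro i
    have h1 : ∑ b : D1, (if wr β (nn b) = 0 then ((mmn (nn b) i : ℤ) : F) *
        ∑ j : Fin chevE7.rank, z (Sum.inl j) * ((chevE8.cartan j (nn b) : ℤ) : F) else 0) = 0 := by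
      refine Finset.sum_eq_zero fun b _ => ?_
      split_ifs with h
      · rw [hca b h, mul_zero]
      · rfl
    have h3 : ∑ b : D1, (if wr β (nn b) = 0 then ((mmn (nn b) i : ℤ) : F) *
        ∑ j : Fin chevE7.rank, z (Sum.inl j) * ((chevE8.cartan j (nn b) : ℤ) : F) else 0) =
        ∑ j : Fin chevE7.rank, z (Sum.inl j) * (((if i.val = j.val then 16 else 0) - 8 * (chevE7.cartan j β *
          (chevE7.coroot.getD β #[]).getD i 0) : ℤ) : F) := by
      have h4 : ∀ b : D1, (if wr β (nn b) = 0 then ((mmn (nn b) i : ℤ) : F) *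
          ∑ j : Fin chevE7.rank, z (Sum.inl j) * ((chevE8.cartan j (nn b) : ℤ) : F) else 0) =
          ∑ j : Fin chevE7.rank, z (Sum.inl j) * ((if wr β (nn b) = 0 then mmn (nn b) i * chevE8.cartan j (nn b) else 0 : ℤ) : F) := by
        intro b
        split_ifs
        · rw [Finset.mul_sum]
          refine Finset.sum_congr rfl fun j _ => ?_
          push_cast
          ring
        · simp
      rw [Finset.sum_congr rfl fun b _ => h4 b, Finset.sum_comm]
      refine Finset.sum_congr rfl fun j _ => ?_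
      rw [← Finset.mul_sum, ← Int.cast_sum, sumD1 (fun k => if wr β k = 0 then mmn k i * chevE8.cartan j k else 0)]
      have h5 := of_decide_eq_true (List.all_eq_true.1 (List.all_eq_true.1 (List.all_eq_true.1 chkHd β hβ) i
        (List.mem_range.2 i.2)) j (List.mem_range.2 j.2))
      rw [h5]
    rw [h1] at h3
    have h4 : ∑ j : Fin chevE7.rank, z (Sum.inl j) * (((if i.val = j.val then 16 else 0) - 8 * (chevE7.cartan j β *
          (chevE7.coroot.getD β #[]).getD i 0) : ℤ) : F) = 16 * z (Sum.inl i) -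
        8 * (∑ j : Fin chevE7.rank, z (Sum.inl j) * ((chevE7.cartan j β : ℤ) : F)) *
          (((chevE7.coroot.getD β #[]).getD i 0 : ℤ) : F) := by
      have h5 : ∀ j : Fin chevE7.rank, z (Sum.inl j) * (((if i.val = j.val then 16 else 0) - 8 * (chevE7.cartan j β *
          (chevE7.coroot.getD β #[]).getD i 0) : ℤ) : F) = (if i = j then 16 * z (Sum.inl j) else 0) -
          8 * (z (Sum.inl j) * ((chevE7.cartan j β : ℤ) : F)) * (((chevE7.coroot.getD β #[]).getD i 0 : ℤ) : F) := by
        intro j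
        by_cases h : i = j
        · rw [if_pos (congrArg Fin.val h), if_pos h]
          push_cast
          ring
        · rw [if_neg (fun e => h (Fin.ext e)), if_neg h]
          push_cast
          ring
      rw [Finset.sum_congr rfl fun j _ => h5 j, Finset.sum_sub_distrib, Finset.sum_ite_eq, if_pos (Finset.mem_univ _),
        ← Finset.sum_mul, ← Finset.mul_sum]
    rw [h4] at h3
    have h6 : (16 : F) * z (Sum.inl i) = 16 * ((∑ j : Fin chevE7.rank, z (Sum.inl j) * ((chevE7.cartan j β : ℤ) : F)) / 2 *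
      (((chevE7.coroot.getD β #[]).getD i 0 : ℤ) : F)) := by
      rw [sub_eq_zero.1 h3.symm]
      field_simp
      ring
    exact mul_left_cancel₀ h16 h6
  refine ⟨z (Sum.inr ⟨β, hb⟩), (∑ j : Fin chevE7.rank, z (Sum.inl j) * ((chevE7.cartan j β : ℤ) : F)) / 2,
    z (Sum.inr ⟨125 - β, by show _ < 126; omega⟩), ?_⟩
  rw [hdel, Hd_eq, Finset.smul_sum]
  have h7 : ∑ i : Fin chevE7.rank, z (Sum.inl i) • Hi F i = ∑ i : Fin chevE7.rank,
      ((∑ j : Fin chevE7.rank, z (Sum.inl j) * ((chevE7.cartan j β : ℤ) : F)) / 2) •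
        (((chevE7.coroot.getD β #[]).getD i 0 : ℤ) : F) • Hi F i := by
    refine Finset.sum_congr rfl fun i _ => ?_
    rw [smul_smul, ← hi i]
  rw [h7]
  abel

/-! ### matrix units -/

/-- `A`, `B` generate a copy of the `2 × 2` matrices -/
structure Tri (A B : Matrix D1 D1 F) : Prop where
  AA : A * A = 0
  BB : B * B = 0
  ABA : A * B * A = A
  BAB : B * A * B = B

theorem Tri.of_NM {β : ℕ} (hβ : β < 126) : Tri (NM F β) (NM F (125 - β)) := by
  refine ⟨NM_mul_self hβ, NM_mul_self (by omega), NM_neg_mul hβ, ?_⟩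
  have := NM_neg_mul (F := F) (r := 125 - β) (by omega)
  rwa [sub_sub_r hβ] at this

theorem Tri.conj {A B : Matrix D1 D1 F} (h : Tri A B) (g : Gh F) :
    Tri (rho F g * A * rho F g⁻¹) (rho F g * B * rho F g⁻¹) := by
  have e : ∀ X Y : Matrix D1 D1 F, rho F g * X * rho F g⁻¹ * (rho F g * Y * rho F g⁻¹) = rho F g * (X * Y) * rho F g⁻¹ := by
    intro X Y
    calc rho F g * X * rho F g⁻¹ * (rho F g * Y * rho F g⁻¹)
        = rho F g * X * (rho F g⁻¹ * rho F g) * Y * rho F g⁻¹ := by simp only [mul_assoc]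
      _ = _ := by rw [rho_inv_mul']; simp only [mul_assoc, mul_one, one_mul]
  refine ⟨?_, ?_, ?_, ?_⟩
  · rw [e, h.AA, mul_zero, zero_mul]
  · rw [e, h.BB, mul_zero, zero_mul]
  · rw [e, e, h.ABA]
  · rw [e, e, h.BAB]

theorem rho_hb {β : ℕ} (x : Fˣ) : rho F (Phi F (hb β x)) = Matrix.diagonal fun b : D1 => ((x ^ wr β (nn b) : Fˣ) : F) := by
  rw [rho_Phi]
  congr 1
  funext b
  congr 1
  unfold wt hb wr
  rw [sum_range7 (fun i => (chevE7.coroot.getD β #[]).getD i 0 * chevE8.cartan i (nn b))]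
  have h : ∀ S : Finset (Fin chevE7.rank), ∏ i ∈ S, (x ^ ChevalleyStructure.Columns.cor chevE7 β i) ^ chevE8.cartan i (nn b) =
      x ^ ∑ i ∈ S, (chevE7.coroot.getD β #[]).getD i 0 * chevE8.cartan i (nn b) := by
    intro S
    induction S using Finset.induction_on with
    | empty => rw [Finset.prod_empty, Finset.sum_empty, _root_.zpow_zero]
    | insert i S hi ih =>
      rw [Finset.prod_insert hi, Finset.sum_insert hi, ih, _root_.zpow_add, _root_.zpow_mul]
      rfl
  exact h Finset.univ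

/-- the involution of a root -/
theorem rho_hb_neg {β : ℕ} (hβ : β < 126) : rho F (Phi F (hb β (-1))) =
    1 - (2 : F) • (NM F β * NM F (125 - β) + NM F (125 - β) * NM F β) := by
  rw [rho_hb]
  refine mat_ext fun b => ?_
  have e1 := NM_neg_NM (F := F) hβ b
  have e2 := NM_neg_NM (F := F) (r := 125 - β) (by omega) b
  rw [sub_sub_r hβ] at e2
  rw [diag_bs, Matrix.sub_mulVec, Matrix.one_mulVec, Matrix.smul_mulVec, Matrix.add_mulVec, ← Matrix.mulVec_mulVec,
    ← Matrix.mulVec_mulVec, e1, e2]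
  rcases wr_spec hβ b with ⟨h1, h3, h4⟩ | ⟨h1, h3, h4⟩ | ⟨h1, h3, h4⟩
  · rw [h1, if_pos h4, if_neg h3, zero_smul, zero_add, one_smul, _root_.zpow_neg_one, inv_neg, inv_one, two_smul, Units.val_neg,
      Units.val_one, neg_smul, one_smul]
    abel
  · rw [h1, if_pos h4, if_pos h3, zero_smul, zero_add, smul_zero, sub_zero, zpow_zero, Units.val_one, one_smul]
  · rw [h1, if_neg h4, if_pos h3, zero_smul, add_zero, one_smul, zpow_one, two_smul, Units.val_neg, Units.val_one,
      neg_smul, one_smul]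
    abel

/-! ### the Lie algebra attached to an involution -/

/-- the elements of the Lie algebra killing the fixed space of the involution `t` -/
def AL (t : Gh F) : Submodule F (Matrix D1 D1 F) where
  carrier := {M | (∃ z, del F z = M) ∧ M * rho F t = -M}
  add_mem' := by
    rintro _ _ ⟨⟨z, rfl⟩, h⟩ ⟨⟨y, rfl⟩, h'⟩
    exact ⟨⟨z + y, map_add _ _ _⟩, by rw [add_mul, h, h', _root_.neg_add]⟩
  zero_mem' := ⟨⟨0, map_zero _⟩, by rw [zero_mul, neg_zero]⟩
  smul_mem' := by
    rintro c _ ⟨⟨z, rfl⟩, h⟩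
    exact ⟨⟨c • z, map_smul _ _ _⟩, by rw [smul_mul_assoc, h, smul_neg]⟩

theorem AL_conj (h2 : (2 : F) ≠ 0) {t : Gh F} (g : Gh F) {M : Matrix D1 D1 F} (hM : M ∈ AL t) :
    rho F g * M * rho F g⁻¹ ∈ AL (g * t * g⁻¹) := by
  obtain ⟨⟨z, rfl⟩, h⟩ := hM
  refine ⟨⟨L F g z, del_L h2 g z⟩, ?_⟩
  have e : rho F g * del F z * rho F g⁻¹ * rho F (g * t * g⁻¹) = rho F g * (del F z * rho F t) * rho F g⁻¹ := by
    rw [map_mul, map_mul]
    calc rho F g * del F z * rho F g⁻¹ * (rho F g * rho F t * rho F g⁻¹)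
        = rho F g * del F z * (rho F g⁻¹ * rho F g) * rho F t * rho F g⁻¹ := by simp only [mul_assoc]
      _ = _ := by rw [rho_inv_mul']; simp only [mul_assoc, mul_one, one_mul]
  rw [e, h, mul_neg, neg_mul]

/-- the data of an involution with 32 fixed weights -/
structure Sl (t : Gh F) (A B : Matrix D1 D1 F) : Prop where
  tri : Tri A B
  rho_eq : rho F t = 1 - (2 : F) • (A * B + B * A)
  memA : A ∈ AL t
  memB : B ∈ AL t
  span : ∀ M ∈ AL t, ∃ x y w : F, M = x • A + y • (A * B - B * A) + w • B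
  expA : ∀ c : F, ∃ g : Gh F, rho F g = 1 + c • A
  expB : ∀ c : F, ∃ g : Gh F, rho F g = 1 + c • B
  ne : A ≠ 0

theorem Sl.conj (h2 : (2 : F) ≠ 0) {t : Gh F} {A B : Matrix D1 D1 F} (h : Sl t A B) (g : Gh F) :
    Sl (g * t * g⁻¹) (rho F g * A * rho F g⁻¹) (rho F g * B * rho F g⁻¹) := by
  have e : ∀ X Y : Matrix D1 D1 F, rho F g * X * rho F g⁻¹ * (rho F g * Y * rho F g⁻¹) = rho F g * (X * Y) * rho F g⁻¹ := by
    intro X Y
    calc rho F g * X * rho F g⁻¹ * (rho F g * Y * rho F g⁻¹)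
        = rho F g * X * (rho F g⁻¹ * rho F g) * Y * rho F g⁻¹ := by simp only [mul_assoc]
      _ = _ := by rw [rho_inv_mul']; simp only [mul_assoc, mul_one, one_mul]
  have hexp : ∀ X : Matrix D1 D1 F, (∀ c : F, ∃ u : Gh F, rho F u = 1 + c • X) → ∀ c : F, ∃ u : Gh F,
      rho F u = 1 + c • (rho F g * X * rho F g⁻¹) := by
    intro X hX c
    obtain ⟨u, hu⟩ := hX c
    refine ⟨g * u * g⁻¹, ?_⟩
    rw [map_mul, map_mul, hu, mul_add, mul_one, add_mul, rho_mul_inv', mul_smul_comm, smul_mul_assoc]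
  refine ⟨h.tri.conj g, ?_, AL_conj h2 g h.memA, AL_conj h2 g h.memB, ?_, hexp A h.expA, hexp B h.expB, ?_⟩
  · rw [e, e, map_mul, map_mul, h.rho_eq, mul_sub, sub_mul, mul_one, rho_mul_inv', mul_smul_comm, smul_mul_assoc, mul_add,
      add_mul]
  · intro M hM
    have h1 := AL_conj h2 g⁻¹ hM
    have e1 : g⁻¹ * (g * t * g⁻¹) * g⁻¹⁻¹ = t := by group
    rw [e1] at h1
    obtain ⟨x, y, w, h3⟩ := h.span _ h1
    refine ⟨x, y, w, ?_⟩
    have e2 : M = rho F g * (rho F g⁻¹ * M * rho F g⁻¹⁻¹) * rho F g⁻¹ := by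
      rw [inv_inv]
      calc M = 1 * M * 1 := by rw [one_mul, mul_one]
        _ = rho F g * rho F g⁻¹ * M * (rho F g * rho F g⁻¹) := by rw [rho_mul_inv']
        _ = _ := by simp only [mul_assoc]
    rw [e2, h3, e, e, mul_add, mul_add, add_mul, add_mul, mul_smul_comm, smul_mul_assoc, mul_smul_comm, smul_mul_assoc,
      mul_smul_comm, smul_mul_assoc, mul_sub, sub_mul]
  · intro h0
    apply h.ne
    calc A = (rho F g⁻¹ * rho F g) * A * (rho F g⁻¹ * rho F g) := by rw [rho_inv_mul', one_mul, mul_one]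
      _ = rho F g⁻¹ * (rho F g * A * rho F g⁻¹) * rho F g := by simp only [mul_assoc]
      _ = 0 := by rw [h0, mul_zero, zero_mul]

theorem Sl.std (h2 : (2 : F) ≠ 0) {β : ℕ} (hβ : β ∈ BL) : Sl (Phi F (hb β (-1))) (NM F β) (NM F (125 - β)) := by
  have hlt := BL_lt hβ
  have hT := Tri.of_NM (F := F) hlt
  have hmem : ∀ s : ℕ, s < 126 → (NM F s * rho F (Phi F (hb β (-1))) = - NM F s) → NM F s ∈ AL (Phi F (hb β (-1))) :=
    fun s hs h => ⟨⟨_, del_inr ⟨s, hs⟩⟩, h⟩
  refine ⟨hT, rho_hb_neg hlt, hmem _ hlt ?_, hmem _ (by omega) ?_, ?_, fun c => ⟨xs F β c, rho_xs' hlt c⟩,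
    fun c => ⟨xs F (125 - β) c, rho_xs' (by omega) c⟩, (IsRt.of_NM hlt).ne⟩
  · rw [rho_hb_neg hlt, mul_sub, mul_one, mul_smul_comm, mul_add, ← mul_assoc, ← mul_assoc, hT.AA, zero_mul, zero_add,
      hT.ABA, two_smul]
    abel
  · rw [rho_hb_neg hlt, mul_sub, mul_one, mul_smul_comm, mul_add, ← mul_assoc, ← mul_assoc, hT.BB, zero_mul, add_zero,
      hT.BAB, two_smul]
    abel
  · rintro _ ⟨⟨z, rfl⟩, h⟩
    have h1 : ∀ b : D1, wr β (nn b) = 0 → del F z *ᵥ bs F b = 0 := by
      intro b h0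
      have h3 := congrArg (fun M => M *ᵥ bs F b) h
      rw [← Matrix.mulVec_mulVec, rho_hb, diag_bs, h0, zpow_zero, Units.val_one, one_smul, Matrix.neg_mulVec] at h3
      have h4 : (2 : F) • (del F z *ᵥ bs F b) = 0 := by
        rw [two_smul]
        nth_rewrite 1 [h3]
        exact neg_add_cancel _
      exact (smul_eq_zero.1 h4).resolve_left h2
    obtain ⟨x, y, w, h3⟩ := Mu.std h2 hβ h1
    exact ⟨x, y, w, by rw [h3, NM_comm_neg hlt]⟩

/-- **an involution with 32 fixed weights** -/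
theorem exists_Sl (h2 : (2 : F) ≠ 0) {t : Gh F}
    (h : ∃ (g : Gh F) (c : Fin chevE7.rank → Fˣ), Phi F c = g * t * g⁻¹ ∧ c ^ 2 = 1) (h32 : ev (V F t) 1 = 32) :
    ∃ A B : Matrix D1 D1 F, Sl t A B := by
  obtain ⟨β, hβ, g, hg⟩ := exists_beta h2 h h32
  have h1 := (Sl.std h2 hβ).conj h2 g⁻¹
  have e : g⁻¹ * Phi F (hb β (-1)) * g⁻¹⁻¹ = t := by
    rw [hg]
    group
  rw [e] at h1
  exact ⟨_, _, h1⟩

end

end Cfsg.Agent.R2.T1.Mu
end

-- part: R2/T1/Mu/Alg
section
/-!
# MU27 (S5771): the Lie algebra of an involution with 32 fixed weights, abstract form (helper27)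

* `Inv t` : the properties of `AL t` (nondegenerate, contains the semisimple elements `z`, `z ^ 2 = P`, with
  tori `tz P z a` in the group);
* `triv`, `exists_z`, `comm` : invariant elements under commuting involutions.
-/

set_option autoImplicit false
set_option maxRecDepth 100000

namespace Cfsg.Agent.R2.T1.Mu

open Cfsg Cfsg.Lie Matrix Module
open Cfsg.Agent.R2.T1 Cfsg.Agent.R2.PX
open Cfsg.Agent.H943.E7V.Block (D1 rho)
open Cfsg.Agent.H952.F4 (ev)

universe u
section
variable {F : Type u} [Field F] {A B : Matrix D1 D1 F}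

/-- linear combination of the matrix units -/
def th (A B : Matrix D1 D1 F) (a b c d : F) : Matrix D1 D1 F := a • (A * B) + b • A + c • B + d • (B * A)

theorem Tri.th_mul (h : Tri A B) (a b c d a' b' c' d' : F) : th A B a b c d * th A B a' b' c' d' =
    th A B (a * a' + b * c') (a * b' + b * d') (c * a' + d * c') (c * b' + d * d') := by
  have e1 : A * B * (A * B) = A * B := by rw [← mul_assoc, h.ABA]
  have e2 : A * B * A = A := h.ABA
  have e3 : A * B * B = 0 := by rw [mul_assoc, h.BB, mul_zero]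
  have e4 : A * B * (B * A) = 0 := by rw [← mul_assoc, e3, zero_mul]
  have e5 : A * (A * B) = 0 := by rw [← mul_assoc, h.AA, zero_mul]
  have e6 : A * A = 0 := h.AA
  have e7 : A * (B * A) = A := by rw [← mul_assoc, h.ABA]
  have e8 : B * (A * B) = B := by rw [← mul_assoc, h.BAB]
  have e9 : B * B = 0 := h.BB
  have e10 : B * (B * A) = 0 := by rw [← mul_assoc, h.BB, zero_mul]
  have e11 : B * A * (A * B) = 0 := by rw [mul_assoc, e5, mul_zero]
  have e12 : B * A * A = 0 := by rw [mul_assoc, h.AA, mul_zero]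
  have e13 : B * A * B = B := h.BAB
  have e14 : B * A * (B * A) = B * A := by rw [← mul_assoc, h.BAB]
  unfold th
  simp only [mul_add, add_mul, smul_mul_smul_comm, e1, e2, e3, e4, e5, e6, e7, e8, e9, e10, e11, e12, e13, e14,
    smul_zero, add_zero, zero_add, add_smul]
  abel

theorem th_add (a b c d a' b' c' d' : F) : th A B a b c d + th A B a' b' c' d' =
    th A B (a + a') (b + b') (c + c') (d + d') := by
  unfold th
  simp only [add_smul]
  abel

theorem th_smul (k a b c d : F) : k • th A B a b c d = th A B (k * a) (k * b) (k * c) (k * d) := by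
  unfold th
  simp only [smul_add, smul_smul]

theorem th_sub (a b c d a' b' c' d' : F) : th A B a b c d - th A B a' b' c' d' =
    th A B (a - a') (b - b') (c - c') (d - d') := by
  unfold th
  simp only [sub_smul]
  abel

theorem th_P : A * B + B * A = th A B 1 0 0 1 := by
  unfold th
  simp

theorem th_A : A = th A B 0 1 0 0 := by
  unfold th
  simp

theorem th_B : B = th A B 0 0 1 0 := by
  unfold th
  simp

/-- the elements of `AL t` -/
theorem th_M (x y w : F) : x • A + y • (A * B - B * A) + w • B = th A B y x w (-y) := by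
  unfold th
  rw [smul_sub, neg_smul]
  abel

/-- the group elements -/
def tg (A B : Matrix D1 D1 F) (a b c d : F) : Matrix D1 D1 F := 1 - (A * B + B * A) + th A B a b c d

theorem Tri.tg_mul (h : Tri A B) (a b c d a' b' c' d' : F) : tg A B a b c d * tg A B a' b' c' d' =
    tg A B (a * a' + b * c') (a * b' + b * d') (c * a' + d * c') (c * b' + d * d') := by
  have e1 : (A * B + B * A) * (A * B + B * A) = A * B + B * A := by
    rw [th_P, h.th_mul]
    congr 1 <;> ring
  have e2 : (A * B + B * A) * th A B a' b' c' d' = th A B a' b' c' d' := by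
    rw [th_P, h.th_mul]
    congr 1 <;> ring
  have e3 : th A B a b c d * (A * B + B * A) = th A B a b c d := by
    rw [th_P, h.th_mul]
    congr 1 <;> ring
  unfold tg
  rw [← h.th_mul]
  generalize A * B + B * A = P at *
  generalize th A B a b c d = X at *
  generalize th A B a' b' c' d' = Y at *
  calc (1 - P + X) * (1 - P + Y) = 1 - P - P + P * P + Y - P * Y + X - X * P + X * Y := by noncomm_ring
    _ = 1 - P + X * Y := by rw [e1, e2, e3]; abel

/-- **`SL₂`** -/
theorem Sl.sl2 {t : Gh F} (h : Sl t A B) {a b c d : F} (hd : a * d - b * c = 1) : ∃ g : Gh F, rho F g = tg A B a b c d := by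
  have hA : ∀ u : F, ∃ g : Gh F, rho F g = tg A B 1 u 0 1 := by
    intro u
    obtain ⟨g, hg⟩ := h.expA u
    refine ⟨g, ?_⟩
    rw [hg]
    unfold tg th
    rw [one_smul, one_smul, zero_smul]
    abel
  have hB : ∀ u : F, ∃ g : Gh F, rho F g = tg A B 1 0 u 1 := by
    intro u
    obtain ⟨g, hg⟩ := h.expB u
    refine ⟨g, ?_⟩
    rw [hg]
    unfold tg th
    rw [one_smul, one_smul, zero_smul]
    abel
  have key : ∀ a b c d : F, a * d - b * c = 1 → c ≠ 0 → ∃ g : Gh F, rho F g = tg A B a b c d := by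
    intro a b c d hd hc
    obtain ⟨g1, h1⟩ := hA ((a - 1) / c)
    obtain ⟨g2, h2⟩ := hB c
    obtain ⟨g3, h3⟩ := hA ((d - 1) / c)
    refine ⟨g1 * g2 * g3, ?_⟩
    rw [map_mul, map_mul, h1, h2, h3, h.tri.tg_mul, h.tri.tg_mul]
    have e : b = (a * d - 1) / c := by
      rw [eq_div_iff hc]
      linear_combination -hd
    rw [e]
    congr 1
    · field_simp
      ring
    · field_simp
      ring
    · field_simp
      ring
    · field_simp
      ring
  by_cases hc : c = 0
  · subst hc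
    have ha : a ≠ 0 := by
      rintro rfl
      simp at hd
    obtain ⟨g, hg⟩ := key a b a (b + d) (by linear_combination hd) ha
    obtain ⟨g1, h1⟩ := hB (-1)
    refine ⟨g1 * g, ?_⟩
    rw [map_mul, hg, h1, h.tri.tg_mul]
    congr 1 <;> ring
  · exact key a b c d hd hc

/-! ### abstract form -/

/-- the projection on the `-1`-eigenspace of `t` -/
noncomputable def pj (t : Gh F) : Matrix D1 D1 F := (2 : F)⁻¹ • (1 - rho F t)

/-- the torus elements -/
noncomputable def tz (P z : Matrix D1 D1 F) (a : F) : Matrix D1 D1 F :=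
  1 - P + (a / 2) • (P + z) + (a⁻¹ / 2) • (P - z)

/-- the properties of `AL t` -/
structure Inv (t : Gh F) : Prop where
  two : (2 : F) ≠ 0
  sq : t * t = 1
  ne : pj t ≠ 0
  left : ∀ M ∈ AL t, pj t * M = M
  right : ∀ M ∈ AL t, M * pj t = M
  sqr : ∀ M ∈ AL t, ∃ c : F, M * M = c • pj t
  nd : ∀ M ∈ AL t, M ≠ 0 → ∃ M' ∈ AL t, ∃ c : F, c ≠ 0 ∧ M * M' + M' * M = c • pj t
  exp : ∀ M ∈ AL t, M * M = pj t → ∀ a : F, a ≠ 0 → ∃ g : Gh F, rho F g = tz (pj t) M a
  cm : ∃ M ∈ AL t, ∃ M' ∈ AL t, M * M' - M' * M ∈ AL t ∧ M * M' - M' * M ≠ 0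

theorem rho_sq {t : Gh F} (h : t * t = 1) : rho F t * rho F t = 1 := by rw [← map_mul, h, map_one]

theorem pj_sq (h2 : (2 : F) ≠ 0) {t : Gh F} (h : t * t = 1) : pj t * pj t = pj t := by
  unfold pj
  rw [smul_mul_smul_comm]
  have e : (1 - rho F t) * (1 - rho F t) = (2 : F) • (1 - rho F t) := by
    rw [sub_mul, mul_sub, mul_sub, rho_sq h, mul_one, one_mul, mul_one, two_smul]
    abel
  rw [e, smul_smul, mul_assoc, inv_mul_cancel₀ h2, mul_one]

theorem Sl.pj_eq (h2 : (2 : F) ≠ 0) {t : Gh F} (h : Sl t A B) : pj t = A * B + B * A := by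
  unfold pj
  rw [h.rho_eq, sub_sub_cancel, smul_smul, inv_mul_cancel₀ h2, one_smul]

theorem Sl.inv (h2 : (2 : F) ≠ 0) {t : Gh F} (ht : t * t = 1) (h : Sl t A B) : Inv t := by
  have hP := h.pj_eq h2
  have hT := h.tri
  have hAP : A * (A * B + B * A) = A := by rw [mul_add, ← mul_assoc, ← mul_assoc, hT.AA, zero_mul, zero_add, hT.ABA]
  have hPne : A * B + B * A ≠ 0 := by
    intro e
    apply h.ne
    rw [← hAP, e, mul_zero]
  have hsp : ∀ M ∈ AL t, ∃ x y w : F, M = th A B y x w (-y) := by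
    intro M hM
    obtain ⟨x, y, w, e⟩ := h.span M hM
    exact ⟨x, y, w, by rw [e, th_M]⟩
  have hsq : ∀ x y w : F, th A B y x w (-y) * th A B y x w (-y) = (y * y + x * w) • (A * B + B * A) := by
    intro x y w
    rw [hT.th_mul, th_P (A := A) (B := B), th_smul]
    congr 1 <;> ring
  refine ⟨h2, ht, by rw [hP]; exact hPne, ?_, ?_, ?_, ?_, ?_, ?_⟩
  · intro M hM
    obtain ⟨x, y, w, rfl⟩ := hsp M hM
    rw [hP, th_P (A := A) (B := B), hT.th_mul]
    congr 1 <;> ring
  · intro M hM
    obtain ⟨x, y, w, rfl⟩ := hsp M hM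
    rw [hP, th_P (A := A) (B := B), hT.th_mul]
    congr 1 <;> ring
  · intro M hM
    obtain ⟨x, y, w, rfl⟩ := hsp M hM
    exact ⟨_, by rw [hsq, hP]⟩
  · intro M hM h0
    obtain ⟨x, y, w, rfl⟩ := hsp M hM
    by_cases hx : x = 0
    · by_cases hw : w = 0
      · have hy : y ≠ 0 := by
          intro hy
          apply h0
          rw [hx, hy, hw, neg_zero]
          unfold th
          simp
        refine ⟨A * B - B * A, ?_, 2 * y, mul_ne_zero h2 hy, ?_⟩
        · obtain ⟨⟨z, hz⟩, hz'⟩ := h.memA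
          obtain ⟨⟨z1, hz1⟩, hz1'⟩ := h.memB
          obtain ⟨u, hu⟩ := br h2 z z1
          refine ⟨⟨u, by rw [← hu, hz, hz1]⟩, ?_⟩
          rw [sub_mul, mul_assoc, mul_assoc, hz', hz1']
          noncomm_ring
        · have e : A * B - B * A = th A B 1 0 0 (-1) := by
            unfold th
            simp [sub_eq_add_neg]
          rw [e, hP, th_P (A := A) (B := B), hT.th_mul, hT.th_mul, th_add, th_smul, hx, hw]
          congr 1 <;> ring
      · refine ⟨A, h.memA, w, hw, ?_⟩
        have e1 : th A B y x w (-y) * A + A * th A B y x w (-y) =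
            th A B y x w (-y) * th A B 0 1 0 0 + th A B 0 1 0 0 * th A B y x w (-y) := by rw [← th_A]
        rw [e1, hP, th_P (A := A) (B := B), hT.th_mul, hT.th_mul, th_add, th_smul]
        congr 1 <;> ring
    · refine ⟨B, h.memB, x, hx, ?_⟩
      have e1 : th A B y x w (-y) * B + B * th A B y x w (-y) =
          th A B y x w (-y) * th A B 0 0 1 0 + th A B 0 0 1 0 * th A B y x w (-y) := by rw [← th_B]
      rw [e1, hP, th_P (A := A) (B := B), hT.th_mul, hT.th_mul, th_add, th_smul]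
      congr 1 <;> ring
  · intro M hM hMM a ha
    obtain ⟨x, y, w, rfl⟩ := hsp M hM
    rw [hsq, hP] at hMM
    have h1 : y * y + x * w = 1 := by
      have e : (y * y + x * w - 1) • (A * B + B * A) = 0 := by rw [sub_smul, one_smul, hMM, sub_self]
      exact sub_eq_zero.1 ((smul_eq_zero.1 e).resolve_right hPne)
    obtain ⟨g, hg⟩ := h.sl2 (a := a / 2 * (1 + y) + a⁻¹ / 2 * (1 - y)) (b := a / 2 * x - a⁻¹ / 2 * x)
      (c := a / 2 * w - a⁻¹ / 2 * w) (d := a / 2 * (1 - y) + a⁻¹ / 2 * (1 + y)) (by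
        field_simp
        linear_combination (-(a ^ 4) + 2 * a ^ 2 - 1) * h1)
    refine ⟨g, ?_⟩
    rw [hg, hP]
    unfold tz tg
    rw [add_assoc]
    congr 1
    rw [th_P (A := A) (B := B), th_add, th_sub, th_smul, th_smul, th_add]
    congr 1 <;> ring
  · refine ⟨A, h.memA, B, h.memB, ?_, ?_⟩
    · obtain ⟨⟨z, hz⟩, hz'⟩ := h.memA
      obtain ⟨⟨z1, hz1⟩, hz1'⟩ := h.memB
      obtain ⟨u, hu⟩ := br h2 z z1
      refine ⟨⟨u, by rw [← hu, hz, hz1]⟩, ?_⟩
      rw [sub_mul, mul_assoc, mul_assoc, hz', hz1']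
      noncomm_ring
    · intro e
      apply h.ne
      have e1 : A * (A * B - B * A) = -A := by rw [mul_sub, ← mul_assoc, ← mul_assoc, hT.AA, zero_mul, hT.ABA, zero_sub]
      rw [e, mul_zero] at e1
      exact neg_eq_zero.1 e1.symm

/-! ### commuting involutions -/

theorem rho_comm {s t : Gh F} (h : s * t = t * s) : rho F s * rho F t = rho F t * rho F s := by
  rw [← map_mul, h, map_mul]

theorem pj_comm {s t : Gh F} (h : s * t = t * s) : rho F s * pj t = pj t * rho F s := by
  unfold pj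
  rw [mul_smul_comm, smul_mul_assoc, mul_sub, sub_mul, rho_comm h, mul_one, one_mul]

/-- conjugation by an involution commuting with `t` -/
theorem conj_mem (h2 : (2 : F) ≠ 0) {s t : Gh F} (hs : s * s = 1) (h : s * t = t * s) {M : Matrix D1 D1 F}
    (hM : M ∈ AL t) : rho F s * M * rho F s ∈ AL t := by
  have h1 := AL_conj h2 s hM
  have e1 : s⁻¹ = s := inv_eq_of_mul_eq_one_right hs
  rw [e1, h, mul_assoc, hs, mul_one] at h1
  exact h1

theorem Inv.eigen {s t : Gh F} (ht : Inv t) (hs : s * s = 1) (h : s * t = t * s) {e : F} (he : e * e = 1)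
    (hN : ∀ N ∈ AL t, rho F s * N * rho F s = e • N → N * N = 0) {N : Matrix D1 D1 F} (hm : N ∈ AL t)
    (hc : rho F s * N * rho F s = e • N) : N = 0 := by
  by_contra h0
  obtain ⟨M, hM, c, hc0, hMc⟩ := ht.nd N hm h0
  have hS := rho_sq hs
  set S := rho F s with hSdef
  have hM2 := conj_mem ht.two hs h hM
  rw [← hSdef] at hM2
  have hm2 : M + e • (S * M * S) ∈ AL t := Submodule.add_mem _ hM (Submodule.smul_mem _ _ hM2)
  have hSS : ∀ X : Matrix D1 D1 F, S * (S * X) = X := fun X => by rw [← mul_assoc, hS, one_mul]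
  have hc2 : S * (M + e • (S * M * S)) * S = e • (M + e • (S * M * S)) := by
    have e1 : S * (S * M * S) * S = M := by
      calc S * (S * M * S) * S = (S * S) * M * (S * S) := by simp only [mul_assoc]
        _ = M := by rw [hS, one_mul, mul_one]
    rw [mul_add, add_mul, mul_smul_comm, smul_mul_assoc, e1, smul_add, smul_smul, he, one_smul, add_comm]
  have hNS : N * S = e • (S * N) := by
    calc N * S = S * (S * N * S) := by simp only [mul_assoc, hSS]
      _ = _ := by rw [hc, mul_smul_comm]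
  have hSN : S * N = e • (N * S) := by rw [hNS, smul_smul, he, one_smul]
  have a1 : N * (S * M * S) = e • (S * (N * M) * S) := by
    calc N * (S * M * S) = N * S * M * S := by simp only [mul_assoc]
      _ = _ := by rw [hNS]; simp only [smul_mul_assoc, mul_assoc]
  have a2 : S * M * S * N = e • (S * (M * N) * S) := by
    calc S * M * S * N = S * M * (S * N) := by simp only [mul_assoc]
      _ = _ := by rw [hSN]; simp only [mul_smul_comm, mul_assoc]
  have a3 : N * (M + e • (S * M * S)) + (M + e • (S * M * S)) * N = (2 * c) • pj t := by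
    have a4 : S * (c • pj t) * S = c • pj t := by
      rw [mul_smul_comm, pj_comm h, smul_mul_assoc, mul_assoc, hS, mul_one]
    calc N * (M + e • (S * M * S)) + (M + e • (S * M * S)) * N
        = (N * M + M * N) + e • (N * (S * M * S) + S * M * S * N) := by
          simp only [mul_add, add_mul, mul_smul_comm, smul_mul_assoc, smul_add]
          abel
      _ = (N * M + M * N) + S * (N * M + M * N) * S := by
          rw [a1, a2, ← smul_add, smul_smul, he, one_smul, mul_add, add_mul]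
      _ = _ := by rw [hMc, a4, ← add_smul, two_mul]
  have b1 := hN _ hm hc
  have b2 := hN _ hm2 hc2
  have b3 := hN _ (Submodule.add_mem _ hm hm2) (by rw [mul_add, add_mul, hc, hc2, ← smul_add])
  have b4 : (N + (M + e • (S * M * S))) * (N + (M + e • (S * M * S))) = N * N + (M + e • (S * M * S)) * (M + e • (S * M * S)) +
      (N * (M + e • (S * M * S)) + (M + e • (S * M * S)) * N) := by
    generalize M + e • (S * M * S) = Y
    noncomm_ring
  rw [b4, b1, b2, a3, zero_add, zero_add] at b3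
  rcases smul_eq_zero.1 b3 with h3 | h3
  · exact mul_ne_zero ht.two hc0 h3
  · exact ht.ne h3

/-- an involution `s` commuting with `t` whose trace on the `-1`-eigenspace of `t` is not zero acts trivially on `AL t` -/
theorem Inv.triv {s t : Gh F} (ht : Inv t) (hs : s * s = 1) (h : s * t = t * s)
    (htr : Matrix.trace (pj t * rho F s) ≠ 0) {M : Matrix D1 D1 F} (hM : M ∈ AL t) : rho F s * M = M * rho F s := by
  have hS := rho_sq hs
  have key : ∀ N ∈ AL t, rho F s * N * rho F s = (-1 : F) • N → N * N = 0 := by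
    intro N hN hc
    obtain ⟨c, hc'⟩ := ht.sqr N hN
    have e1 : N * rho F s = - (rho F s * N) := by
      calc N * rho F s = rho F s * (rho F s * N * rho F s) := by
            rw [mul_assoc, ← mul_assoc (rho F s), hS, one_mul]
        _ = _ := by rw [hc, mul_smul_comm, neg_smul, one_smul]
    have e2 : Matrix.trace (N * N * rho F s) = - Matrix.trace (N * N * rho F s) := by
      calc Matrix.trace (N * N * rho F s) = Matrix.trace (N * (N * rho F s)) := by rw [mul_assoc]
        _ = - Matrix.trace (N * (rho F s * N)) := by rw [e1, mul_neg, Matrix.trace_neg]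
        _ = - Matrix.trace (N * rho F s * N) := by rw [mul_assoc]
        _ = - Matrix.trace (N * (N * rho F s)) := by rw [Matrix.trace_mul_comm]
        _ = _ := by rw [mul_assoc]
    have e3 : (2 : F) * Matrix.trace (N * N * rho F s) = 0 := by
      rw [two_mul]
      nth_rewrite 1 [e2]
      exact neg_add_cancel _
    have e4 := (mul_eq_zero.1 e3).resolve_left ht.two
    rw [hc', smul_mul_assoc, Matrix.trace_smul, smul_eq_mul] at e4
    rw [hc', (mul_eq_zero.1 e4).resolve_right htr, zero_smul]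
  have h1 := ht.eigen hs h (e := -1) (by ring) key (N := M - rho F s * M * rho F s)
    (Submodule.sub_mem _ hM (conj_mem ht.two hs h hM)) (by
      have e1 : rho F s * (rho F s * M * rho F s) * rho F s = M := by
        calc rho F s * (rho F s * M * rho F s) * rho F s = (rho F s * rho F s) * M * (rho F s * rho F s) := by
              simp only [mul_assoc]
          _ = M := by rw [hS, one_mul, mul_one]
      rw [mul_sub, sub_mul, e1, neg_smul, one_smul, neg_sub])
  calc rho F s * M = rho F s * M * (rho F s * rho F s) := by rw [hS, mul_one]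
    _ = rho F s * M * rho F s * rho F s := by simp only [mul_assoc]
    _ = _ := by rw [← sub_eq_zero.1 h1]

/-- a semisimple element of `AL t` invariant under an involution `s` -/
theorem Inv.exists_z [IsAlgClosed F] {s t : Gh F} (ht : Inv t) (hs : s * s = 1) (h : s * t = t * s) :
    ∃ z ∈ AL t, z * z = pj t ∧ rho F s * z = z * rho F s := by
  have hS := rho_sq hs
  by_contra hno
  push Not at hno
  have key : ∀ N ∈ AL t, rho F s * N * rho F s = (1 : F) • N → N * N = 0 := by
    intro N hN hc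
    obtain ⟨c, hc'⟩ := ht.sqr N hN
    by_cases hc0 : c = 0
    · rw [hc', hc0, zero_smul]
    · exfalso
      obtain ⟨r, hr⟩ := IsAlgClosed.exists_pow_nat_eq c (n := 2) (by norm_num)
      have hr0 : r ≠ 0 := by
        rintro rfl
        apply hc0
        rw [← hr]
        norm_num
      refine hno (r⁻¹ • N) (Submodule.smul_mem _ _ hN) ?_ ?_
      · rw [smul_mul_smul_comm, hc', smul_smul, ← hr]
        have : r⁻¹ * r⁻¹ * r ^ 2 = 1 := by
          field_simp
        rw [this, one_smul]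
      · rw [mul_smul_comm, smul_mul_assoc]
        congr 1
        calc rho F s * N = rho F s * N * (rho F s * rho F s) := by rw [hS, mul_one]
          _ = rho F s * N * rho F s * rho F s := by simp only [mul_assoc]
          _ = _ := by rw [hc, one_smul]
  have h1 : ∀ N ∈ AL t, rho F s * N * rho F s = N → N = 0 := fun N hN hc =>
    ht.eigen hs h (e := 1) (by ring) key hN (by rw [hc, one_smul])
  have h3 : ∀ M ∈ AL t, rho F s * M * rho F s = - M := by
    intro M hM
    have h4 := h1 (M + rho F s * M * rho F s) (Submodule.add_mem _ hM (conj_mem ht.two hs h hM)) (by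
      have e1 : rho F s * (rho F s * M * rho F s) * rho F s = M := by
        calc rho F s * (rho F s * M * rho F s) * rho F s = (rho F s * rho F s) * M * (rho F s * rho F s) := by
              simp only [mul_assoc]
          _ = M := by rw [hS, one_mul, mul_one]
      rw [mul_add, add_mul, e1, add_comm])
    exact eq_neg_of_add_eq_zero_right h4
  obtain ⟨M, hM, M', hM', h5, h6⟩ := ht.cm
  apply h6
  apply h1 _ h5
  have e2 : ∀ X Y : Matrix D1 D1 F, rho F s * (X * Y) * rho F s = rho F s * X * rho F s * (rho F s * Y * rho F s) := by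
    intro X Y
    calc rho F s * (X * Y) * rho F s = rho F s * X * 1 * Y * rho F s := by simp only [mul_assoc, one_mul]
      _ = rho F s * X * (rho F s * rho F s) * Y * rho F s := by rw [hS]
      _ = _ := by simp only [mul_assoc]
  rw [mul_sub, sub_mul, e2, e2, h3 M hM, h3 M' hM', neg_mul_neg, neg_mul_neg]

/-- the left eigenvalue -/
theorem Inv.left' {t : Gh F} (ht : Inv t) {M : Matrix D1 D1 F} (hM : M ∈ AL t) : rho F t * M = - M := by
  have h1 := ht.left M hM
  unfold pj at h1
  rw [smul_mul_assoc, sub_mul, one_mul] at h1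
  have h3 : M - rho F t * M = (2 : F) • M := by
    conv_rhs => rw [← h1, smul_smul, mul_inv_cancel₀ ht.two, one_smul]
  rw [two_smul] at h3
  have h4 : rho F t * M = M - (M + M) := by rw [← h3]; abel
  rw [h4]
  abel

/-- **invariant elements commute** -/
theorem Inv.comm {t t' : Gh F} (ht : Inv t) (ht' : Inv t') (h : t * t' = t' * t)
    (hne : (1 + rho F t') * pj t ≠ 0) {z y : Matrix D1 D1 F} (hz : z ∈ AL t) (hy : y ∈ AL t')
    (hzt : rho F t' * z = z * rho F t') (hyt : rho F t * y = y * rho F t) : z * y = y * z := by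
  by_contra h0
  have hy1 : y * rho F t' = -y := hy.2
  have hy2 := ht'.left' hy
  have hz1 : z * rho F t = -z := hz.2
  have hm : z * y - y * z ∈ AL t := by
    obtain ⟨z1, hz1'⟩ := hz.1
    obtain ⟨y1, hy1'⟩ := hy.1
    obtain ⟨u, hu⟩ := br ht.two z1 y1
    refine ⟨⟨u, by rw [← hu, hz1', hy1']⟩, ?_⟩
    rw [sub_mul, mul_assoc, ← hyt, ← mul_assoc, hz1, mul_assoc y z, hz1, neg_mul, mul_neg]
    abel
  have hm1 : (z * y - y * z) * rho F t' = -(z * y - y * z) := by
    rw [sub_mul, mul_assoc z y, hy1, mul_assoc y z, ← hzt, ← mul_assoc, hy1, mul_neg, neg_mul]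
    abel
  have hm2 : rho F t' * (z * y - y * z) = -(z * y - y * z) := by
    rw [mul_sub, ← mul_assoc, hzt, mul_assoc, hy2, ← mul_assoc (rho F t') y z, hy2, mul_neg, neg_mul]
    abel
  obtain ⟨M', hM', c, hc, hcc⟩ := ht.nd _ hm (sub_ne_zero.2 h0)
  set M := z * y - y * z with hMdef
  set X := (1 + rho F t') * pj t with hX
  have hS := rho_sq ht'.sq
  have hPX : pj t * X = X := by
    rw [hX]
    calc pj t * ((1 + rho F t') * pj t) = pj t * pj t + pj t * rho F t' * pj t := by noncomm_ring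
      _ = pj t * pj t + rho F t' * (pj t * pj t) := by rw [← pj_comm h.symm, mul_assoc]
      _ = _ := by rw [pj_sq ht.two ht.sq, add_mul, one_mul]
  have hMX : M * X = 0 := by
    rw [hX, ← mul_assoc, mul_add, mul_one, hm1, add_neg_cancel, zero_mul]
  have hTX : rho F t' * X = X := by
    rw [hX, ← mul_assoc, mul_add, mul_one, hS, add_comm]
  have e1 : c • X = M * M' * X := by
    calc c • X = (c • pj t) * X := by rw [smul_mul_assoc, hPX]
      _ = (M * M' + M' * M) * X := by rw [hcc]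
      _ = M * M' * X := by rw [add_mul, mul_assoc M' M, hMX, mul_zero, add_zero]
  have e2 : c • X = - (c • X) := by
    calc c • X = c • (rho F t' * X) := by rw [hTX]
      _ = rho F t' * (c • X) := by rw [mul_smul_comm]
      _ = rho F t' * (M * M' * X) := by rw [e1]
      _ = - (M * M' * X) := by
          rw [← mul_assoc (rho F t') (M * M') X, ← mul_assoc (rho F t') M M', hm2, neg_mul, neg_mul]
      _ = _ := by rw [e1]
  have e3 : (2 * c) • X = 0 := by
    rw [mul_smul, two_smul]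
    nth_rewrite 1 [e2]
    exact neg_add_cancel _
  rcases smul_eq_zero.1 e3 with h3 | h3
  · exact mul_ne_zero ht.two hc h3
  · exact hne h3

end

end Cfsg.Agent.R2.T1.Mu
end
end

-- part: R2/PX/C/StdR0_mg
section
set_option linter.all false
open scoped Cfsg.Agent.FastGrp

-- part: R2/PX/C/StdR0
section
/-!
# Pattern X, Part C: the standard configuration, the three-cycle (0 1 2) (helper3)
-/

set_option autoImplicit false
set_option maxRecDepth 100000

namespace Cfsg.Agent.R2.PX.C

open Cfsg Cfsg.Lie Matrix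
open Cfsg.Agent.R2.T1 Cfsg.Agent.R2.PX
open Cfsg.Agent.H943.E7V.Block (D1 rho)

universe u
variable {F : Type u} [Field F]

/-- the word -/
def wR0 : List (ℕ × ℕ) := [(67, 4), (88, 4), (37, 1), (58, 1), (109, 4), (16, 1), (22, 3), (66, 2), (47, 1), (93, 4), (32, 1), (73, 2),
  (78, 4), (87, 3), (93, 4), (103, 3), (104, 1), (106, 3), (109, 4), (110, 3), (112, 3)]

/-- the compiled word -/
def cR0 : List (ℕ × List (ℕ × ℕ)) := [
  (4, [(129, 245), (160, 310), (182, 354), (192, 374), (201, 393), (203, 398), (211, 413), (213, 418), (218, 433),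
  (223, 443), (230, 457), (237, 470)]),
  (4, [(155, 245), (160, 258), (198, 336), (208, 346), (215, 361), (217, 366), (220, 381), (222, 386), (224, 405),
  (225, 425), (235, 457), (237, 460)]),
  (1, [(122, 311), (129, 320), (168, 396), (173, 416), (180, 431), (183, 434), (190, 441), (193, 444), (202, 449),
  (212, 451), (228, 471), (230, 474)]),
  (1, [(122, 259), (155, 320), (177, 364), (187, 384), (196, 403), (199, 406), (206, 423), (209, 426), (216, 437),
  (221, 447), (228, 461), (235, 474)]),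
  (4, [(187, 251), (190, 258), (196, 269), (206, 292), (220, 321), (221, 323), (227, 364), (228, 366), (232, 407),
  (234, 427), (235, 435), (236, 437)]),
  (1, [(125, 375), (129, 380), (134, 393), (146, 412), (160, 441), (161, 443), (182, 454), (183, 456), (203, 465),
  (213, 469), (217, 471), (218, 473)]),
  (3, [(125, 355), (129, 360), (140, 393), (151, 413), (160, 431), (161, 433), (192, 455), (193, 457), (203, 463),
  (213, 467), (222, 470), (223, 472)]),
  (2, [(129, 251), (158, 310), (180, 354), (190, 374), (201, 396), (202, 398), (211, 416), (212, 418), (218, 434),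
  (223, 444), (230, 458), (236, 470)]),
  (1, [(134, 293), (140, 302), (168, 346), (196, 412), (198, 416), (199, 418), (201, 422), (202, 424), (203, 426),
  (224, 450), (231, 466), (232, 468)]),
  (4, [(168, 281), (173, 303), (177, 311), (180, 317), (182, 321), (183, 323), (227, 440), (228, 442), (229, 444),
  (230, 446), (231, 448), (233, 450)]),
  (1, [(140, 337), (151, 347), (155, 355), (158, 361), (160, 365), (161, 367), (220, 454), (221, 456), (222, 458),
  (223, 460), (224, 462), (225, 466)]),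
  (2, [(140, 269), (151, 292), (187, 354), (190, 360), (192, 364), (193, 366), (220, 430), (221, 432), (222, 434),
  (223, 436), (232, 462), (234, 466)]),
  (4, [(146, 269), (151, 280), (173, 336), (206, 392), (208, 396), (209, 398), (211, 402), (212, 404), (213, 406),
  (225, 448), (233, 462), (234, 464)]),
  (3, [(155, 251), (158, 258), (196, 336), (206, 346), (215, 364), (216, 366), (220, 384), (221, 386), (224, 406),
  (225, 426), (235, 458), (236, 460)]),
  (4, [(168, 281), (173, 303), (177, 311), (180, 317), (182, 321), (183, 323), (227, 440), (228, 442), (229, 444),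
  (230, 446), (231, 448), (233, 450)]),
  (3, [(177, 251), (180, 258), (196, 281), (206, 303), (215, 321), (216, 323), (227, 385), (228, 387), (231, 407),
  (233, 427), (235, 444), (236, 446)]),
  (1, [(177, 245), (182, 258), (198, 281), (208, 303), (215, 316), (217, 323), (227, 380), (229, 387), (231, 404),
  (233, 424), (235, 443), (237, 446)]),
  (3, [(180, 245), (182, 250), (201, 281), (211, 303), (215, 311), (218, 323), (227, 375), (230, 387), (231, 399),
  (233, 419), (236, 443), (237, 445)]),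
  (4, [(187, 251), (190, 258), (196, 269), (206, 292), (220, 321), (221, 323), (227, 364), (228, 366), (232, 407),
  (234, 427), (235, 435), (236, 437)]),
  (3, [(187, 245), (192, 258), (198, 269), (208, 292), (220, 316), (222, 323), (227, 361), (229, 366), (232, 404),
  (234, 424), (235, 432), (237, 437)]),
  (3, [(190, 245), (192, 250), (201, 269), (211, 292), (220, 311), (223, 323), (227, 354), (230, 366), (232, 399),
  (234, 419), (236, 432), (237, 434)])]

/-- the exponents of the element of the torus -/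
def eR0 : List ℤ := [0, 2, 3, 0, 1, 2, 0]

/-- the compiled element of the torus -/
def dR0 : List (ℕ × ℕ) := [(120, 1), (122, 4), (125, 2), (129, 2), (134, 3), (140, 2), (146, 3), (151, 2), (155, 3), (158, 3), (160, 4),
  (161, 1), (168, 4), (173, 4), (177, 1), (180, 1), (182, 3), (183, 2), (187, 4), (190, 4), (192, 2), (193, 3),
  (196, 1), (198, 3), (199, 2), (201, 3), (202, 2), (203, 1), (206, 1), (208, 3), (209, 2), (211, 3), (212, 2),
  (213, 1), (215, 2), (216, 3), (217, 4), (218, 4), (220, 3), (221, 2), (222, 1), (223, 1), (224, 4), (225, 4),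
  (227, 1), (228, 4), (229, 2), (230, 2), (231, 3), (232, 2), (233, 3), (234, 2), (235, 3), (236, 3), (237, 4),
  (238, 1)]

theorem okwR0 : okw wR0 cR0 = true := by decide +kernel

private noncomputable def _root_.Cfsg.Agent.LsF.f5afa0c_0 : {f // @Cfsg.Agent.R2.PX.C.fm = f} := ⟨_, by first | (delta Cfsg.Agent.R2.PX.C.fm; rewrite [Cfsg.Agent.LsF.cond_eq, Cfsg.Agent.LsF.filterMap_eq]; exact rfl) | exact rfl⟩
private noncomputable def _root_.Cfsg.Agent.LsF.f5afa0c_1 : {f // @Cfsg.Lie.ChevalleyDatum.cartan = f} := ⟨_, by first | (delta Cfsg.Lie.ChevalleyDatum.cartan; rewrite [Cfsg.Agent.LsF.agetD_eq]; exact rfl) | exact rfl⟩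
private noncomputable def _root_.Cfsg.Agent.LsF.f5afa0c_2 : {f // @Cfsg.Agent.R2.PX.C.tx = f} := ⟨_, by first | (delta Cfsg.Agent.R2.PX.C.tx; rewrite [Cfsg.Agent.LsF.f5afa0c_1.2, Cfsg.Agent.LsF.imul_pat, Cfsg.Agent.LsF.map_eq, Cfsg.Agent.LsF.range_eq, Cfsg.Agent.LsF.sum_eq, Cfsg.Agent.LsF.getD_eq, Cfsg.Agent.LsF.instIAdd_eq]; exact rfl) | exact rfl⟩
private noncomputable def _root_.Cfsg.Agent.LsF.f5afa0c_3 : {f // @Cfsg.Agent.R2.PX.C.te = f} := ⟨_, by first | (delta Cfsg.Agent.R2.PX.C.te; rewrite [Cfsg.Agent.LsF.f5afa0c_2.2, Cfsg.Agent.LsF.nmod_pat, Cfsg.Agent.LsF.npow_pat, Cfsg.Agent.LsF.imod_pat, Cfsg.Agent.LsF.toNat_eq]; exact rfl) | exact rfl⟩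
private noncomputable def _root_.Cfsg.Agent.LsF.f5afa0c_4 : {f // @Cfsg.Agent.R2.PX.C.okt = f} := ⟨_, by first | (delta Cfsg.Agent.R2.PX.C.okt; rewrite [Cfsg.Agent.LsF.f5afa0c_0.2, Cfsg.Agent.LsF.f5afa0c_3.2, Cfsg.Agent.LsF.instNBEq_pat, Cfsg.Agent.LsF.instBEq_eq, Cfsg.Agent.LsF.instPBEq_eq]; exact rfl) | exact rfl⟩
theorem oktR0 : okt eR0 dR0 = true := by ((try (rewrite [Cfsg.Agent.LsF.f5afa0c_4.2])); decide +kernel)

theorem actR0 : Nat.beq (cw cR0 (upg ft u0 dR0)) u1 = true ∧
    Nat.beq (cw cR0 (upg ft u1 dR0)) u2 = true ∧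
    Nat.beq (cw cR0 (upg ft u2 dR0)) u0 = true ∧
    Nat.beq (cw cR0 (upg ft u3 dR0)) u3 = true ∧
    Nat.beq (cw cR0 (upg ft u4 dR0)) u4 = true ∧
    Nat.beq (cw cR0 (upg ft u5 dR0)) u5 = true ∧
    Nat.beq (cw cR0 (upg ft u6 dR0)) u6 = true ∧
    Nat.beq (cw cR0 (upg ft u7 dR0)) u7 = true := by
  refine ⟨?_, ?_, ?_, ?_, ?_, ?_, ?_, ?_⟩ <;> decide +kernel

/-- the element -/
noncomputable def gR0 (F : Type u) [Field F] [CharP F 5] : Gh F := gw F wR0 * tor F eR0

theorem gR0_act [CharP F 5] (j : Fin 8) : V F (gR0 F) (uv F j) = uv F ((Equiv.swap (0 : Fin 8) 1 * Equiv.swap (1 : Fin 8) 2 : Equiv.Perm (Fin 8)) j) := by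
  have h : ∀ j : Fin 8, (Equiv.swap (0 : Fin 8) 1 * Equiv.swap (1 : Fin 8) 2 : Equiv.Perm (Fin 8)) j = ![1, 2, 0, 3, 4, 5, 6, 7] j := by decide
  rw [h]
  obtain ⟨h0, h1, h2, h3, h4, h5, h6, h7⟩ := actR0
  fin_cases j
  · exact V_wt okwR0 oktR0 h0
  · exact V_wt okwR0 oktR0 h1
  · exact V_wt okwR0 oktR0 h2
  · exact V_wt okwR0 oktR0 h3
  · exact V_wt okwR0 oktR0 h4
  · exact V_wt okwR0 oktR0 h5
  · exact V_wt okwR0 oktR0 h6
  · exact V_wt okwR0 oktR0 h7

end Cfsg.Agent.R2.PX.C
end

-- part: R2/PX/C/StdR1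
section
/-!
# Pattern X, Part C: the standard configuration, the three-cycle (1 2 3) (helper3)
-/

set_option autoImplicit false
set_option maxRecDepth 100000

namespace Cfsg.Agent.R2.PX.C

open Cfsg Cfsg.Lie Matrix
open Cfsg.Agent.R2.T1 Cfsg.Agent.R2.PX
open Cfsg.Agent.H943.E7V.Block (D1 rho)

universe u
variable {F : Type u} [Field F]

/-- the word -/
def wR1 : List (ℕ × ℕ) := [(35, 4), (61, 1), (16, 4), (22, 3), (38, 3), (59, 1), (66, 3), (31, 4), (47, 4), (52, 4), (72, 2), (32, 1),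
  (73, 2), (77, 1), (78, 2), (82, 1), (86, 4), (87, 1), (93, 1), (102, 1), (109, 4), (116, 2)]

/-- the compiled word -/
def cR1 : List (ℕ × List (ℕ × ℕ)) := [
  (4, [(122, 317), (125, 320), (168, 402), (173, 422), (177, 430), (183, 436), (187, 440), (193, 446), (199, 448),
  (209, 450), (228, 473), (229, 475)]),
  (1, [(122, 251), (158, 320), (180, 364), (190, 384), (196, 396), (202, 406), (206, 416), (212, 426), (216, 434),
  (221, 444), (228, 458), (236, 474)]),
  (4, [(125, 375), (129, 380), (134, 393), (146, 412), (160, 441), (161, 443), (182, 454), (183, 456), (203, 465),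
  (213, 469), (217, 471), (218, 473)]),
  (3, [(125, 355), (129, 360), (140, 393), (151, 413), (160, 431), (161, 433), (192, 455), (193, 457), (203, 463),
  (213, 467), (222, 470), (223, 472)]),
  (3, [(125, 311), (129, 316), (168, 392), (173, 412), (182, 430), (183, 432), (192, 440), (193, 442), (203, 448),
  (213, 450), (229, 470), (230, 472)]),
  (1, [(125, 259), (155, 316), (177, 360), (187, 380), (198, 402), (199, 404), (208, 422), (209, 424), (217, 436),
  (222, 446), (229, 460), (235, 472)]),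
  (3, [(129, 251), (158, 310), (180, 354), (190, 374), (201, 396), (202, 398), (211, 416), (212, 418), (218, 434),
  (223, 444), (230, 458), (236, 470)]),
  (4, [(134, 337), (146, 346), (155, 375), (158, 381), (160, 385), (161, 387), (215, 455), (216, 457), (217, 459),
  (218, 461), (224, 464), (225, 468)]),
  (4, [(134, 293), (140, 302), (168, 346), (196, 412), (198, 416), (199, 418), (201, 422), (202, 424), (203, 426),
  (224, 450), (231, 466), (232, 468)]),
  (4, [(134, 281), (146, 302), (177, 374), (180, 380), (182, 384), (183, 386), (215, 440), (216, 442), (217, 444),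
  (218, 446), (231, 464), (233, 468)]),
  (2, [(134, 241), (161, 302), (183, 346), (199, 375), (202, 381), (203, 385), (216, 412), (217, 416), (218, 422),
  (224, 441), (231, 455), (238, 468)]),
  (1, [(140, 337), (151, 347), (155, 355), (158, 361), (160, 365), (161, 367), (220, 454), (221, 456), (222, 458),
  (223, 460), (224, 462), (225, 466)]),
  (2, [(140, 269), (151, 292), (187, 354), (190, 360), (192, 364), (193, 366), (220, 430), (221, 432), (222, 434),
  (223, 436), (232, 462), (234, 466)]),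
  (1, [(140, 241), (161, 292), (193, 347), (199, 355), (202, 361), (203, 365), (221, 413), (222, 417), (223, 423),
  (224, 431), (232, 454), (238, 466)]),
  (2, [(146, 269), (151, 280), (173, 336), (206, 392), (208, 396), (209, 398), (211, 402), (212, 404), (213, 406),
  (225, 448), (233, 462), (234, 464)]),
  (1, [(146, 241), (161, 280), (183, 336), (209, 374), (212, 380), (213, 384), (216, 392), (217, 396), (218, 402),
  (225, 440), (233, 454), (238, 464)]),
  (4, [(151, 241), (161, 268), (193, 336), (209, 355), (212, 361), (213, 365), (221, 392), (222, 396), (223, 402),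
  (225, 431), (234, 454), (238, 463)]),
  (1, [(155, 251), (158, 258), (196, 336), (206, 346), (215, 364), (216, 366), (220, 384), (221, 386), (224, 406),
  (225, 426), (235, 458), (236, 460)]),
  (1, [(168, 281), (173, 303), (177, 311), (180, 317), (182, 321), (183, 323), (227, 440), (228, 442), (229, 444),
  (230, 446), (231, 448), (233, 450)]),
  (1, [(173, 241), (183, 268), (193, 281), (209, 310), (212, 316), (213, 320), (228, 393), (229, 397), (230, 403),
  (233, 430), (234, 440), (238, 449)]),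
  (4, [(187, 251), (190, 258), (196, 269), (206, 292), (220, 321), (221, 323), (227, 364), (228, 366), (232, 407),
  (234, 427), (235, 435), (236, 437)]),
  (2, [(196, 241), (199, 250), (202, 259), (216, 292), (221, 302), (224, 320), (228, 347), (231, 365), (232, 385),
  (235, 416), (236, 422), (238, 427)])]

/-- the exponents of the element of the torus -/
def eR1 : List ℤ := [0, 0, 2, 2, 0, 0, 0]

/-- the compiled element of the torus -/
def dR1 : List (ℕ × ℕ) := [(120, 1), (122, 1), (125, 1), (129, 4), (134, 1), (140, 4), (146, 4), (151, 1), (155, 4), (158, 1), (160, 1),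
  (161, 1), (168, 1), (173, 4), (177, 1), (180, 4), (182, 4), (183, 4), (187, 4), (190, 1), (192, 1), (193, 1),
  (196, 4), (198, 4), (199, 4), (201, 1), (202, 1), (203, 1), (206, 1), (208, 1), (209, 1), (211, 4), (212, 4),
  (213, 4), (215, 1), (216, 1), (217, 1), (218, 4), (220, 4), (221, 4), (222, 4), (223, 1), (224, 4), (225, 1),
  (227, 1), (228, 1), (229, 1), (230, 4), (231, 1), (232, 4), (233, 4), (234, 1), (235, 4), (236, 1), (237, 1),
  (238, 1)]

theorem okwR1 : okw wR1 cR1 = true := by decide +kernel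

theorem oktR1 : okt eR1 dR1 = true := by ((try (rewrite [Cfsg.Agent.LsF.f5afa0c_4.2])); decide +kernel)

theorem actR1 : Nat.beq (cw cR1 (upg ft u0 dR1)) u0 = true ∧
    Nat.beq (cw cR1 (upg ft u1 dR1)) u2 = true ∧
    Nat.beq (cw cR1 (upg ft u2 dR1)) u3 = true ∧
    Nat.beq (cw cR1 (upg ft u3 dR1)) u1 = true ∧
    Nat.beq (cw cR1 (upg ft u4 dR1)) u4 = true ∧
    Nat.beq (cw cR1 (upg ft u5 dR1)) u5 = true ∧
    Nat.beq (cw cR1 (upg ft u6 dR1)) u6 = true ∧
    Nat.beq (cw cR1 (upg ft u7 dR1)) u7 = true := by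
  refine ⟨?_, ?_, ?_, ?_, ?_, ?_, ?_, ?_⟩ <;> decide +kernel

/-- the element -/
noncomputable def gR1 (F : Type u) [Field F] [CharP F 5] : Gh F := gw F wR1 * tor F eR1

theorem gR1_act [CharP F 5] (j : Fin 8) : V F (gR1 F) (uv F j) = uv F ((Equiv.swap (1 : Fin 8) 2 * Equiv.swap (2 : Fin 8) 3 : Equiv.Perm (Fin 8)) j) := by
  have h : ∀ j : Fin 8, (Equiv.swap (1 : Fin 8) 2 * Equiv.swap (2 : Fin 8) 3 : Equiv.Perm (Fin 8)) j = ![0, 2, 3, 1, 4, 5, 6, 7] j := by decide
  rw [h]
  obtain ⟨h0, h1, h2, h3, h4, h5, h6, h7⟩ := actR1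
  fin_cases j
  · exact V_wt okwR1 oktR1 h0
  · exact V_wt okwR1 oktR1 h1
  · exact V_wt okwR1 oktR1 h2
  · exact V_wt okwR1 oktR1 h3
  · exact V_wt okwR1 oktR1 h4
  · exact V_wt okwR1 oktR1 h5
  · exact V_wt okwR1 oktR1 h6
  · exact V_wt okwR1 oktR1 h7

end Cfsg.Agent.R2.PX.C
end

-- part: R2/PX/C/StdR5
section
/-!
# Pattern X, Part C: the standard configuration, the three-cycle (5 6 7) (helper3)
-/

set_option autoImplicit false
set_option maxRecDepth 100000

namespace Cfsg.Agent.R2.PX.C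

open Cfsg Cfsg.Lie Matrix
open Cfsg.Agent.R2.T1 Cfsg.Agent.R2.PX
open Cfsg.Agent.H943.E7V.Block (D1 rho)

universe u
variable {F : Type u} [Field F]

/-- the word -/
def wR5 : List (ℕ × ℕ) := [(1, 4), (2, 4), (4, 3), (5, 4), (7, 2), (8, 2), (9, 1), (11, 2), (12, 3), (14, 2), (17, 4), (18, 3), (20, 3),
  (23, 4), (27, 2), (34, 1), (36, 3), (43, 4), (48, 1), (53, 2), (57, 4), (60, 1), (66, 4), (41, 1), (50, 1),
  (55, 2), (59, 1), (46, 4), (56, 1), (66, 2), (69, 4), (70, 1), (73, 3), (74, 1), (75, 4), (78, 1), (79, 1),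
  (80, 2), (83, 1), (84, 3)]

/-- the compiled word -/
def cR5 : List (ℕ × List (ℕ × ℕ)) := [
  (4, [(120, 441), (122, 442), (125, 445), (129, 446), (134, 449), (146, 450), (168, 464), (173, 468), (177, 470),
  (180, 472), (182, 474), (183, 476)]),
  (4, [(120, 431), (122, 432), (125, 435), (129, 436), (140, 449), (151, 451), (168, 462), (173, 466), (187, 471),
  (190, 473), (192, 475), (193, 477)]),
  (3, [(120, 417), (122, 418), (129, 427), (134, 434), (140, 445), (158, 451), (168, 458), (180, 466), (190, 468),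
  (196, 470), (201, 475), (202, 477)]),
  (4, [(120, 413), (125, 418), (129, 425), (134, 432), (140, 443), (160, 450), (168, 456), (182, 467), (192, 469),
  (198, 471), (201, 473), (203, 476)]),
  (2, [(120, 403), (122, 404), (125, 407), (146, 436), (151, 446), (155, 448), (173, 461), (177, 463), (187, 465),
  (206, 473), (208, 475), (209, 477)]),
  (2, [(120, 397), (122, 398), (129, 407), (146, 434), (151, 444), (158, 449), (173, 459), (180, 462), (190, 464),
  (206, 471), (211, 474), (212, 476)]),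
  (1, [(120, 393), (125, 398), (129, 405), (146, 432), (151, 442), (160, 448), (173, 457), (182, 463), (192, 465),
  (208, 470), (211, 472), (213, 477)]),
  (2, [(120, 385), (122, 386), (134, 407), (146, 426), (155, 445), (158, 447), (177, 458), (180, 460), (196, 465),
  (206, 469), (215, 475), (216, 477)]),
  (3, [(120, 381), (125, 386), (134, 405), (146, 424), (155, 443), (160, 446), (177, 456), (182, 461), (198, 464),
  (208, 468), (215, 473), (217, 476)]),
  (2, [(120, 375), (129, 386), (134, 399), (146, 418), (158, 442), (160, 444), (180, 457), (182, 459), (201, 465),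
  (211, 469), (215, 471), (218, 477)]),
  (4, [(120, 365), (122, 366), (140, 407), (151, 427), (155, 435), (158, 437), (187, 459), (190, 461), (196, 463),
  (206, 467), (220, 474), (221, 476)]),
  (3, [(120, 361), (125, 366), (140, 405), (151, 425), (155, 433), (160, 436), (187, 457), (192, 460), (198, 462),
  (208, 466), (220, 472), (222, 477)]),
  (3, [(120, 355), (129, 366), (140, 399), (151, 419), (158, 432), (160, 434), (190, 456), (192, 458), (201, 463),
  (211, 467), (220, 470), (223, 476)]),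
  (4, [(120, 347), (134, 366), (140, 387), (155, 418), (158, 424), (160, 426), (196, 457), (198, 459), (201, 461),
  (215, 466), (220, 468), (224, 477)]),
  (2, [(120, 337), (146, 366), (151, 386), (155, 398), (158, 404), (160, 406), (206, 456), (208, 458), (211, 460),
  (215, 462), (220, 464), (225, 476)]),
  (1, [(120, 317), (125, 322), (168, 404), (173, 424), (177, 432), (182, 437), (187, 442), (192, 447), (198, 449),
  (208, 451), (227, 472), (229, 477)]),
  (3, [(120, 311), (129, 322), (168, 398), (173, 418), (180, 433), (182, 435), (190, 443), (192, 445), (201, 448),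
  (211, 450), (227, 470), (230, 476)]),
  (4, [(120, 293), (140, 322), (168, 366), (187, 418), (190, 424), (192, 426), (196, 432), (198, 434), (201, 436),
  (220, 450), (227, 466), (232, 476)]),
  (1, [(120, 281), (146, 322), (173, 387), (177, 399), (180, 405), (182, 407), (206, 443), (208, 445), (211, 447),
  (215, 449), (227, 464), (233, 476)]),
  (2, [(120, 269), (151, 322), (173, 366), (187, 399), (190, 405), (192, 407), (206, 432), (208, 434), (211, 436),
  (220, 449), (227, 463), (234, 476)]),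
  (4, [(120, 259), (155, 322), (177, 366), (187, 386), (196, 405), (198, 407), (206, 425), (208, 427), (215, 436),
  (220, 446), (227, 460), (235, 476)]),
  (1, [(120, 251), (158, 322), (180, 366), (190, 386), (196, 398), (201, 407), (206, 418), (211, 427), (215, 435),
  (220, 445), (227, 459), (236, 476)]),
  (4, [(129, 251), (158, 310), (180, 354), (190, 374), (201, 396), (202, 398), (211, 416), (212, 418), (218, 434),
  (223, 444), (230, 458), (236, 470)]),
  (1, [(125, 303), (134, 316), (168, 380), (177, 413), (182, 422), (183, 424), (198, 441), (199, 443), (203, 446),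
  (217, 451), (229, 468), (231, 473)]),
  (1, [(125, 281), (146, 316), (173, 381), (177, 393), (182, 402), (183, 404), (208, 440), (209, 442), (213, 447),
  (217, 449), (229, 464), (233, 472)]),
  (2, [(125, 269), (151, 316), (173, 360), (187, 393), (192, 402), (193, 404), (208, 431), (209, 433), (213, 436),
  (222, 449), (229, 463), (234, 472)]),
  (1, [(125, 259), (155, 316), (177, 360), (187, 380), (198, 402), (199, 404), (208, 422), (209, 424), (217, 436),
  (222, 446), (229, 460), (235, 472)]),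
  (4, [(129, 293), (140, 310), (168, 354), (190, 413), (192, 417), (193, 419), (201, 430), (202, 432), (203, 434),
  (223, 451), (230, 467), (232, 470)]),
  (1, [(129, 269), (151, 310), (173, 354), (190, 392), (192, 396), (193, 398), (211, 430), (212, 432), (213, 434),
  (223, 448), (230, 462), (234, 470)]),
  (2, [(129, 251), (158, 310), (180, 354), (190, 374), (201, 396), (202, 398), (211, 416), (212, 418), (218, 434),
  (223, 444), (230, 458), (236, 470)]),
  (4, [(134, 259), (155, 302), (177, 346), (196, 380), (198, 384), (199, 386), (215, 422), (216, 424), (217, 426),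
  (224, 446), (231, 460), (235, 468)]),
  (1, [(134, 251), (158, 302), (180, 346), (196, 375), (201, 384), (202, 386), (215, 417), (216, 419), (218, 426),
  (224, 445), (231, 459), (236, 468)]),
  (3, [(140, 269), (151, 292), (187, 354), (190, 360), (192, 364), (193, 366), (220, 430), (221, 432), (222, 434),
  (223, 436), (232, 462), (234, 466)]),
  (1, [(140, 259), (155, 292), (187, 347), (196, 360), (198, 364), (199, 366), (220, 423), (221, 425), (222, 427),
  (224, 436), (232, 461), (235, 466)]),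
  (4, [(140, 251), (158, 292), (190, 347), (196, 355), (201, 364), (202, 366), (220, 416), (221, 418), (223, 427),
  (224, 435), (232, 458), (236, 466)]),
  (1, [(146, 269), (151, 280), (173, 336), (206, 392), (208, 396), (209, 398), (211, 402), (212, 404), (213, 406),
  (225, 448), (233, 462), (234, 464)]),
  (1, [(146, 259), (155, 280), (177, 336), (206, 381), (208, 385), (209, 387), (215, 402), (216, 404), (217, 406),
  (225, 447), (233, 461), (235, 464)]),
  (2, [(146, 251), (158, 280), (180, 336), (206, 374), (211, 385), (212, 387), (215, 397), (216, 399), (218, 406),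
  (225, 444), (233, 458), (236, 464)]),
  (1, [(151, 259), (155, 268), (187, 336), (206, 360), (208, 364), (209, 366), (220, 402), (221, 404), (222, 406),
  (225, 436), (234, 461), (235, 463)]),
  (3, [(151, 251), (158, 268), (190, 336), (206, 355), (211, 364), (212, 366), (220, 397), (221, 399), (223, 406),
  (225, 435), (234, 458), (236, 463)])]

/-- the exponents of the element of the torus -/
def eR5 : List ℤ := [0, 2, 1, 3, 2, 0, 0]

/-- the compiled element of the torus -/
def dR5 : List (ℕ × ℕ) := [(120, 1), (122, 1), (125, 4), (129, 3), (134, 1), (140, 3), (146, 2), (151, 1), (155, 2), (158, 4), (160, 1),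
  (161, 1), (168, 4), (173, 3), (177, 1), (180, 2), (182, 3), (183, 3), (187, 3), (190, 1), (192, 4), (193, 4),
  (196, 2), (198, 3), (199, 3), (201, 1), (202, 1), (203, 4), (206, 4), (208, 1), (209, 1), (211, 2), (212, 2),
  (213, 3), (215, 4), (216, 4), (217, 1), (218, 2), (220, 2), (221, 2), (222, 3), (223, 1), (224, 2), (225, 4),
  (227, 1), (228, 1), (229, 4), (230, 3), (231, 1), (232, 3), (233, 2), (234, 1), (235, 2), (236, 4), (237, 1),
  (238, 1)]

private noncomputable def _root_.Cfsg.Agent.LsF.f5afa0c_5 : {f // @Cfsg.Agent.R2.PX.lk = f} := ⟨_, by first | (delta Cfsg.Agent.R2.PX.lk; rewrite [Cfsg.Agent.LsF.nmul_pat]; exact rfl) | exact rfl⟩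
private noncomputable def _root_.Cfsg.Agent.LsF.f5afa0c_6 : {f // @Cfsg.Agent.R2.PX.C.okw = f} := ⟨_, by first | (delta Cfsg.Agent.R2.PX.C.okw; rewrite [Cfsg.Agent.LsF.f5afa0c_0.2, Cfsg.Agent.LsF.f5afa0c_5.2, Cfsg.Agent.LsF.nsub_pat, Cfsg.Agent.LsF.instNBEq_pat, Cfsg.Agent.LsF.and_eq, Cfsg.Agent.LsF.all_eq, Cfsg.Agent.LsF.map_eq, Cfsg.Agent.LsF.getD_eq, Cfsg.Agent.LsF.instBEq_eq, Cfsg.Agent.LsF.instPBEq_eq]; exact rfl) | exact rfl⟩
theorem okwR5 : okw wR5 cR5 = true := by ((try (rewrite [Cfsg.Agent.LsF.f5afa0c_6.2])); decide +kernel)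

theorem oktR5 : okt eR5 dR5 = true := by ((try (rewrite [Cfsg.Agent.LsF.f5afa0c_4.2])); decide +kernel)

theorem actR5 : Nat.beq (cw cR5 (upg ft u0 dR5)) u0 = true ∧
    Nat.beq (cw cR5 (upg ft u1 dR5)) u1 = true ∧
    Nat.beq (cw cR5 (upg ft u2 dR5)) u2 = true ∧
    Nat.beq (cw cR5 (upg ft u3 dR5)) u3 = true ∧
    Nat.beq (cw cR5 (upg ft u4 dR5)) u4 = true ∧
    Nat.beq (cw cR5 (upg ft u5 dR5)) u6 = true ∧
    Nat.beq (cw cR5 (upg ft u6 dR5)) u7 = true ∧
    Nat.beq (cw cR5 (upg ft u7 dR5)) u5 = true := by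
  refine ⟨?_, ?_, ?_, ?_, ?_, ?_, ?_, ?_⟩ <;> decide +kernel

/-- the element -/
noncomputable def gR5 (F : Type u) [Field F] [CharP F 5] : Gh F := gw F wR5 * tor F eR5

theorem gR5_act [CharP F 5] (j : Fin 8) : V F (gR5 F) (uv F j) = uv F ((Equiv.swap (5 : Fin 8) 6 * Equiv.swap (6 : Fin 8) 7 : Equiv.Perm (Fin 8)) j) := by
  have h : ∀ j : Fin 8, (Equiv.swap (5 : Fin 8) 6 * Equiv.swap (6 : Fin 8) 7 : Equiv.Perm (Fin 8)) j = ![0, 1, 2, 3, 4, 6, 7, 5] j := by decide
  rw [h]
  obtain ⟨h0, h1, h2, h3, h4, h5, h6, h7⟩ := actR5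
  fin_cases j
  · exact V_wt okwR5 oktR5 h0
  · exact V_wt okwR5 oktR5 h1
  · exact V_wt okwR5 oktR5 h2
  · exact V_wt okwR5 oktR5 h3
  · exact V_wt okwR5 oktR5 h4
  · exact V_wt okwR5 oktR5 h5
  · exact V_wt okwR5 oktR5 h6
  · exact V_wt okwR5 oktR5 h7

end Cfsg.Agent.R2.PX.C
end
end

-- part: R2/PX/C/StdS
section
set_option linter.all false
open scoped Cfsg.Agent.FastGrp

-- part: R2/PX/C/StdR2
section
/-!
# Pattern X, Part C: the standard configuration, the three-cycle (2 3 4) (helper3)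
-/

set_option autoImplicit false
set_option maxRecDepth 100000

namespace Cfsg.Agent.R2.PX.C

open Cfsg Cfsg.Lie Matrix
open Cfsg.Agent.R2.T1 Cfsg.Agent.R2.PX
open Cfsg.Agent.H943.E7V.Block (D1 rho)

universe u
variable {F : Type u} [Field F]

/-- the word -/
def wR2 : List (ℕ × ℕ) := [(15, 1), (19, 1), (16, 4), (22, 3), (38, 3), (59, 4), (66, 3), (47, 1), (72, 3), (32, 1), (77, 4), (78, 2),
  (86, 1), (87, 1)]

/-- the compiled word -/
def cR2 : List (ℕ × List (ℕ × ℕ)) := [
  (1, [(122, 375), (129, 384), (134, 397), (146, 416), (158, 440), (161, 445), (180, 455), (183, 458), (202, 464),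
  (212, 468), (216, 470), (218, 475)]),
  (1, [(122, 361), (125, 364), (140, 403), (151, 423), (155, 431), (161, 437), (187, 455), (193, 461), (199, 463),
  (209, 467), (221, 473), (222, 475)]),
  (4, [(125, 375), (129, 380), (134, 393), (146, 412), (160, 441), (161, 443), (182, 454), (183, 456), (203, 465),
  (213, 469), (217, 471), (218, 473)]),
  (3, [(125, 355), (129, 360), (140, 393), (151, 413), (160, 431), (161, 433), (192, 455), (193, 457), (203, 463),
  (213, 467), (222, 470), (223, 472)]),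
  (3, [(125, 311), (129, 316), (168, 392), (173, 412), (182, 430), (183, 432), (192, 440), (193, 442), (203, 448),
  (213, 450), (229, 470), (230, 472)]),
  (4, [(125, 259), (155, 316), (177, 360), (187, 380), (198, 402), (199, 404), (208, 422), (209, 424), (217, 436),
  (222, 446), (229, 460), (235, 472)]),
  (3, [(129, 251), (158, 310), (180, 354), (190, 374), (201, 396), (202, 398), (211, 416), (212, 418), (218, 434),
  (223, 444), (230, 458), (236, 470)]),
  (1, [(134, 293), (140, 302), (168, 346), (196, 412), (198, 416), (199, 418), (201, 422), (202, 424), (203, 426),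
  (224, 450), (231, 466), (232, 468)]),
  (3, [(134, 241), (161, 302), (183, 346), (199, 375), (202, 381), (203, 385), (216, 412), (217, 416), (218, 422),
  (224, 441), (231, 455), (238, 468)]),
  (1, [(140, 337), (151, 347), (155, 355), (158, 361), (160, 365), (161, 367), (220, 454), (221, 456), (222, 458),
  (223, 460), (224, 462), (225, 466)]),
  (4, [(140, 241), (161, 292), (193, 347), (199, 355), (202, 361), (203, 365), (221, 413), (222, 417), (223, 423),
  (224, 431), (232, 454), (238, 466)]),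
  (2, [(146, 269), (151, 280), (173, 336), (206, 392), (208, 396), (209, 398), (211, 402), (212, 404), (213, 406),
  (225, 448), (233, 462), (234, 464)]),
  (1, [(151, 241), (161, 268), (193, 336), (209, 355), (212, 361), (213, 365), (221, 392), (222, 396), (223, 402),
  (225, 431), (234, 454), (238, 463)]),
  (1, [(155, 251), (158, 258), (196, 336), (206, 346), (215, 364), (216, 366), (220, 384), (221, 386), (224, 406),
  (225, 426), (235, 458), (236, 460)])]

/-- the exponents of the element of the torus -/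
def eR2 : List ℤ := [0, 1, 1, 2, 1, 0, 0]

/-- the compiled element of the torus -/
def dR2 : List (ℕ × ℕ) := [(120, 1), (122, 1), (125, 3), (129, 3), (134, 1), (140, 1), (146, 1), (151, 1), (155, 2), (158, 2), (160, 1),
  (161, 1), (168, 3), (173, 3), (177, 1), (180, 1), (182, 3), (183, 3), (187, 1), (190, 1), (192, 3), (193, 3),
  (196, 2), (198, 1), (199, 1), (201, 1), (202, 1), (203, 3), (206, 2), (208, 1), (209, 1), (211, 1), (212, 1),
  (213, 3), (215, 2), (216, 2), (217, 1), (218, 1), (220, 2), (221, 2), (222, 1), (223, 1), (224, 2), (225, 2),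
  (227, 1), (228, 1), (229, 3), (230, 3), (231, 1), (232, 1), (233, 1), (234, 1), (235, 2), (236, 2), (237, 1),
  (238, 1)]

theorem okwR2 : okw wR2 cR2 = true := by decide +kernel

private noncomputable def _root_.Cfsg.Agent.LsF.ff12ca9_0 : {f // @Cfsg.Agent.R2.PX.C.fm = f} := ⟨_, by first | (delta Cfsg.Agent.R2.PX.C.fm; rewrite [Cfsg.Agent.LsF.cond_eq, Cfsg.Agent.LsF.filterMap_eq]; exact rfl) | exact rfl⟩
private noncomputable def _root_.Cfsg.Agent.LsF.ff12ca9_1 : {f // @Cfsg.Lie.ChevalleyDatum.cartan = f} := ⟨_, by first | (delta Cfsg.Lie.ChevalleyDatum.cartan; rewrite [Cfsg.Agent.LsF.agetD_eq]; exact rfl) | exact rfl⟩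
private noncomputable def _root_.Cfsg.Agent.LsF.ff12ca9_2 : {f // @Cfsg.Agent.R2.PX.C.tx = f} := ⟨_, by first | (delta Cfsg.Agent.R2.PX.C.tx; rewrite [Cfsg.Agent.LsF.ff12ca9_1.2, Cfsg.Agent.LsF.imul_pat, Cfsg.Agent.LsF.map_eq, Cfsg.Agent.LsF.range_eq, Cfsg.Agent.LsF.sum_eq, Cfsg.Agent.LsF.getD_eq, Cfsg.Agent.LsF.instIAdd_eq]; exact rfl) | exact rfl⟩
private noncomputable def _root_.Cfsg.Agent.LsF.ff12ca9_3 : {f // @Cfsg.Agent.R2.PX.C.te = f} := ⟨_, by first | (delta Cfsg.Agent.R2.PX.C.te; rewrite [Cfsg.Agent.LsF.ff12ca9_2.2, Cfsg.Agent.LsF.nmod_pat, Cfsg.Agent.LsF.npow_pat, Cfsg.Agent.LsF.imod_pat, Cfsg.Agent.LsF.toNat_eq]; exact rfl) | exact rfl⟩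
private noncomputable def _root_.Cfsg.Agent.LsF.ff12ca9_4 : {f // @Cfsg.Agent.R2.PX.C.okt = f} := ⟨_, by first | (delta Cfsg.Agent.R2.PX.C.okt; rewrite [Cfsg.Agent.LsF.ff12ca9_0.2, Cfsg.Agent.LsF.ff12ca9_3.2, Cfsg.Agent.LsF.instNBEq_pat, Cfsg.Agent.LsF.instBEq_eq, Cfsg.Agent.LsF.instPBEq_eq]; exact rfl) | exact rfl⟩
theorem oktR2 : okt eR2 dR2 = true := by ((try (rewrite [Cfsg.Agent.LsF.ff12ca9_4.2])); decide +kernel)

theorem actR2 : Nat.beq (cw cR2 (upg ft u0 dR2)) u0 = true ∧
    Nat.beq (cw cR2 (upg ft u1 dR2)) u1 = true ∧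
    Nat.beq (cw cR2 (upg ft u2 dR2)) u3 = true ∧
    Nat.beq (cw cR2 (upg ft u3 dR2)) u4 = true ∧
    Nat.beq (cw cR2 (upg ft u4 dR2)) u2 = true ∧
    Nat.beq (cw cR2 (upg ft u5 dR2)) u5 = true ∧
    Nat.beq (cw cR2 (upg ft u6 dR2)) u6 = true ∧
    Nat.beq (cw cR2 (upg ft u7 dR2)) u7 = true := by
  refine ⟨?_, ?_, ?_, ?_, ?_, ?_, ?_, ?_⟩ <;> decide +kernel

/-- the element -/
noncomputable def gR2 (F : Type u) [Field F] [CharP F 5] : Gh F := gw F wR2 * tor F eR2

theorem gR2_act [CharP F 5] (j : Fin 8) : V F (gR2 F) (uv F j) = uv F ((Equiv.swap (2 : Fin 8) 3 * Equiv.swap (3 : Fin 8) 4 : Equiv.Perm (Fin 8)) j) := by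
  have h : ∀ j : Fin 8, (Equiv.swap (2 : Fin 8) 3 * Equiv.swap (3 : Fin 8) 4 : Equiv.Perm (Fin 8)) j = ![0, 1, 3, 4, 2, 5, 6, 7] j := by decide
  rw [h]
  obtain ⟨h0, h1, h2, h3, h4, h5, h6, h7⟩ := actR2
  fin_cases j
  · exact V_wt okwR2 oktR2 h0
  · exact V_wt okwR2 oktR2 h1
  · exact V_wt okwR2 oktR2 h2
  · exact V_wt okwR2 oktR2 h3
  · exact V_wt okwR2 oktR2 h4
  · exact V_wt okwR2 oktR2 h5
  · exact V_wt okwR2 oktR2 h6
  · exact V_wt okwR2 oktR2 h7

end Cfsg.Agent.R2.PX.C
end

-- part: R2/PX/C/StdR4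
section
/-!
# Pattern X, Part C: the standard configuration, the three-cycle (4 5 6) (helper3)
-/

set_option autoImplicit false
set_option maxRecDepth 100000

namespace Cfsg.Agent.R2.PX.C

open Cfsg Cfsg.Lie Matrix
open Cfsg.Agent.R2.T1 Cfsg.Agent.R2.PX
open Cfsg.Agent.H943.E7V.Block (D1 rho)

universe u
variable {F : Type u} [Field F]

/-- the word -/
def wR4 : List (ℕ × ℕ) := [(41, 1), (55, 3), (51, 3), (70, 1), (74, 1), (84, 3)]

/-- the compiled word -/
def cR4 : List (ℕ × List (ℕ × ℕ)) := [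
  (1, [(125, 303), (134, 316), (168, 380), (177, 413), (182, 422), (183, 424), (198, 441), (199, 443), (203, 446),
  (217, 451), (229, 468), (231, 473)]),
  (3, [(125, 269), (151, 316), (173, 360), (187, 393), (192, 402), (193, 404), (208, 431), (209, 433), (213, 436),
  (222, 449), (229, 463), (234, 472)]),
  (3, [(129, 281), (146, 310), (173, 375), (180, 392), (182, 396), (183, 398), (211, 441), (212, 443), (213, 445),
  (218, 448), (230, 465), (233, 470)]),
  (1, [(134, 251), (158, 302), (180, 346), (196, 375), (201, 384), (202, 386), (215, 417), (216, 419), (218, 426),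
  (224, 445), (231, 459), (236, 468)]),
  (1, [(140, 259), (155, 292), (187, 347), (196, 360), (198, 364), (199, 366), (220, 423), (221, 425), (222, 427),
  (224, 436), (232, 461), (235, 466)]),
  (3, [(151, 251), (158, 268), (190, 336), (206, 355), (211, 364), (212, 366), (220, 397), (221, 399), (223, 406),
  (225, 435), (234, 458), (236, 463)])]

/-- the exponents of the element of the torus -/
def eR4 : List ℤ := [0, 1, 2, 3, 2, 0, 0]

/-- the compiled element of the torus -/
def dR4 : List (ℕ × ℕ) := [(120, 1), (122, 1), (125, 4), (129, 3), (134, 1), (140, 2), (146, 3), (151, 1), (155, 2), (158, 4), (160, 1),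
  (161, 1), (168, 3), (173, 4), (177, 3), (180, 1), (182, 4), (183, 4), (187, 1), (190, 2), (192, 3), (193, 3),
  (196, 4), (198, 1), (199, 1), (201, 2), (202, 2), (203, 3), (206, 2), (208, 3), (209, 3), (211, 1), (212, 1),
  (213, 4), (215, 2), (216, 2), (217, 3), (218, 1), (220, 4), (221, 4), (222, 1), (223, 2), (224, 4), (225, 2),
  (227, 1), (228, 1), (229, 4), (230, 3), (231, 1), (232, 2), (233, 3), (234, 1), (235, 2), (236, 4), (237, 1),
  (238, 1)]

theorem okwR4 : okw wR4 cR4 = true := by decide +kernel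

theorem oktR4 : okt eR4 dR4 = true := by ((try (rewrite [Cfsg.Agent.LsF.ff12ca9_4.2])); decide +kernel)

theorem actR4 : Nat.beq (cw cR4 (upg ft u0 dR4)) u0 = true ∧
    Nat.beq (cw cR4 (upg ft u1 dR4)) u1 = true ∧
    Nat.beq (cw cR4 (upg ft u2 dR4)) u2 = true ∧
    Nat.beq (cw cR4 (upg ft u3 dR4)) u3 = true ∧
    Nat.beq (cw cR4 (upg ft u4 dR4)) u5 = true ∧
    Nat.beq (cw cR4 (upg ft u5 dR4)) u6 = true ∧
    Nat.beq (cw cR4 (upg ft u6 dR4)) u4 = true ∧
    Nat.beq (cw cR4 (upg ft u7 dR4)) u7 = true := by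
  refine ⟨?_, ?_, ?_, ?_, ?_, ?_, ?_, ?_⟩ <;> decide +kernel

/-- the element -/
noncomputable def gR4 (F : Type u) [Field F] [CharP F 5] : Gh F := gw F wR4 * tor F eR4

theorem gR4_act [CharP F 5] (j : Fin 8) : V F (gR4 F) (uv F j) = uv F ((Equiv.swap (4 : Fin 8) 5 * Equiv.swap (5 : Fin 8) 6 : Equiv.Perm (Fin 8)) j) := by
  have h : ∀ j : Fin 8, (Equiv.swap (4 : Fin 8) 5 * Equiv.swap (5 : Fin 8) 6 : Equiv.Perm (Fin 8)) j = ![0, 1, 2, 3, 5, 6, 4, 7] j := by decide
  rw [h]
  obtain ⟨h0, h1, h2, h3, h4, h5, h6, h7⟩ := actR4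
  fin_cases j
  · exact V_wt okwR4 oktR4 h0
  · exact V_wt okwR4 oktR4 h1
  · exact V_wt okwR4 oktR4 h2
  · exact V_wt okwR4 oktR4 h3
  · exact V_wt okwR4 oktR4 h4
  · exact V_wt okwR4 oktR4 h5
  · exact V_wt okwR4 oktR4 h6
  · exact V_wt okwR4 oktR4 h7

end Cfsg.Agent.R2.PX.C
end

-- part: R2/PX/C/StdS
section
/-!
# Pattern X, Part C: the even permutations act on the standard configuration (helper3)
-/

set_option autoImplicit false
set_option maxRecDepth 100000

namespace Cfsg.Agent.R2.PX.C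

open Cfsg Cfsg.Lie Matrix
open Cfsg.Agent.R2.T1 Cfsg.Agent.R2.PX
open Cfsg.Agent.H943.E7V.Block (D1 rho)
open Equiv

universe u
variable (F : Type u) [Field F] [CharP F 5]

/-- the permutations realised on the standard configuration -/
def RP : Subgroup (Perm (Fin 8)) where
  carrier := {π | ∃ g : Gh F, ∀ i, V F g (uv F i) = uv F (π i)}
  one_mem' := ⟨1, fun i => by rw [map_one]; rfl⟩
  mul_mem' := by
    rintro a b ⟨g, hg⟩ ⟨h, hh⟩
    exact ⟨g * h, fun i => by rw [map_mul, Module.End.mul_apply, hh, hg]; rfl⟩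
  inv_mem' := by
    rintro a ⟨g, hg⟩
    refine ⟨g⁻¹, fun i => ?_⟩
    have h1 := hg (a⁻¹ i)
    have h2 : a (a⁻¹ i) = i := a.apply_symm_apply i
    rw [h2] at h1
    rw [← h1, ← Module.End.mul_apply, ← map_mul, inv_mul_cancel, map_one]
    rfl

/-- the adjacent transpositions -/
def sw (i : Fin 7) : Perm (Fin 8) := swap i.castSucc i.succ

theorem sw_succ (i : Fin 6) : sw i.castSucc * sw i.succ ∈ RP F := by
  fin_cases i
  · exact ⟨gR0 F, gR0_act⟩
  · exact ⟨gR1 F, gR1_act⟩
  · exact ⟨gR2 F, gR2_act⟩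
  · exact ⟨gR3 F, gR3_act⟩
  · exact ⟨gR4 F, gR4_act⟩
  · exact ⟨gR5 F, gR5_act⟩

theorem sw_sq (i : Fin 7) : sw i * sw i = 1 := swap_mul_self _ _

theorem sw_zero : ∀ i : Fin 7, sw 0 * sw i ∈ RP F := by
  intro i
  induction i using Fin.induction with
  | zero => rw [sw_sq]; exact one_mem _
  | succ i ih =>
    have h1 := mul_mem ih (sw_succ F i)
    have h2 : sw 0 * sw i.castSucc * (sw i.castSucc * sw i.succ) = sw 0 * sw i.succ := by
      rw [mul_assoc, ← mul_assoc (sw i.castSucc), sw_sq, one_mul]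
    rwa [h2] at h1

theorem sign_sw (i : Fin 7) : Perm.sign (sw i) = -1 := by
  have h : i.castSucc ≠ i.succ := by
    intro h
    have := congrArg Fin.val h
    simp at this
  exact Perm.sign_swap h

theorem all_perm (π : Perm (Fin 8)) : (Perm.sign π = 1 → π ∈ RP F) ∧ (Perm.sign π = -1 → sw 0 * π ∈ RP F) := by
  have hπ : π ∈ Submonoid.closure (Set.range fun i : Fin 7 => sw i) := by
    have h := Perm.mclosure_swap_castSucc_succ 7
    show π ∈ Submonoid.closure (Set.range fun i : Fin 7 => swap i.castSucc i.succ)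
    rw [h]; trivial
  induction hπ using Submonoid.closure_induction_left with
  | one =>
    refine ⟨fun _ => one_mem _, fun h => ?_⟩
    rw [Perm.sign_one] at h
    exact absurd h (by decide)
  | mul_left x hx y hy ih =>
    obtain ⟨i, rfl⟩ := hx
    change (Perm.sign (sw i * y) = 1 → sw i * y ∈ RP F) ∧ (Perm.sign (sw i * y) = -1 → sw 0 * (sw i * y) ∈ RP F)
    rw [Perm.sign_mul, sign_sw]
    constructor
    · intro h
      have h1 : Perm.sign y = -1 := by
        rcases Int.units_eq_one_or (Perm.sign y) with h2 | h2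
        · rw [h2] at h; exact absurd h (by decide)
        · exact h2
      have h2 := mul_mem (inv_mem (sw_zero F i)) (ih.2 h1)
      have h3 : (sw 0 * sw i)⁻¹ * (sw 0 * y) = sw i * y := by
        have h4 : (sw i)⁻¹ = sw i := inv_eq_of_mul_eq_one_left (sw_sq i)
        rw [_root_.mul_inv_rev, mul_assoc, inv_mul_cancel_left, h4]
      rwa [h3] at h2
    · intro h
      have h1 : Perm.sign y = 1 := by
        rcases Int.units_eq_one_or (Perm.sign y) with h2 | h2
        · exact h2
        · rw [h2] at h; exact absurd h (by decide)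
      have h2 := mul_mem (sw_zero F i) (ih.1 h1)
      rwa [mul_assoc] at h2

/-- **the even permutations act** -/
theorem uv_act (π : Perm (Fin 8)) (h : Perm.sign π = 1) : ∃ g : Gh F, ∀ i, V F g (uv F i) = uv F (π i) :=
  (all_perm F π).1 h

end Cfsg.Agent.R2.PX.C
end
end

-- part: R2/T1/Five/Eight
section
set_option linter.all false
open scoped Cfsg.Agent.FastGrp

/-!
# Elements of order 8 (helper25)

* `exists_row` : the multiplicities of an element of order dividing `N` on the module of degree 56;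
* `no_eight` : if `|F| ≡ 3, 5` modulo 8, no element `k` has `k ^ 4 = -1` on the module of degree 56.
-/

set_option autoImplicit false
set_option maxRecDepth 100000

namespace Cfsg.Agent.R2.T1.Five

open Cfsg Cfsg.Lie Module
open Cfsg.Agent.H943.E7V.Block (D1 rho)
open Cfsg.Agent.H952.F4 (ev es)
open Cfsg.Agent.H944.Tab (allAlc allAlc_spec dotN)
open Cfsg.Agent.H944.E7Two (th7)
open Cfsg.Agent.R2.T1

universe u

/-- the test of a property of the rows -/
def chkP (N : ℕ) (P : (ℕ → ℕ) → Bool) : Bool :=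
  allAlc th7 N fun y => (List.range N).all fun t => !((2 * t + dt [2, 3, 4, 6, 5, 4, 3] y) % N == 0) ||
    P (cV N y t)

section
variable {K : Type u} [Field K]

theorem exists_row {N : ℕ} {P : (ℕ → ℕ) → Bool} (hchk : chkP N P = true) (hN : 0 < N) {ζ : Kˣ}
    (hζ : IsPrimitiveRoot ζ N) {x : Gh K}
    (h : ∃ (g : Gh K) (c : Fin chevE7.rank → Kˣ), Phi K c = g * x * g⁻¹ ∧ c ^ N = 1) :
    ∃ m : ℕ → ℕ, P m = true ∧ ∀ k < N, ev (V K x) ((ζ : K) ^ k) = m k := by
  obtain ⟨g, c, y, h1, h2, h3, h4⟩ := Five.exists_alc hN hζ h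
  have hζ' : IsPrimitiveRoot (ζ : K) N := IsPrimitiveRoot.coe_units_iff.2 hζ
  have : NeZero N := ⟨hN.ne'⟩
  obtain ⟨t, htN, ht⟩ : ∃ t < N, ζ ^ t = wt botv c := by
    have h5 : ((wt botv c : Kˣ) : K) ^ N = 1 := by
      rw [← Units.val_pow_eq_pow_val, wt_pow_one h2, Units.val_one]
    obtain ⟨t, htN, ht⟩ := hζ'.eq_pow_of_pow_eq_one h5
    exact ⟨t, htN, Units.ext (by rw [Units.val_pow_eq_pow_val, ht])⟩
  set Y := List.ofFn y with hY
  have hlen : Y.length = 7 := by rw [hY, List.length_ofFn]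
  have hv : ∀ j < 7, rtv (chevE7.simple j) c = ζ ^ Y.getD j 0 := by
    intro j hj
    have h5 := h3 ⟨j, hj⟩
    have h6 : Y.getD j 0 = y ⟨j, hj⟩ := by
      rw [hY, List.getD_eq_getElem _ _ (by rw [List.length_ofFn]; exact hj), List.getElem_ofFn]
    rw [h6]
    exact h5
  have hc := allAlc_spec th7 N _ (by decide) hchk Y (by rw [hlen]; rfl) h4
  rw [List.all_eq_true] at hc
  have hc' := hc t (List.mem_range.2 htN)
  rw [core_rel hlen hv hζ ht.symm] at hc'
  simp only [beq_self_eq_true, Bool.not_true, Bool.false_or] at hc'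
  refine ⟨_, hc', fun k hk => ?_⟩
  rw [ev_V_of_conj h1, ev_V_core hlen hv hζ ht.symm hk]

end

/-- the property of the rows of order 8 -/
def P8 (m : ℕ → ℕ) : Bool := !((m 0 == 0) && (m 2 == 0) && (m 4 == 0) && (m 6 == 0) && ((m 1 == m 3) || (m 1 == m 5)))

private noncomputable def _root_.Cfsg.Agent.LsF.f96a32c_0 : {f // @Cfsg.Agent.H944.Tab.allAlc = f} := ⟨_, by first | (delta Cfsg.Agent.H944.Tab.allAlc List.brecOn Cfsg.Agent.H944.Tab.allAlc._f List.brecOn.go; rewrite [Cfsg.Agent.LsF.nadd_pat, Cfsg.Agent.LsF.nmul_pat, Cfsg.Agent.LsF.nsub_pat, Cfsg.Agent.LsF.ndiv_pat, Cfsg.Agent.LsF.all_eq, Cfsg.Agent.LsF.range_eq]; (try delta Cfsg.Agent.H944.Tab.allAlc.match_1); (try delta List.casesOn); first | dsimp -zeta only | exact rfl) | exact rfl⟩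
private noncomputable def _root_.Cfsg.Agent.LsF.f96a32c_1 : {f // @Cfsg.Agent.R2.T1.dt = f} := ⟨_, by first | (delta Cfsg.Agent.R2.T1.dt List.brecOn List.brecOn.go Cfsg.Agent.R2.T1.dt._f; rewrite [Cfsg.Agent.LsF.nadd_pat, Cfsg.Agent.LsF.nmul_pat]; (try delta Cfsg.Agent.R2.T1.dt.match_1); (try delta Cfsg.Agent.R2.T1.dt._sparseCasesOn_1); first | dsimp -zeta only | exact rfl) | exact rfl⟩
private noncomputable def _root_.Cfsg.Agent.LsF.f96a32c_2 : {f // @Cfsg.Agent.R2.T1.cnt = f} := ⟨_, by first | (delta Cfsg.Agent.R2.T1.cnt List.brecOn List.brecOn.go Cfsg.Agent.R2.T1.cnt._f; rewrite [Cfsg.Agent.LsF.nadd_pat, Cfsg.Agent.LsF.dBoolEq_eq, Cfsg.Agent.LsF.ite_eq]; (try delta Cfsg.Agent.R2.T1.cnt.match_1); (try delta List.casesOn); first | dsimp -zeta only | exact rfl) | exact rfl⟩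
private noncomputable def _root_.Cfsg.Agent.LsF.f96a32c_3 : {f // @Cfsg.Agent.R2.T1.cV = f} := ⟨_, by first | (delta Cfsg.Agent.R2.T1.cV; rewrite [Cfsg.Agent.LsF.f96a32c_2.2, Cfsg.Agent.LsF.f96a32c_1.2, Cfsg.Agent.LsF.nadd_pat, Cfsg.Agent.LsF.nmod_pat, Cfsg.Agent.LsF.nbeq_pat]; exact rfl) | exact rfl⟩
private noncomputable def _root_.Cfsg.Agent.LsF.f96a32c_4 : {f // @Cfsg.Agent.R2.T1.Five.chkP = f} := ⟨_, by first | (delta Cfsg.Agent.R2.T1.Five.chkP; rewrite [Cfsg.Agent.LsF.f96a32c_0.2, Cfsg.Agent.LsF.f96a32c_1.2, Cfsg.Agent.LsF.f96a32c_3.2, Cfsg.Agent.LsF.nadd_pat, Cfsg.Agent.LsF.nmul_pat, Cfsg.Agent.LsF.nmod_pat, Cfsg.Agent.LsF.nbeq_pat, Cfsg.Agent.LsF.or_eq, Cfsg.Agent.LsF.not_eq, Cfsg.Agent.LsF.all_eq, Cfsg.Agent.LsF.range_eq]; exact rfl) | exact rfl⟩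
private noncomputable def _root_.Cfsg.Agent.LsF.f96a32c_5 : {f // @Cfsg.Agent.R2.T1.Five.P8 = f} := ⟨_, by first | (delta Cfsg.Agent.R2.T1.Five.P8; rewrite [Cfsg.Agent.LsF.nbeq_pat, Cfsg.Agent.LsF.and_eq, Cfsg.Agent.LsF.or_eq, Cfsg.Agent.LsF.not_eq]; exact rfl) | exact rfl⟩
theorem chkP8 : chkP 8 P8 = true := by ((try (rewrite [Cfsg.Agent.LsF.f96a32c_4.2, Cfsg.Agent.LsF.f96a32c_5.2])); decide +kernel)

section
variable {F : Type u} [Field F] [Finite F]

theorem no_eight (h2 : (2 : F) ≠ 0) {k : Gh F} (hk : V F (k ^ 4) = -1)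
    (hq : Nat.card F % 8 = 3 ∨ Nat.card F % 8 = 5) : False := by
  have h8 : ((8 : ℕ) : F) ≠ 0 := by
    have : ((8 : ℕ) : F) = 2 * (2 * 2) := by norm_num
    rw [this]
    exact mul_ne_zero h2 (mul_ne_zero h2 h2)
  obtain ⟨p, hpp, hp, hcop⟩ := exists_char h8
  set f := algebraMap F (AlgebraicClosure F) with hf
  have hx : k ^ 8 = 1 := by
    apply V_injective
    have h1 : k ^ 8 = k ^ 4 * k ^ 4 := by rw [← pow_add]
    rw [h1, map_mul, hk, map_one]
    refine LinearMap.ext fun v => ?_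
    show - - v = v
    exact _root_.neg_neg v
  have hch : CharP (AlgebraicClosure F) p := charP_of_injective_algebraMap f.injective p
  have hNk : ((8 : ℕ) : AlgebraicClosure F) ≠ 0 := by
    intro h0
    have h1 : p ∣ 8 := (CharP.cast_eq_zero_iff (AlgebraicClosure F) p 8).1 h0
    have h2 : p ∣ 1 := by
      rw [← hcop]
      exact Nat.dvd_gcd h1 dvd_rfl
    exact (Fact.out : p.Prime).one_lt.ne' (Nat.dvd_one.1 h2)
  have : NeZero ((8 : ℕ) : AlgebraicClosure F) := ⟨hNk⟩
  obtain ⟨ζ, hζ⟩ : ∃ ζ : AlgebraicClosure F, IsPrimitiveRoot ζ 8 :=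
    HasEnoughRootsOfUnity.exists_primitiveRoot (AlgebraicClosure F) 8
  have hζ0 : ζ ≠ 0 := hζ.ne_zero (by norm_num)
  have hζu : IsPrimitiveRoot (Units.mk0 ζ hζ0) 8 := IsPrimitiveRoot.coe_units_iff.1 hζ
  obtain ⟨m, hP, h1⟩ := exists_row chkP8 (by norm_num) hζu (frame p (by norm_num) hcop hx)
  have h2K : (2 : AlgebraicClosure F) ≠ 0 := by
    have h := (map_ne_zero f).2 h2
    rwa [map_ofNat] at h
  have hk' : V (AlgebraicClosure F) (emb f k ^ 4) = -1 := by
    have h3 : ad F (k ^ 4) = 1 := ad_eq_one_iff.2 (Or.inr hk)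
    have h4 : ad (AlgebraicClosure F) (emb f (k ^ 4)) = 1 := (ad_emb_eq_one_iff f _).2 h3
    rw [← map_pow]
    rcases ad_eq_one_iff.1 h4 with h5 | h5
    · exfalso
      have h6 : emb f (k ^ 4) = 1 := faithful h5
      rw [emb_injective f (h6.trans (map_one (emb f)).symm)] at hk
      have h7 := congrArg (fun T : Module.End F (D1 → F) => T (fun _ => 1)) hk
      have h8 := congrFun h7 topv
      simp only [map_one] at h8
      change (1 : F) = -1 at h8
      apply h2
      linear_combination h8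
    · exact h5
  have hev : ∀ j, ev (V (AlgebraicClosure F) (emb f k)) (ζ ^ (2 * j)) = 0 := by
    intro j
    rw [ev, Submodule.finrank_eq_zero, eq_bot_iff]
    intro v hv
    rw [Module.End.mem_eigenspace_iff] at hv
    have h3 : ∀ n : ℕ, V (AlgebraicClosure F) (emb f k ^ n) v = ((ζ ^ (2 * j)) ^ n) • v := by
      intro n
      induction n with
      | zero => rw [pow_zero, pow_zero, map_one, one_smul]; rfl
      | succ n ih => rw [pow_succ', map_mul, Module.End.mul_apply, ih, map_smul, hv, smul_smul, pow_succ]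
    have h4 := h3 4
    have h5 : (ζ ^ (2 * j)) ^ 4 = 1 := by
      rw [← pow_mul, show 2 * j * 4 = 8 * j by ring, pow_mul, hζ.pow_eq_one, one_pow]
    rw [hk', h5, one_smul] at h4
    have h6 : -v = v := h4
    have h7 : (2 : AlgebraicClosure F) • v = 0 := by
      rw [two_smul]
      nth_rewrite 1 [← h6]
      exact neg_add_cancel v
    exact (Submodule.mem_bot _).2 ((smul_eq_zero.1 h7).resolve_left h2K)
  have e0 := h1 0 (by norm_num)
  have e1 := h1 1 (by norm_num)
  have e2 := h1 2 (by norm_num)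
  have e3 := h1 3 (by norm_num)
  have e4 := h1 4 (by norm_num)
  have e5 := h1 5 (by norm_num)
  have e6 := h1 6 (by norm_num)
  change ev (V (AlgebraicClosure F) (emb f k)) (ζ ^ 0) = _ at e0
  change ev (V (AlgebraicClosure F) (emb f k)) (ζ ^ 1) = _ at e1
  change ev (V (AlgebraicClosure F) (emb f k)) (ζ ^ 2) = _ at e2
  change ev (V (AlgebraicClosure F) (emb f k)) (ζ ^ 3) = _ at e3
  change ev (V (AlgebraicClosure F) (emb f k)) (ζ ^ 4) = _ at e4
  change ev (V (AlgebraicClosure F) (emb f k)) (ζ ^ 5) = _ at e5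
  change ev (V (AlgebraicClosure F) (emb f k)) (ζ ^ 6) = _ at e6
  rw [show 0 = 2 * 0 by norm_num, hev] at e0
  rw [show 2 = 2 * 1 by norm_num, hev] at e2
  rw [show 4 = 2 * 2 by norm_num, hev] at e4
  rw [show 6 = 2 * 3 by norm_num, hev] at e6
  have hfr := ev_V_frob f k (ζ ^ 1)
  rw [pow_one, pow_mod_eq hζ] at hfr
  rw [pow_one] at e1
  unfold P8 at hP
  have hc : (m 1 = m 3 ∨ m 1 = m 5) := by
    rcases hq with h | h
    · left
      rw [h, e3, e1] at hfr
      exact hfr.symm
    · right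
      rw [h, e5, e1] at hfr
      exact hfr.symm
  simp only [← e0, ← e2, ← e4, ← e6] at hP
  rcases hc with h | h
  · simp [h] at hP
  · simp [h] at hP

end

end Cfsg.Agent.R2.T1.Five
end
end
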