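import Cfsg.Agent.R2.T1.Mu2.Fix_m3
import Cfsg.Agent.R2.T1.Odd.Nrm
import Cfsg.Agent.Lib.FinFast
import Mathlib
import Cfsg.Agent.R2.PX.Conf_m3
import Cfsg.Agent.R2.T1.Five.Lin_m3
import Cfsg.Agent.R2.T1.Odd.T9
import Cfsg.Agent.R2.PX.W.Cl_m3
import Cfsg.Agent.H952.F4.AFive
import Cfsg.Agent.R2.T1.T2p.GenA
import Cfsg.Agent.H952.F4.Scott_m3
import Cfsg.Agent.R2.T1.P3.Q3
import Cfsg.Agent.R2.PX.Del_m3
import Cfsg.Agent.Lib.ListFast
import Cfsg.Agent.R2.PX.DdE
import Cfsg.Agent.R2.T1.T2p.Msk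
import Cfsg.Agent.FastGrp
import Cfsg.Agent.Prune
set_option linter.all false

section
prune_inst 0x7fffffffbbfcefffffff7e7fa6dfcffdfbbb3fffe6dff9cbffe063ff2b9f6b98c9c56b858be212fe1ff7e21410f87b53ff7eefffea6bdc7ffffd5ff41ffbffcfedf6b50851d48c341fbc0ff683f0778e7f3fffffffffffffffffffffffffffaeffbfffffffff

-- part: R2/T1/Mu2/Line
section
prune_inst 0x4403000000000000580030000000800000200400000e8000c0001402062804001400a00000080c2ac106800000811000040422000000a0000000001000080000200a008a000260091000080000000000000000000000000000000010000000000000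
set_option linter.all false
open scoped Cfsg.Agent.FastGrp

/-!
# The quadratic moment map and elements of order 3 with 32 fixed weights (helper24)

* `Mu_map` : change of fields;
* `Mu_supp` : `Mu K y z = z(e_{-θ}) * Mu K y e_{-θ}` if `y` is supported on weights with inner product 1 with `θ`;
* `line` : the values of the moment map on an eigenspace of an element `x` of type 32;
* `line_F` : char 2, over a finite field.
-/

set_option autoImplicit false
set_option maxRecDepth 100000

namespace Cfsg.Agent.R2.T1.Mu2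

open Cfsg Cfsg.Lie Matrix Module
open Cfsg.Agent.R2.T1 Cfsg.Agent.R2.PX
open Cfsg.Agent.ChevalleyStructure.Elts Cfsg.Agent.ChevalleyStructure.RootVec
  Cfsg.Agent.ChevalleyStructure.RootVecTab
open Cfsg.Agent.H943.E7V.Block (D1 rho)
open Cfsg.Agent.H952.F4 (ev es)

universe u v

section map
variable {F : Type u} {K : Type v} [Field F] [Field K] (f : F →+* K)

theorem NM_map (r : ℕ) : (NM F r).map f = NM K r := by
  ext a b
  rw [Matrix.map_apply]
  show f ((nz r a b : ℤ) : F) = ((nz r a b : ℤ) : K)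
  rw [map_intCast]

theorem Hi_map (i : ℕ) : (Hi F i).map f = Hi K i := by
  ext a b
  rw [Matrix.map_apply, Hi, Hi, Matrix.diagonal_apply, Matrix.diagonal_apply]
  split_ifs
  · rw [map_intCast]
  · rw [map_zero]

theorem del_map (z : chevE7.Idx → F) : (del F z).map f = del K fun i => f (z i) := by
  ext a b
  rw [Matrix.map_apply, del_apply, del_apply, Matrix.add_apply, Matrix.add_apply, Matrix.sum_apply, Matrix.sum_apply,
    Matrix.sum_apply, Matrix.sum_apply, map_add, map_sum, map_sum]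
  congr 1
  · refine Finset.sum_congr rfl fun i _ => ?_
    rw [Matrix.smul_apply, Matrix.smul_apply, smul_eq_mul, smul_eq_mul, map_mul, ← Hi_map f, Matrix.map_apply]
  · refine Finset.sum_congr rfl fun i _ => ?_
    rw [Matrix.smul_apply, Matrix.smul_apply, smul_eq_mul, smul_eq_mul, map_mul, ← NM_map f, Matrix.map_apply]

theorem hq_map (N : Matrix D1 D1 F) (y : D1 → F) : f (hq N y) = hq (N.map f) fun i => f (y i) := by
  unfold hq
  rw [map_sum]
  refine Finset.sum_congr rfl fun a _ => ?_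
  rw [map_sum]
  refine Finset.sum_congr rfl fun b _ => ?_
  rw [JM_mul_apply, JM_mul_apply, Matrix.map_apply]
  split_ifs
  · rw [map_mul, map_mul, map_mul, map_intCast]
  · rw [map_zero]

/-- change of fields -/
theorem Mu_map (y : D1 → F) (z : chevE7.Idx → F) : Mu K (fun i => f (y i)) (fun j => f (z j)) = f (Mu F y z) := by
  rw [Mu_apply, Mu_apply, hq_map, del_map]

end map

section line
variable {K : Type u} [Field K]

theorem chW_op (l : Fin chevE7.rank → ℤ) (a : D1) : chW l (nn (op a)) = - chW l (nn a) := by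
  unfold chW
  rw [← Finset.sum_neg_distrib]
  exact Finset.sum_congr rfl fun i _ => by rw [cart_op i.2, neg_mul]

theorem chW_add (l : Fin chevE7.rank → ℤ) {r : ℕ} (hr : r < 126) {a b : D1} {c : ℤ} (h : mv r (nn b) = some (nn a, c)) :
    chW l (nn a) = chW l (nn b) + chR l r := by
  unfold chW chR
  rw [← Finset.sum_add_distrib]
  exact Finset.sum_congr rfl fun i _ => by rw [cart_add hr h i.2]; ring

private noncomputable def _root_.Cfsg.Agent.LsF.f2ba2c8_0 : {f // @Cfsg.Lie.ChevalleyDatum.cartan = f} := ⟨_, by first | (delta Cfsg.Lie.ChevalleyDatum.cartan; rewrite [Cfsg.Agent.LsF.agetD_eq]; exact rfl) | exact rfl⟩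
private noncomputable def _root_.Cfsg.Agent.LsF.f2ba2c8_1 : {f // @Cfsg.Agent.R2.T1.chR = f} := ⟨_, by first | (delta Cfsg.Agent.R2.T1.chR; rewrite [Cfsg.Agent.LsF.sumF_pat, Cfsg.Agent.LsF.f2ba2c8_0.2, Cfsg.Agent.LsF.iadd_pat, Cfsg.Agent.LsF.imul_pat, Cfsg.Agent.LsF.iACM_eq]; exact rfl) | exact rfl⟩
private noncomputable def _root_.Cfsg.Agent.LsF.f2ba2c8_2 : {f // @Cfsg.Agent.R2.T1.lTh = f} := ⟨_, by first | (delta Cfsg.Agent.R2.T1.lTh; rewrite [Cfsg.Agent.LsF.getD_eq]; exact rfl) | exact rfl⟩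
theorem chR_lTh : ∀ s < 126, chR lTh s = -2 → s = 0 := by (refine of_decide_eq_true ?_; (try (rewrite [Cfsg.Agent.LsF.f2ba2c8_1.2, Cfsg.Agent.LsF.f2ba2c8_2.2, Cfsg.Agent.LsF.ineg_pat, Cfsg.Agent.LsF.instDecEq_eq, Cfsg.Agent.LsF.instIDecEq_eq, Cfsg.Agent.LsF.dBallLT_eq, Cfsg.Agent.LsF.dAllP_eq, Cfsg.Agent.LsF.decide_eq])); decide +kernel)

/-- vectors supported on the weights with inner product 1 with the highest root -/
theorem Mu_supp {y : D1 → K} (hy : ∀ a, y a ≠ 0 → chW lTh (nn a) = 1) (z : chevE7.Idx → K) :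
    Mu K y z = z (Sum.inr ⟨0, by decide⟩) * Mu K y (er K 0 (by norm_num)) := by
  have hz : z = ∑ j, z j • (Pi.single j (1 : K) : chevE7.Idx → K) := by
    ext k
    simp [Finset.sum_apply, Pi.single_apply]
  have h1 : Mu K y z = ∑ j, z j * Mu K y (Pi.single j 1) := by
    conv_lhs => rw [hz]
    rw [map_sum]
    exact Finset.sum_congr rfl fun j _ => by rw [map_smul, smul_eq_mul]
  rw [h1, Finset.sum_eq_single (Sum.inr ⟨0, by decide⟩)]
  · rfl
  · intro j _ hj
    have h2 : Mu K y (Pi.single j 1) = 0 := by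
      rcases j with i | s
      · rw [Mu_apply, del_inl]
        refine hq_zero fun a b ha hb hab => ?_
        rw [JM_mul_apply, Hi, Matrix.diagonal_apply]
        by_cases h3 : op a = b
        · exfalso
          have h4 := hy a ha
          have h5 := hy b hb
          rw [← h3, chW_op, h4] at h5
          omega
        · rw [if_neg h3, mul_zero]
      · have hs : (s : ℕ) < 126 := s.2
        rw [Mu_apply, del_inr]
        refine hq_zero fun a b ha hb hab => ?_
        by_contra hne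
        obtain ⟨c, h3⟩ := JM_NM_ne hne
        have h4 := chW_add lTh hs h3
        rw [chW_op, hy a ha, hy b hb] at h4
        have h5 := chR_lTh s hs (by omega)
        apply hj
        congr 1
        exact Fin.ext h5
    rw [h2, mul_zero]
  · intro h; exact absurd (Finset.mem_univ _) h

theorem V_Phi_apply (a : Fin chevE7.rank → Kˣ) (y : D1 → K) (s : D1) : V K (Phi K a) y s = ((wt s a : Kˣ) : K) * y s := by
  rw [V_Phi, Matrix.toLin'_apply, Matrix.mulVec_diagonal]
  rfl

/-- **eigenvectors of the elements of order 3 with 32 fixed weights** -/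
theorem line {ζ : Kˣ} (hζ : IsPrimitiveRoot ζ 3) {x g : Gh K} (hg : Phi K (lam lTh ζ) = g * x * g⁻¹) {w : D1 → K}
    (hw : V K x w = (ζ : K) • w) (z : chevE7.Idx → K) :
    Mu K w z = L K g z (Sum.inr ⟨0, by decide⟩) * Mu K (V K g w) (er K 0 (by norm_num)) := by
  rw [← Mu_V g w z]
  refine Mu_supp (fun a ha => ?_) _
  have h1 : V K (Phi K (lam lTh ζ)) (V K g w) = (ζ : K) • V K g w := by
    rw [hg, V_mul, V_mul, V_inv, hw, map_smul]
  have h2 := congrFun h1 a
  rw [V_Phi_apply, wt_lam, Pi.smul_apply, smul_eq_mul] at h2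
  have h3 : ((ζ ^ chW lTh (nn a) : Kˣ) : K) = (ζ : K) := mul_right_cancel₀ ha h2
  have h4 : ζ ^ chW lTh (nn a) = ζ := Units.ext h3
  have h5 : ζ ^ (chW lTh (nn a) - 1) = 1 := by rw [_root_.zpow_sub_one, h4, mul_inv_cancel]
  rw [hζ.zpow_eq_one_iff_dvd] at h5
  rcases chW_lTh (nn a) (nn_lt a) (rt_nn a) with h6 | h6 | h6
  · rw [h6] at h5; norm_num at h5
  · exact h6
  · rw [h6] at h5; norm_num at h5

end line

section two
variable {F : Type u} [Field F]

/-- **characteristic 2, over a finite field** -/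
theorem line_F [Finite F] (h2 : (2 : F) = 0) {x : Gh F} (hx : x ^ 3 = 1) (h32 : ev (V F x) 1 = 32) :
    ∃ (ω : AlgebraicClosure F) (l : (chevE7.Idx → F) → AlgebraicClosure F), ω ^ 2 + ω + 1 = 0 ∧
      ∀ w : D1 → F, w + V F x w + V F x (V F x w) = 0 → ∃ q : AlgebraicClosure F, ∀ z,
        algebraMap F (AlgebraicClosure F) (Mu F w z) + ω * algebraMap F (AlgebraicClosure F) (Mu F (V F x w) z) +
          ω ^ 2 * algebraMap F (AlgebraicClosure F) (Mu F (V F x (V F x w)) z) = q * l z := by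
  have h3 : (3 : F) ≠ 0 := by
    intro h3
    have : (1 : F) = 0 := by linear_combination h3 - h2
    exact one_ne_zero this
  have h3' : ((3 : ℕ) : F) ≠ 0 := by exact_mod_cast h3
  obtain ⟨p, hpp, hp, hcop⟩ := exists_char h3'
  have hfr := frame p (by norm_num) hcop hx
  let K := AlgebraicClosure F
  let f : F →+* K := algebraMap F K
  have h2K : (2 : K) = 0 := by
    have h := congrArg f h2
    rwa [map_ofNat, map_zero] at h
  have h3K : ((3 : ℕ) : K) ≠ 0 := by
    have h := (map_ne_zero f).2 h3'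
    rwa [map_natCast] at h
  have : NeZero ((3 : ℕ) : K) := ⟨h3K⟩
  obtain ⟨ζ, hζ⟩ : ∃ ζ : K, IsPrimitiveRoot ζ 3 := HasEnoughRootsOfUnity.exists_primitiveRoot K 3
  obtain ⟨ζu, hζu⟩ : ∃ u : Kˣ, (u : K) = ζ := ⟨(hζ.isUnit (by norm_num)).unit, rfl⟩
  have hζ' : IsPrimitiveRoot ζu 3 := IsPrimitiveRoot.coe_units_iff.1 (by rw [hζu]; exact hζ)
  obtain ⟨g, hg⟩ := exists_lTh hζ' hfr (by rw [ev_V_one]; exact h32)
  have hω : ζ ^ 2 + ζ + 1 = 0 := by
    have h := hζ.geom_sum_eq_zero (by norm_num)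
    simp only [Finset.sum_range_succ, Finset.sum_range_zero, pow_zero, pow_one] at h
    linear_combination h
  have hω3 : ζ ^ 3 = 1 := hζ.pow_eq_one
  refine ⟨ζ, fun z => L K g (fun j => f (z j)) (Sum.inr ⟨0, by decide⟩), hω, fun w hw => ?_⟩
  -- the eigenvector
  set w0 : D1 → K := fun i => f (w i) with hw0
  set w1 : D1 → K := fun i => f (V F x w i) with hw1
  set w2 : D1 → K := fun i => f (V F x (V F x w) i) with hw2
  have e0 : V K (emb f x) w0 = w1 := V_emb f x w
  have e1 : V K (emb f x) w1 = w2 := V_emb f x _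
  have hneg : ∀ a : K, -a = a := fun a => by linear_combination (-a) * h2K
  have e2 : w2 = w0 + w1 := by
    funext i
    have h := congrArg f (congrFun hw i)
    rw [Pi.add_apply, Pi.add_apply, Pi.zero_apply, map_add, map_add, map_zero] at h
    rw [hw2, hw0, hw1, Pi.add_apply]
    dsimp only
    linear_combination h - (f (w i) + f (V F x w i)) * h2K
  set y : D1 → K := ζ ^ 2 • w0 + w1 with hy
  have hyx : V K (emb f x) y = ((ζu : Kˣ) : K) • y := by
    rw [hy, map_add, map_smul, e0, e1, e2, hζu]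
    funext i
    simp only [Pi.add_apply, Pi.smul_apply, smul_eq_mul]
    linear_combination (w1 i) * hω - (w0 i) * hω3 - (w1 i * ζ) * h2K
  refine ⟨Mu K (V K g y) (er K 0 (by norm_num)), fun z => ?_⟩
  have h4 := line hζ' hg hyx (fun j => f (z j))
  have h5 : Mu K y (fun j => f (z j)) = f (Mu F w z) + ζ * f (Mu F (V F x w) z) + ζ ^ 2 * f (Mu F (V F x (V F x w)) z) := by
    have m0 : Mu K w0 (fun j => f (z j)) = f (Mu F w z) := Mu_map f w z
    have m1 : Mu K w1 (fun j => f (z j)) = f (Mu F (V F x w) z) := Mu_map f _ z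
    have m2 : Mu K w2 (fun j => f (z j)) = f (Mu F (V F x (V F x w)) z) := Mu_map f _ z
    have m3 := Mu_add w0 w1 (fun j => f (z j))
    rw [← e2, m0, m1, m2] at m3
    rw [hy, Mu_add, Mu_smul, LinearMap.smul_apply, m0, m1, smul_eq_mul, Matrix.mulVec_smul, map_smul, smul_eq_mul]
    linear_combination (-(ζ ^ 2)) * m3 + (ζ * f (Mu F w z)) * hω3 - (f (Mu F w z) + f (Mu F (V F x w) z)) * hω +
      (ζ * f (Mu F w z) + f (Mu F (V F x w) z)) * h2K
  have h6 := h5.symm.trans h4
  refine h6.trans ?_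
  exact mul_comm _ _

end two

end Cfsg.Agent.R2.T1.Mu2
end

-- part: R2/T1/Five/Setup
section
prune_inst 0x10000000000000
set_option linter.all false
open scoped Cfsg.Agent.FastGrp

/-!
# Lifts of the generators of `A₅` (helper25)

* `setup` : lifts `x`, `y` of the generators with `y ^ 3 = 1`, `(x y) ^ 5 = 1`;
* `stab_of` : a subspace stable under `x` and `y` is stable under the preimage of the image of `φ`;
* `scottL`, `scottV` : Scott's lemma on the two modules;
* `small_false` : no stable subspace of dimension ≤ 2.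
-/

set_option autoImplicit false
set_option linter.unusedSectionVars false
set_option maxRecDepth 100000

namespace Cfsg.Agent.R2.T1.Five

open Cfsg Cfsg.Lie Module Equiv Equiv.Perm
open Cfsg.Agent.H943.E7V.Block (D1 rho)
open Cfsg.Agent.H952.F4 (ev es MaxAlt)
open Cfsg.Agent.R2.T1

universe u

section

variable {F : Type u} [Field F] [Finite F] {H : Subgroup ↥(chevE7.group F)} {φ : A5 →* ↥(chevE7.group F)}

/-- lifts of the generators -/
theorem setup (hM : MaxAlt H 5 φ) : ∃ x y : Gh F, ad F x = φ a0 ∧ ad F y = φ b0 ∧ y ^ 3 = 1 ∧ (x * y) ^ 5 = 1 ∧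
    ((∃ ψ : A5 →* Gh F, Lift φ ψ ∧ ψ a0 = x ∧ ψ b0 = y) ∨ ((2 : F) ≠ 0 ∧ Cover φ ∧ V F (x * x) = -1)) := by
  rcases exists_lift (F := F) (by norm_num : 5 ≤ 5) hM.inj with ⟨ψ, hψ⟩ | ⟨h2, hc⟩
  · refine ⟨ψ a0, ψ b0, hψ a0, hψ b0, ?_, ?_, Or.inl ⟨ψ, hψ, rfl, rfl⟩⟩
    · rw [← map_pow, b0_cube, map_one]
    · rw [← map_mul, ← map_pow]
      show ψ (w0 ^ 5) = 1
      rw [w0_pow, map_one]
  · obtain ⟨y, hy, hy3⟩ := odd_lift (F := F) (g := φ b0) (k := 3) (by decide) (by rw [← map_pow, b0_cube, map_one])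
    obtain ⟨x, hx⟩ := ad_surjective (φ a0)
    obtain ⟨z, -, hz, hz1, -⟩ := id hc
    have hc' : Cover φ := hc
    have hzV : V F z = -1 := neg_of hz
    have h5 : ad F ((x * y) ^ 5) = 1 := by
      rw [map_pow, map_mul, hx, hy, ← map_mul, ← map_pow]
      show φ (w0 ^ 5) = 1
      rw [w0_pow, map_one]
    rcases ker_cases hzV h5 with h | h
    · exact ⟨x, y, hx, hy, hy3, h, Or.inr ⟨h2, hc', hc'.sq (by norm_num) hM.inj a0_type hx⟩⟩
    · have hx' : ad F (z * x) = φ a0 := by rw [map_mul, hz1, one_mul, hx]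
      refine ⟨z * x, y, hx', hy, hy3, ?_, Or.inr ⟨h2, hc', hc'.sq (by norm_num) hM.inj a0_type hx'⟩⟩
      have hcomm : Commute z (x * y) := (ker_comm hz1 (x * y)).symm
      have hz2 : z * z = 1 := ker_sq hz1
      rw [mul_assoc, hcomm.mul_pow, h]
      have : z ^ 5 * z = (z * z) * (z * z) * (z * z) := by
        rw [pow_succ, pow_succ, pow_succ, pow_succ, pow_one]; group
      rw [this, hz2, mul_one, mul_one]

/-- stability -/
theorem stab_of {x y : Gh F} (hx : ad F x = φ a0) (hy : ad F y = φ b0) {U : Submodule F (D1 → F)}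
    (h1 : ∀ u ∈ U, V F x u ∈ U) (h2 : ∀ u ∈ U, V F y u ∈ U) : Stab (V F) φ.range U := by
  rintro g ⟨a, ha⟩
  have key : ∃ g' ∈ St (V F) U, ad F g' = φ a := by
    have h3 : φ a ∈ (St (V F) U).map (ad F) := by
      have h4 : (⊤ : Subgroup A5) ≤ ((St (V F) U).map (ad F)).comap φ := by
        rw [← clos, Subgroup.closure_le]
        rintro z (rfl | rfl)
        · exact ⟨x, mem_St_of h1, hx⟩
        · exact ⟨y, mem_St_of h2, hy⟩
      exact h4 (Subgroup.mem_top a)
    obtain ⟨g', h5, h6⟩ := h3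
    exact ⟨g', h5, h6⟩
  obtain ⟨g', h3, h4⟩ := key
  have h5 : ad F (g * g'⁻¹) = 1 := by rw [map_mul, map_inv, h4, ha, mul_inv_cancel]
  intro u hu
  have h6 : V F g u = V F (g * g'⁻¹) (V F g' u) := by rw [← V_mul, inv_mul_cancel_right]
  rw [h6]
  have h7 : V F g' u ∈ U := (h3 u).2 hu
  rcases ad_eq_one_iff.1 h5 with h8 | h8
  · rw [h8]; exact h7
  · rw [h8]; exact U.neg_mem h7

/-- no stable subspace of dimension at most 2 if `H` is the image of `φ` -/
theorem small_false (hM : MaxAlt H 5 φ) (hH : H = φ.range) {x y : Gh F} (hx : ad F x = φ a0) (hy : ad F y = φ b0)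
    {U : Submodule F (D1 → F)} (h0 : U ≠ ⊥) (hU : finrank F ↥U ≤ 2)
    (h1 : ∀ u ∈ U, V F x u ∈ U) (h2 : ∀ u ∈ U, V F y u ∈ U) : False := by
  have h3 : Stab (V F) H U := by rw [hH]; exact stab_of hx hy h1 h2
  have h4 := three_le hM (by norm_num) (Or.inr (by norm_num)) h3 h0
  omega

/-- Scott's lemma on the adjoint module -/
theorem scottL (h2 : (2 : F) ≠ 0) {x y : Gh F} (hx : ad F x = φ a0) (hy : ad F y = φ b0) :
    ev (L F x) 1 + ev (L F y) 1 + ev (L F (x * y)) 1 ≤
      133 + 2 * finrank F ↥(Representation.invariants (MonoidHom.comp (LK F) φ)) := by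
  have h := Cfsg.Agent.H952.F4.Scott.scott_form (MonoidHom.comp (LK F) φ) (x := a0) (y := b0) clos (kf F)
    (fun v hv => kf_nondeg h2 fun w => by rw [kf_comm]; exact hv w) (fun g v w => by
      obtain ⟨g', hg'⟩ := ad_surjective (φ g)
      have h3 := kf_L g' v w
      rw [L_eq, hg'] at h3
      exact h3)
  rw [finrank_L] at h
  have e1 : ev ((MonoidHom.comp (LK F) φ) a0) 1 = ev (L F x) 1 := by rw [L_eq, hx]; rfl
  have e2 : ev ((MonoidHom.comp (LK F) φ) b0) 1 = ev (L F y) 1 := by rw [L_eq, hy]; rfl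
  have e3 : ev ((MonoidHom.comp (LK F) φ) (a0 * b0)) 1 = ev (L F (x * y)) 1 := by
    rw [L_eq, map_mul (ad F), hx, hy, ← map_mul φ]; rfl
  rw [e1, e2, e3] at h
  exact h

/-- Scott's lemma on the module of degree 56 -/
theorem scottV {ψ : A5 →* Gh F} (hψ : Lift φ ψ) (hM : MaxAlt H 5 φ) :
    ev (V F (ψ a0)) 1 + ev (V F (ψ b0)) 1 + ev (V F (ψ a0 * ψ b0)) 1 ≤ 56 := by
  have h := Cfsg.Agent.H952.F4.Scott.scott_form (MonoidHom.comp (V F) ψ) (x := a0) (y := b0) clos (sf F)
    (fun v hv => sf_nondeg' hv) (fun g v w => sf_V _ v w)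
  rw [finrank_V, no_fixed hM (by norm_num) (by norm_num) hψ, finrank_bot, mul_zero, add_zero] at h
  have e3 : ev ((MonoidHom.comp (V F) ψ) (a0 * b0)) 1 = ev (V F (ψ a0 * ψ b0)) 1 := by
    rw [← map_mul]; rfl
  rw [e3] at h
  exact h

/-- twisted Scott lemma -/
theorem tw_small {x y : Gh F} {τ : F} (hτ : τ * τ + τ - 1 = 0) (hx2 : V F (x * x) = -1)
    (h : 56 < finrank F ↥(LinearMap.ker (qd (-1) (V F y))) + finrank F ↥(LinearMap.ker (qd τ (V F (x * y))))) :
    ∃ U : Submodule F (D1 → F), U ≠ ⊥ ∧ finrank F ↥U ≤ 2 ∧ (∀ u ∈ U, V F x u ∈ U) ∧ (∀ u ∈ U, V F y u ∈ U) := by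
  refine exists_small (V F) (sf F) (fun v hv => sf_nondeg' hv) (fun g v w => sf_V g v w) hτ ?_
  rw [ker_qd_sq (T := V F x) (by rw [← map_mul, hx2]), finrank_V]
  omega

end

end Cfsg.Agent.R2.T1.Five
end

-- part: R2/T1/Five/CaseII
section
prune_inst 0x4003100000000000592030000444000000200400000c8800906010000620902a0409e000000000280002008000810000010400000000000040000010120908052023300a004260097000080000000000000000000000000000000010004000000000
set_option linter.all false
open scoped Cfsg.Agent.FastGrp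

/-!
# `n = 5`, characteristic different from 5 (helper25)

* `few_false` : few fixed vectors on the adjoint module;
* `rational` : elements of order 5 conjugate to their squares;
* `not_five` : no maximal `A₅`, `S₅` if `(5 : F) ≠ 0`.
-/

set_option autoImplicit false
set_option linter.unusedSectionVars false
set_option maxRecDepth 100000

namespace Cfsg.Agent.R2.T1.Five

open Cfsg Cfsg.Lie Module Equiv Equiv.Perm
open Cfsg.Agent.H943.E7V.Block (D1 rho)
open Cfsg.Agent.H952.F4 (ev es MaxAlt)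
open Cfsg.Agent.R2.T1

universe u

section

variable {F : Type u} [Field F] [Finite F] {H : Subgroup ↥(chevE7.group F)} {φ : A5 →* ↥(chevE7.group F)}

theorem three_le_card (h2 : (2 : F) ≠ 0) : 3 ≤ Nat.card F := by
  have h := two_le_card (F := F)
  rcases Nat.lt_or_ge (Nat.card F) 3 with h3 | h3
  · exfalso
    have h4 : Nat.card F = 2 := by omega
    apply h2
    have := Fintype.ofFinite F
    have h5 : ((Fintype.card F : ℕ) : F) = 0 := FiniteField.cast_card_eq_zero F
    rw [← Nat.card_eq_fintype_card, h4] at h5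
    exact_mod_cast h5
  · exact h3

/-- few fixed vectors -/
theorem few_false (h2 : (2 : F) ≠ 0) (hM : MaxAlt H 5 φ) {m : ℕ} (hq : 274 ≤ Nat.card F ^ m)
    (hm : ∀ k l : ℕ, k + l = finrank F ↥(Representation.invariants (MonoidHom.comp (LK F) φ)) → (H = φ.range → l = 0) →
      m ≤ k ∨ m ≤ l) : False := by
  obtain ⟨k, l, h1, h3, h4⟩ := few h2 hM rfl
  have h5 := order_ge3 (F := F) (three_le_card h2)
  have h6 : Nat.card ↥H ≤ 120 := by
    have h := hM.card
    rw [if_neg (by norm_num)] at h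
    exact h
  have hq0 : 0 < Nat.card F := by have := two_le_card (F := F); omega
  have h7 : 273 ≤ (Nat.card F ^ k - 1) + (Nat.card F ^ l - 1) := by
    rcases hm k l h1 h3 with h | h
    · have := Nat.pow_le_pow_right hq0 h
      omega
    · have := Nat.pow_le_pow_right hq0 h
      omega
  set Q := Nat.card F ^ 133 with hQ
  set N := (Nat.card F ^ k - 1) + (Nat.card F ^ l - 1) with hN
  have hQ1 : 0 < Q := Nat.pow_pos hq0
  have h8 : Nat.card ↥H * (Q - 1) ≤ 120 * (Q - 1) := Nat.mul_le_mul_right _ h6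
  have h9 : 273 * Nat.card ↥(chevE7.group F) ≤ N * Nat.card ↥(chevE7.group F) := Nat.mul_le_mul_right _ h7
  omega

theorem few_range (h2 : (2 : F) ≠ 0) (hM : MaxAlt H 5 φ) (hH : H = φ.range) (hq : 7 ≤ Nat.card F)
    (hd : 3 ≤ finrank F ↥(Representation.invariants (MonoidHom.comp (LK F) φ))) : False := by
  refine few_false h2 hM (m := 3) ?_ fun k l h1 h3 => ?_
  · calc 274 ≤ 7 ^ 3 := by norm_num
      _ ≤ _ := Nat.pow_le_pow_left hq 3
  · left
    have := h3 hH
    omega

theorem few_twelve (h2 : (2 : F) ≠ 0) (hM : MaxAlt H 5 φ)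
    (hd : 12 ≤ finrank F ↥(Representation.invariants (MonoidHom.comp (LK F) φ))) : False := by
  refine few_false h2 hM (m := 6) ?_ fun k l h1 h3 => by omega
  calc 274 ≤ 3 ^ 6 := by norm_num
    _ ≤ _ := Nat.pow_le_pow_left (three_le_card h2) 6

/-- fields of odd characteristic different from 5 containing the golden ratio -/
theorem seven_le (h2 : (2 : F) ≠ 0) (h5 : (5 : F) ≠ 0) {τ : F} (hτ : τ * τ + τ - 1 = 0) : 7 ≤ Nat.card F := by
  have := Fintype.ofFinite F
  have hc : ((Nat.card F : ℕ) : F) = 0 := by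
    rw [Nat.card_eq_fintype_card]; exact FiniteField.cast_card_eq_zero F
  have hp : τ ^ Nat.card F = τ := by rw [Nat.card_eq_fintype_card]; exact FiniteField.pow_card τ
  have h3 := three_le_card h2
  by_contra hlt
  have h4 : Nat.card F = 3 ∨ Nat.card F = 4 ∨ Nat.card F = 5 ∨ Nat.card F = 6 := by omega
  rcases h4 with h | h | h | h
  · rw [h] at hp
    have h6 : τ ^ 3 = 2 * τ - 1 := by linear_combination (τ - 1) * hτ
    rw [h6] at hp
    have h7 : τ = 1 := by linear_combination hp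
    rw [h7] at hτ
    apply one_ne_zero (α := F)
    linear_combination hτ
  · rw [h] at hc
    have h6 : (2 : F) * 2 = 0 := by rw [← hc]; push_cast; ring
    exact h2 (mul_self_eq_zero.1 h6)
  · rw [h] at hc
    apply h5
    rw [← hc]; push_cast; rfl
  · rw [h] at hc hp
    have h6 : (2 : F) * 3 = 0 := by rw [← hc]; push_cast; ring
    have h7 : (3 : F) = 0 := (mul_eq_zero.1 h6).resolve_left h2
    have h8 : τ ^ 6 = 5 - 8 * τ := by linear_combination (τ ^ 4 - τ ^ 3 + 2 * τ ^ 2 - 3 * τ + 5) * hτ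
    rw [h8] at hp
    have h9 : (2 : F) = 0 := by linear_combination hp + (3 * τ - 1) * h7
    exact h2 h9

theorem y_ne (hM : MaxAlt H 5 φ) {y : Gh F} (hy : ad F y = φ b0) : y ≠ 1 := by
  rintro rfl
  rw [map_one] at hy
  exact b0_ne (hM.inj (by rw [← hy, map_one]))

theorem x_ne (hM : MaxAlt H 5 φ) {x : Gh F} (hx : ad F x = φ a0) : ad F x ≠ 1 := by
  intro h
  rw [hx] at h
  exact a0_ne (hM.inj (by rw [h, map_one]))

theorem w_ne (hM : MaxAlt H 5 φ) {x y : Gh F} (hx : ad F x = φ a0) (hy : ad F y = φ b0) : x * y ≠ 1 := by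
  intro h
  have h1 : ad F (x * y) = 1 := by rw [h, map_one]
  rw [map_mul, hx, hy, ← map_mul] at h1
  exact w0_ne (hM.inj (h1.trans (map_one φ).symm))

/-- **the elements of order 5 are not rational** -/
theorem caseII (hM : MaxAlt H 5 φ) (h5 : (5 : F) ≠ 0) (hH : H = φ.range) {x y : Gh F} (hx : ad F x = φ a0)
    (hy : ad F y = φ b0) (hy3 : y ^ 3 = 1)
    (hc : (∃ ψ : A5 →* Gh F, Lift φ ψ ∧ ψ a0 = x ∧ ψ b0 = y) ∨ ((2 : F) ≠ 0 ∧ Cover φ ∧ V F (x * x) = -1))
    {τ : F} (hτ : τ * τ + τ - 1 = 0) (h24 : 24 ≤ finrank F ↥(LinearMap.ker (qd τ (V F (x * y)))))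
    (h27 : 27 ≤ ev (L F (x * y)) 1) : False := by
  have small : V F (x * x) = -1 → 33 ≤ finrank F ↥(LinearMap.ker (qd (-1) (V F y))) → False := by
    intro h h'
    obtain ⟨U, u1, u2, u3, u4⟩ := tw_small (x := x) (y := y) hτ h (by omega)
    exact small_false hM hH hx hy u1 u2 u3 u4
  have hcube : (3 : F) ≠ 0 → finrank F ↥(LinearMap.ker (qd (-1) (V F y))) + ev (V F y) 1 = 56 := by
    intro h3
    rw [← finrank_V (F := F)]
    exact ker_qd_cube h3 (by rw [← map_pow, hy3, map_one])
  by_cases h2 : (2 : F) = 0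
  · rcases hc with ⟨ψ, hψ, rfl, rfl⟩ | ⟨h, -⟩
    swap
    · exact h h2
    have h3 : (3 : F) ≠ 0 := by
      intro h3
      apply one_ne_zero (α := F)
      linear_combination h3 - h2
    have hx2 : ψ a0 * ψ a0 = 1 := by rw [← map_mul, a0_sq, map_one]
    have hneg : V F (ψ a0 * ψ a0) = -1 := by
      rw [hx2, map_one]
      refine LinearMap.ext fun v => ?_
      show v = -v
      have : (2 : F) • v = 0 := by rw [h2, zero_smul]
      rw [two_smul] at this
      exact eq_neg_of_add_eq_zero_left this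
    have hch : CharP F 2 := CharTwo.of_one_ne_zero_of_two_eq_zero one_ne_zero h2
    have h28 : 28 ≤ ev (V F (ψ a0)) 1 := by
      have h6 := ev_ge (p := 2) (T := V F (ψ a0)) (by rw [pow_two, ← map_mul, hx2, map_one])
      rw [finrank_V] at h6
      omega
    have hV := scottV hψ hM
    have hs := hcube h3
    rcases three h3 hy3 (y_ne hM hy) with h | h | h | h | h
    all_goals first | (exact small hneg (by omega)) | omega
  · have scott := scottL h2 hx hy
    have h7 := seven_le h2 h5 hτ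
    have hy1 := y_ne hM hy
    by_cases h3 : (3 : F) = 0
    · have hch : CharP F 3 := by
        obtain ⟨p, hp⟩ := CharP.exists F
        have hpp : p.Prime := CharP.char_is_prime F p
        have h8 : p ∣ 3 := (CharP.cast_eq_zero_iff F p 3).1 (by exact_mod_cast h3)
        rwa [(Nat.prime_dvd_prime_iff_eq hpp Nat.prime_three).1 h8] at hp
      have : Fact (Nat.Prime 3) := ⟨Nat.prime_three⟩
      rcases hc with ⟨ψ, hψ, rfl, rfl⟩ | ⟨-, -, hx2⟩
      · have h8 := two h2 (x := ψ a0) (by rw [← map_mul, a0_sq, map_one]) (x_ne hM hx)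
        have h9 := ev_ge (p := 3) (T := L F (ψ b0)) (by rw [← map_pow, hy3, map_one])
        rw [finrank_L] at h9
        exact few_range h2 hM hH h7 (by omega)
      · have h9 := qd2_ge (p := 3) (T := V F y) (by rw [← map_pow, hy3, map_one])
        rw [finrank_V, show (2 : F) = -1 by linear_combination h3] at h9
        exact small hx2 (by omega)
    · have hs := hcube h3
      rcases hc with ⟨ψ, hψ, rfl, rfl⟩ | ⟨-, -, hx2⟩
      · have h8 := two h2 (x := ψ a0) (by rw [← map_mul, a0_sq, map_one]) (x_ne hM hx)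
        have h9 : 43 ≤ ev (L F (ψ b0)) 1 := by
          rcases three h3 hy3 hy1 with h | h | h | h | h <;> omega
        exact few_range h2 hM hH h7 (by omega)
      · have h8 := four h2 hx2
        rcases three h3 hy3 hy1 with h | h | h | h | h
        · exact small hx2 (by omega)
        · exact few_range h2 hM hH h7 (by omega)
        · exact small hx2 (by omega)
        · exact small hx2 (by omega)
        · exact small hx2 (by omega)

/-- **the elements of order 5 are rational** -/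
theorem caseI (hM : MaxAlt H 5 φ) (h5 : (5 : F) ≠ 0) {x y : Gh F} (hx : ad F x = φ a0)
    (hy : ad F y = φ b0) (hy3 : y ^ 3 = 1) (hw5 : (x * y) ^ 5 = 1)
    (hc : (∃ ψ : A5 →* Gh F, Lift φ ψ ∧ ψ a0 = x ∧ ψ b0 = y) ∨ ((2 : F) ≠ 0 ∧ Cover φ ∧ V F (x * x) = -1))
    (h16 : ev (V F (x * y)) 1 = 16) (h33 : ev (L F (x * y)) 1 = 33) : False := by
  by_cases h2 : (2 : F) = 0
  · rcases hc with ⟨ψ, hψ, rfl, rfl⟩ | ⟨h, -⟩
    swap
    · exact h h2
    have h3 : (3 : F) ≠ 0 := by
      intro h3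
      apply one_ne_zero (α := F)
      linear_combination h3 - h2
    have hx2 : ψ a0 * ψ a0 = 1 := by rw [← map_mul, a0_sq, map_one]
    have hch : CharP F 2 := CharTwo.of_one_ne_zero_of_two_eq_zero one_ne_zero h2
    have h28 : 28 ≤ ev (V F (ψ a0)) 1 := by
      have h6 := ev_ge (p := 2) (T := V F (ψ a0)) (by rw [pow_two, ← map_mul, hx2, map_one])
      rw [finrank_V] at h6
      omega
    have hV := scottV hψ hM
    have hz : orderOf w0 = 5 := orderOf_eq_prime w0_pow w0_ne
    have ht : orderOf b0 = 3 := orderOf_eq_prime b0_cube b0_ne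
    have h53 := Cfsg.Agent.H952.F4.AFive.five_le_three (MonoidHom.comp (V F) ψ) hz ht ⊥ ⊤ bot_le
      (fun g v hv => by rw [Submodule.mem_bot] at hv ⊢; rw [hv, map_zero]) (fun _ _ _ => Submodule.mem_top)
    rw [inf_top_eq, inf_bot_eq, inf_bot_eq, inf_top_eq, finrank_bot, add_zero, zero_add] at h53
    have e1 : finrank F ↥(es ((MonoidHom.comp (V F) ψ) w0) 1) = 16 := by
      rw [← h16, ← map_mul]; rfl
    have e2 : finrank F ↥(es ((MonoidHom.comp (V F) ψ) b0) 1) = ev (V F (ψ b0)) 1 := rfl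
    rw [e1, e2] at h53
    omega
  · have scott := scottL h2 hx hy
    have hinv := no_inv h2 h5 (irrL h2) hM hw5 (by rw [map_mul, hx, hy, ← map_mul]; rfl) h16
    rw [hinv, finrank_bot] at scott
    have hy1 := y_ne hM hy
    have h63 : 63 ≤ ev (L F x) 1 := by
      rcases hc with ⟨ψ, hψ, rfl, rfl⟩ | ⟨-, -, hx2⟩
      · have h8 := two h2 (x := ψ a0) (by rw [← map_mul, a0_sq, map_one]) (x_ne hM hx)
        omega
      · have h8 := four h2 hx2
        omega
    have h43 : 43 ≤ ev (L F y) 1 := by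
      by_cases h3 : (3 : F) = 0
      · have hch : CharP F 3 := by
          obtain ⟨p, hp⟩ := CharP.exists F
          have hpp : p.Prime := CharP.char_is_prime F p
          have h8 : p ∣ 3 := (CharP.cast_eq_zero_iff F p 3).1 (by exact_mod_cast h3)
          rwa [(Nat.prime_dvd_prime_iff_eq hpp Nat.prime_three).1 h8] at hp
        have : Fact (Nat.Prime 3) := ⟨Nat.prime_three⟩
        have h9 := ev_ge (p := 3) (T := L F y) (by rw [← map_pow, hy3, map_one])
        rw [finrank_L] at h9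
        omega
      · rcases three h3 hy3 hy1 with h | h | h | h | h <;> omega
    omega

theorem es_pow_le {V : Type*} [AddCommGroup V] [Module F V] [FiniteDimensional F V] {K : Type*} [Field K]
    {W : Type*} [AddCommGroup W] [Module K W] [FiniteDimensional K W] (T : Module.End K W) (a : K) (k : ℕ) :
    ev T a ≤ ev (T ^ k) (a ^ k) := by
  apply Submodule.finrank_mono
  intro v hv
  rw [Module.End.mem_eigenspace_iff] at hv ⊢
  induction k with
  | zero => rw [pow_zero, pow_zero, one_smul]; rfl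
  | succ k ih => rw [pow_succ', Module.End.mul_apply, ih, map_smul, hv, smul_smul, pow_succ]

/-- elements of order 5 which are conjugate to their squares -/
theorem rational (h5 : (5 : F) ≠ 0) {w g : Gh F} (hw : w ^ 5 = 1) (hw1 : w ≠ 1) (hg : g * w * g⁻¹ = w ^ 2) :
    ev (V F w) 1 = 16 ∧ ev (L F w) 1 = 33 := by
  obtain ⟨p, hpp, hp, hcop⟩ := exists_char (F := F) (N := 5) (by exact_mod_cast h5)
  obtain ⟨ζ, hζ, P, hP, h6⟩ := pat chk5 (by norm_num) p hcop hw
  set f := algebraMap F (AlgebraicClosure F) with hf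
  have hconj : ∀ μ, ev (V (AlgebraicClosure F) (emb f w ^ 2)) μ = ev (V (AlgebraicClosure F) (emb f w)) μ := by
    intro μ
    have h7 : emb f w ^ 2 = emb f g * emb f w * (emb f g)⁻¹ := by
      rw [← map_pow, ← hg, map_mul, map_mul, map_inv]
    have h8 : ∀ g w : Gh (AlgebraicClosure F), ev (V (AlgebraicClosure F) w) μ ≤ ev (V (AlgebraicClosure F) (g * w * g⁻¹)) μ := by
      intro g w
      let e : (D1 → AlgebraicClosure F) →ₗ[AlgebraicClosure F] (D1 → AlgebraicClosure F) := V (AlgebraicClosure F) g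
      have he : Function.Injective e := by
        intro a b hab
        rw [← V_inv g a, ← V_inv g b]
        exact congrArg _ hab
      have h9 : (es (V (AlgebraicClosure F) w) μ).map e ≤ es (V (AlgebraicClosure F) (g * w * g⁻¹)) μ := by
        rintro _ ⟨v, hv, rfl⟩
        have hv' := Module.End.mem_eigenspace_iff.1 hv
        refine Module.End.mem_eigenspace_iff.2 ?_
        show V (AlgebraicClosure F) (g * w * g⁻¹) (V (AlgebraicClosure F) g v) = μ • V (AlgebraicClosure F) g v
        rw [← V_mul, inv_mul_cancel_right, V_mul, hv', map_smul]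
      have h10 := Submodule.finrank_mono h9
      rwa [(Submodule.equivMapOfInjective e he _).finrank_eq.symm] at h10
    apply le_antisymm
    · have h9 := h8 (emb f g)⁻¹ (emb f w ^ 2)
      rw [h7] at h9
      have e : (emb f g)⁻¹ * (emb f g * emb f w * (emb f g)⁻¹) * (emb f g)⁻¹⁻¹ = emb f w := by group
      rw [e] at h9
      rwa [h7]
    · rw [h7]; exact h8 _ _
  have h12 : ev (V (AlgebraicClosure F) (emb f w)) ζ = ev (V (AlgebraicClosure F) (emb f w)) (ζ ^ 2) := by
    apply le_antisymm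
    · have h7 := es_pow_le (F := F) (V := F) (V (AlgebraicClosure F) (emb f w)) ζ 2
      rw [← map_pow, hconj] at h7
      exact h7
    · have h7 := es_pow_le (F := F) (V := F) (V (AlgebraicClosure F) (emb f w ^ 2)) (ζ ^ 2) 3
      rw [hconj, ← map_pow, ← pow_mul, ← pow_mul] at h7
      have e1 : emb f w ^ (2 * 3) = emb f w := by
        have : emb f w ^ 5 = 1 := by rw [← map_pow, hw, map_one]
        rw [show 2 * 3 = 5 + 1 by norm_num, pow_succ, this, one_mul]
      have e2 : ζ ^ (2 * 3) = ζ := by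
        rw [show 2 * 3 = 5 + 1 by norm_num, pow_succ, hζ.pow_eq_one, one_mul]
      rwa [e1, e2] at h7
  have e1 := (h6 1 (by norm_num)).1
  have e2 := (h6 2 (by norm_num)).1
  rw [pow_one] at e1
  have h0 := h6 0 (by norm_num)
  rw [pow_zero, ev_V_one, ev_L_one] at h0
  have key : ∀ P ∈ T5, P.1.getD 1 0 = P.1.getD 2 0 → P.1.getD 0 0 = 56 ∨ (P.1.getD 0 0 = 16 ∧ P.2.getD 0 0 = 33) := by
    decide
  rcases key P hP (by rw [← e1, ← e2, h12]) with h | ⟨h, h'⟩
  · rw [h] at h0
    exact absurd (eq_one_of_ev h0.1) hw1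
  · exact ⟨h0.1.trans h, h0.2.trans h'⟩

/-- **characteristic different from 5** -/
theorem not_five (hM : MaxAlt H 5 φ) (h5 : (5 : F) ≠ 0) : False := by
  obtain ⟨x, y, hx, hy, hy3, hw5, hc⟩ := setup hM
  have hw1 := w_ne hM hx hy
  have hw : ad F (x * y) = φ w0 := by rw [map_mul, hx, hy, ← map_mul]; rfl
  rcases hM.five rfl with hH | hrat
  · rcases five h5 hw5 hw1 with ⟨h16, h33⟩ | ⟨τ, hτ, h24, h27⟩
    · exact caseI hM h5 hx hy hy3 hw5 hc h16 h33
    · exact caseII hM h5 hH hx hy hy3 hc hτ h24 h27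
  · obtain ⟨h, -, hh⟩ := hrat (φ w0) ⟨w0, rfl⟩ (fun h => w0_ne (hM.inj (by rw [h, map_one]))) (by
      rw [← map_pow, w0_pow, map_one])
    obtain ⟨g, rfl⟩ := ad_surjective h
    have h6 : g * (x * y) * g⁻¹ = (x * y) ^ 2 := by
      apply odd_unique (k := 5) (by decide)
      · rw [map_mul, map_mul, map_inv, hw, hh, map_pow, hw]
      · rw [conj_pow, hw5, mul_one, mul_inv_cancel]
      · rw [← pow_mul, mul_comm, pow_mul, hw5, one_pow]
    obtain ⟨h16, h33⟩ := rational h5 hw5 hw1 h6
    exact caseI hM h5 hx hy hy3 hw5 hc h16 h33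

end

end Cfsg.Agent.R2.T1.Five
end

-- part: R2/T1/T1p/Base
section
prune_inst 0x400210000000000059203000040080000020040000008c00004014040620906a0419600100000088c002000000811000010420000000a0004000001012090825202b308a004260097800000000000000000000000000000000000010004000000000
set_option linter.all false
open scoped Cfsg.Agent.FastGrp

/-!
# T1 (S5771, p = 2, n = 8): the fixed space of `A_6` and its translates (helper24)

* `US ψ` : the fixed space of the stabilizer of the points 6, 7; `dim_US : 6 ≤ finrank F (US ψ)`;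
* `W ψ u i j` : the translates of `u ∈ US ψ`; `tri`, `W_symm`;
* `exists_U0` : a subspace of dimension at least 3 on which the elements of `H` act as elements of `A_8`.
-/

set_option autoImplicit false
set_option maxRecDepth 100000

namespace Cfsg.Agent.R2.T1.T1p

open Cfsg Cfsg.Lie Module Equiv Equiv.Perm
open Cfsg.Agent.H943.E7V.Block (D1 rho)
open Cfsg.Agent.H952.F4 (ev es MaxAlt)
open Cfsg.Agent.H251.E6 (type_up up_last upP_apply coe_up)
open Cfsg.Agent.R2.T1

universe u

/-- the alternating group of degree 8 -/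
abbrev A8 : Type := ↥(alternatingGroup (Fin 8))

variable {F : Type u} [Field F]

theorem fixed_of_ev_zero {T : Module.End F (D1 → F)} (h : ev T 1 = 0) {v : D1 → F} (hv : T v = v) : v = 0 := by
  have h1 : Module.End.eigenspace T 1 = ⊥ := Submodule.finrank_eq_zero.1 h
  have h2 : v ∈ Module.End.eigenspace T 1 := by rw [Module.End.mem_eigenspace_iff, one_smul]; exact hv
  rw [h1] at h2
  exact (Submodule.mem_bot F).1 h2

section US
variable (ψ : A8 →* Gh F)

/-- the vectors fixed by the stabilizer of 6 and 7 -/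
def US : Submodule F (D1 → F) where
  carrier := {v | ∀ a : A8, (a : Perm (Fin 8)) 6 = 6 → (a : Perm (Fin 8)) 7 = 7 → V F (ψ a) v = v}
  add_mem' := by
    intro v w hv hw a h6 h7
    rw [map_add, hv a h6 h7, hw a h6 h7]
  zero_mem' := by
    intro a _ _
    rw [map_zero]
  smul_mem' := by
    intro c v hv a h6 h7
    rw [map_smul, hv a h6 h7]

variable {ψ}

theorem dim_US (h3 : ∀ a : A8, (a : Perm (Fin 8)).cycleType = {3} → ev (V F (ψ a)) 1 = 32)
    (h33 : ∀ a : A8, (a : Perm (Fin 8)).cycleType = {3, 3} → ev (V F (ψ a)) 1 = 20)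
    (h5 : ∀ a : A8, (a : Perm (Fin 8)).cycleType = {5} → ev (V F (ψ a)) 1 = 16) : 6 ≤ finrank F (US ψ) := by
  obtain ⟨x, y, hgen, hx, hy, hxy⟩ := Cfsg.Agent.H952.F4.Gen.gen6b
  let ρ : Representation F ↥(alternatingGroup (Fin 6)) (D1 → F) := (V F).comp (ψ.comp (Cfsg.Agent.H251.E6.up.comp Cfsg.Agent.H251.E6.up))
  have h := Cfsg.Agent.H952.F4.Scott.scott_form ρ hgen (sf F) (fun v hv => sf_nondeg' hv) (fun g v w => sf_V _ v w)
  have e1 : ev (ρ x) 1 = 32 := h3 (Cfsg.Agent.H251.E6.up (Cfsg.Agent.H251.E6.up x)) (by rw [type_up, type_up, hx])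
  have e2 : ev (ρ y) 1 = 20 := h33 (Cfsg.Agent.H251.E6.up (Cfsg.Agent.H251.E6.up y)) (by rw [type_up, type_up, hy])
  have e3 : ev (ρ (x * y)) 1 = 16 := h5 (Cfsg.Agent.H251.E6.up (Cfsg.Agent.H251.E6.up (x * y))) (by rw [type_up, type_up, hxy])
  rw [e1, e2, e3, finrank_V] at h
  have hle : ρ.invariants ≤ US ψ := by
    intro v hv a h6 h7
    rw [Representation.mem_invariants] at hv
    obtain ⟨b, rfl⟩ := exists_up (a := a) h7
    have hb : (b : Perm (Fin 7)) (Fin.last 6) = Fin.last 6 := by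
      have h8 : ((Cfsg.Agent.H251.E6.up b : ↥(alternatingGroup (Fin 8))) : Perm (Fin 8)) (Fin.last 6).castSucc = (Fin.last 6).castSucc := h6
      rw [coe_up, upP_apply] at h8
      exact Fin.castSucc_injective _ h8
    obtain ⟨c, rfl⟩ := exists_up (a := b) hb
    exact hv c
  have h4 := Submodule.finrank_mono hle
  omega

end US

/-! ### translates -/

section W
variable {ψ : A8 →* Gh F}

/-- an even permutation with given images of 6 and 7 -/
noncomputable def pick (i j : Fin 8) (h : i ≠ j) : A8 := (exists2 h).choose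

theorem pick_spec {i j : Fin 8} (h : i ≠ j) : (pick i j h : Perm (Fin 8)) 6 = i ∧ (pick i j h : Perm (Fin 8)) 7 = j :=
  (exists2 h).choose_spec

open Classical in
/-- the translates -/
noncomputable def W (ψ : A8 →* Gh F) (u : D1 → F) (i j : Fin 8) : D1 → F :=
  if h : i ≠ j then V F (ψ (pick i j h)) u else 0

theorem W_eq {u : D1 → F} (hu : u ∈ US ψ) {a : A8} {i j : Fin 8} (h6 : (a : Perm (Fin 8)) 6 = i)
    (h7 : (a : Perm (Fin 8)) 7 = j) : V F (ψ a) u = W ψ u i j := by
  have hij : i ≠ j := by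
    rintro rfl
    exact absurd ((a : Perm (Fin 8)).injective (h6.trans h7.symm)) (by decide)
  obtain ⟨p6, p7⟩ := pick_spec hij
  unfold W
  rw [dif_pos hij]
  set p := pick i j hij with hp
  have h1 : V F (ψ (p⁻¹ * a)) u = u := by
    apply hu
    · show ((p : Perm (Fin 8))⁻¹) ((a : Perm (Fin 8)) 6) = 6
      rw [Perm.inv_eq_iff_eq, p6]; exact h6
    · show ((p : Perm (Fin 8))⁻¹) ((a : Perm (Fin 8)) 7) = 7
      rw [Perm.inv_eq_iff_eq, p7]; exact h7
  conv_rhs => rw [← h1]
  rw [← V_mul, ← map_mul, mul_inv_cancel_left]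

theorem W_act {u : D1 → F} (hu : u ∈ US ψ) (b : A8) {i j : Fin 8} (hij : i ≠ j) :
    V F (ψ b) (W ψ u i j) = W ψ u ((b : Perm (Fin 8)) i) ((b : Perm (Fin 8)) j) := by
  obtain ⟨p6, p7⟩ := pick_spec hij
  rw [← W_eq hu p6 p7, ← V_mul, ← map_mul]
  apply W_eq hu
  · show (b : Perm (Fin 8)) ((pick i j hij : Perm (Fin 8)) 6) = _
    rw [p6]
  · show (b : Perm (Fin 8)) ((pick i j hij : Perm (Fin 8)) 7) = _
    rw [p7]

theorem W_self {u : D1 → F} (hu : u ∈ US ψ) : W ψ u 6 7 = u := by
  have h := W_eq (a := 1) hu (i := 6) (j := 7) rfl rfl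
  rw [← h, map_one, V_one]

/-- the element of type `{5, 3}` -/
def c53 : A8 := ⟨c[(0 : Fin 8), 1, 2, 3, 4] * c[(5 : Fin 8), 6, 7], by rw [mem_alternatingGroup]; decide +kernel⟩

theorem type_c53 : (c53 : Perm (Fin 8)).cycleType = {5, 3} := by decide +kernel

/-- **triangle sums** -/
theorem tri (h53 : ∀ a : A8, (a : Perm (Fin 8)).cycleType = {5, 3} → ev (V F (ψ a)) 1 = 0) {u : D1 → F} (hu : u ∈ US ψ)
    {i j k : Fin 8} (hij : i ≠ j) (hjk : j ≠ k) (hik : i ≠ k) : W ψ u i j + W ψ u j k + W ψ u k i = 0 := by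
  have h0 : W ψ u 5 6 + W ψ u 6 7 + W ψ u 7 5 = 0 := by
    apply fixed_of_ev_zero (h53 c53 type_c53)
    rw [map_add, map_add, W_act hu c53 (by decide), W_act hu c53 (by decide), W_act hu c53 (by decide)]
    have e5 : (c53 : Perm (Fin 8)) 5 = 6 := by decide +kernel
    have e6 : (c53 : Perm (Fin 8)) 6 = 7 := by decide +kernel
    have e7 : (c53 : Perm (Fin 8)) 7 = 5 := by decide +kernel
    rw [e5, e6, e7]
    abel
  obtain ⟨a, a5, a6, a7⟩ := exists3 hij hjk hik
  have h1 := congrArg (V F (ψ a)) h0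
  rw [map_add, map_add, map_zero, W_act hu a (by decide), W_act hu a (by decide), W_act hu a (by decide), a5, a6, a7] at h1
  exact h1

theorem add_self_zero (h2 : (2 : F) = 0) (v : D1 → F) : v + v = 0 := by
  funext a
  rw [Pi.add_apply, Pi.zero_apply]
  linear_combination (v a) * h2

theorem W_symm (h2 : (2 : F) = 0) (h53 : ∀ a : A8, (a : Perm (Fin 8)).cycleType = {5, 3} → ev (V F (ψ a)) 1 = 0)
    {u : D1 → F} (hu : u ∈ US ψ) {i j : Fin 8} (hij : i ≠ j) : W ψ u i j = W ψ u j i :=
  sym_of_tri (W := W ψ u) (add_self_zero h2) (fun _ _ _ h1 h2 h3 => tri h53 hu h1 h2 h3) hij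

end W

/-! ### the outer elements -/

section outer
variable {H : Subgroup ↥(chevE7.group F)} {φ : A8 →* ↥(chevE7.group F)} {ψ : A8 →* Gh F}

theorem ad_inj2 (h2 : (2 : F) = 0) {g h : Gh F} (hgh : ad F g = ad F h) : g = h := by
  rcases ad_eq_iff.1 hgh with h1 | h1
  · exact h1
  · apply V_injective
    rw [h1]
    refine LinearMap.ext fun v => ?_
    rw [LinearMap.neg_apply]
    exact neg_eq_of_add_eq_zero_left (add_self_zero h2 _)

theorem cent_one (h2 : (2 : F) = 0) (hM : MaxAlt H 8 φ) (hψ : Lift φ ψ) {g : Gh F} (hg : ∀ a, g * ψ a * g⁻¹ = ψ a) : g = 1 := by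
  apply ad_inj2 h2
  rw [map_one]
  apply centralizer_eq hM (by norm_num)
  intro a
  rw [← hψ a, ← map_mul, ← map_mul]
  congr 1
  have h := hg a
  rw [mul_inv_eq_iff_eq_mul] at h
  exact h.symm

theorem perm_lift (h2 : (2 : F) = 0) (hM : MaxAlt H 8 φ) (hψ : Lift φ ψ) {g : Gh F} (hg : ad F g ∈ H) :
    ∃ σ : Perm (Fin 8), ∀ a b : A8, (b : Perm (Fin 8)) = σ * a * σ⁻¹ → g * ψ a * g⁻¹ = ψ b := by
  obtain ⟨σ, hσ⟩ := exists_perm (by norm_num) hM hg
  refine ⟨σ, fun a b hab => ad_inj2 h2 ?_⟩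
  rw [map_mul, map_mul, map_inv, hψ, hψ]
  exact hσ a b hab

theorem exists_U0 [Finite F] (h2 : (2 : F) = 0) (hM : MaxAlt H 8 φ) (hψ : Lift φ ψ) (hdim : 6 ≤ finrank F (US ψ)) :
    ∃ U0 : Submodule F (D1 → F), U0 ≤ US ψ ∧ 3 ≤ finrank F U0 ∧ ∀ g : Gh F, ad F g ∈ H → ∀ u ∈ U0, ∃ π : A8,
      V F g u = V F (ψ π) u := by
  -- conjugation by an odd element
  have hodd : ∀ σ : Perm (Fin 8), sign σ = -1 → σ * swap (6 : Fin 8) 7 ∈ alternatingGroup (Fin 8) := by
    intro σ hσ
    rw [mem_alternatingGroup, Perm.sign_mul, hσ, sign_swap (by decide)]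
    decide
  have hs : (swap (6 : Fin 8) 7 : Perm (Fin 8))⁻¹ = swap (6 : Fin 8) 7 := swap_inv _ _
  have hconj : ∀ (σ : Perm (Fin 8)) (a : A8), σ * (a : Perm (Fin 8)) * σ⁻¹ ∈ alternatingGroup (Fin 8) := by
    intro σ a
    rw [mem_alternatingGroup, Perm.sign_mul, Perm.sign_mul, mem_alternatingGroup.1 a.2, mul_one, Perm.sign_inv,
      Int.units_mul_self]
  have heven : ∀ g : Gh F, ∀ σ : Perm (Fin 8), (∀ a b : A8, (b : Perm (Fin 8)) = σ * (a : Perm (Fin 8)) * σ⁻¹ → g * ψ a * g⁻¹ = ψ b) →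
      ∀ hσ : σ ∈ alternatingGroup (Fin 8), g = ψ ⟨σ, hσ⟩ := by
    intro g σ h hσ
    have h1 : (ψ ⟨σ, hσ⟩)⁻¹ * g = 1 := by
      apply cent_one h2 hM hψ
      intro a
      have h3 := h a ⟨σ * (a : Perm (Fin 8)) * σ⁻¹, hconj σ a⟩ rfl
      have e : (⟨σ * (a : Perm (Fin 8)) * σ⁻¹, hconj σ a⟩ : A8) = ⟨σ, hσ⟩ * a * ⟨σ, hσ⟩⁻¹ := rfl
      rw [e, map_mul, map_mul, map_inv] at h3
      calc (ψ ⟨σ, hσ⟩)⁻¹ * g * ψ a * ((ψ ⟨σ, hσ⟩)⁻¹ * g)⁻¹ = (ψ ⟨σ, hσ⟩)⁻¹ * (g * ψ a * g⁻¹) * ψ ⟨σ, hσ⟩ := by group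
        _ = ψ a := by rw [h3]; group
    exact (inv_mul_eq_one.1 h1).symm
  by_cases hall : ∀ g : Gh F, ad F g ∈ H → ∃ π : A8, g = ψ π
  · refine ⟨US ψ, le_rfl, by omega, fun g hg u _ => ?_⟩
    obtain ⟨π, rfl⟩ := hall g hg
    exact ⟨π, rfl⟩
  push Not at hall
  obtain ⟨g0, hg0, hne⟩ := hall
  obtain ⟨σ0, hσ0⟩ := perm_lift h2 hM hψ hg0
  have hs0 : sign σ0 = -1 := by
    rcases Int.units_eq_one_or (sign σ0) with h | h
    · exact absurd (heven g0 σ0 hσ0 (mem_alternatingGroup.2 h)) (hne _)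
    · exact h
  -- reduction to the transposition
  have hred : ∀ g : Gh F, ∀ σ : Perm (Fin 8), (∀ a b : A8, (b : Perm (Fin 8)) = σ * (a : Perm (Fin 8)) * σ⁻¹ → g * ψ a * g⁻¹ = ψ b) →
      ∀ hσ : σ * swap (6 : Fin 8) 7 ∈ alternatingGroup (Fin 8), ∀ a b : A8, (b : Perm (Fin 8)) = swap (6 : Fin 8) 7 * (a : Perm (Fin 8)) * swap (6 : Fin 8) 7 →
        ((ψ ⟨σ * swap (6 : Fin 8) 7, hσ⟩)⁻¹ * g) * ψ a * ((ψ ⟨σ * swap (6 : Fin 8) 7, hσ⟩)⁻¹ * g)⁻¹ = ψ b := by
    intro g σ h hσ a b hb
    have h3 := h a ⟨σ * (a : Perm (Fin 8)) * σ⁻¹, hconj σ a⟩ rfl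
    have e : (⟨σ * (a : Perm (Fin 8)) * σ⁻¹, hconj σ a⟩ : A8) = ⟨σ * swap (6 : Fin 8) 7, hσ⟩ * b * (⟨σ * swap (6 : Fin 8) 7, hσ⟩ : A8)⁻¹ := by
      apply Subtype.ext
      show σ * (a : Perm (Fin 8)) * σ⁻¹ = σ * swap (6 : Fin 8) 7 * (b : Perm (Fin 8)) * (σ * swap (6 : Fin 8) 7)⁻¹
      rw [hb, mul_inv_rev, hs]
      have h4 : (swap (6 : Fin 8) 7 : Perm (Fin 8)) * swap (6 : Fin 8) 7 = 1 := swap_mul_self _ _
      calc σ * (a : Perm (Fin 8)) * σ⁻¹ = σ * (swap (6 : Fin 8) 7 * swap (6 : Fin 8) 7) * (a : Perm (Fin 8)) * (swap (6 : Fin 8) 7 * swap (6 : Fin 8) 7) * σ⁻¹ := by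
            rw [h4, mul_one, mul_one]
        _ = _ := by simp only [mul_assoc]
    rw [e, map_mul, map_mul, map_inv] at h3
    calc _ = (ψ ⟨σ * swap (6 : Fin 8) 7, hσ⟩)⁻¹ * (g * ψ a * g⁻¹) * ψ ⟨σ * swap (6 : Fin 8) 7, hσ⟩ := by group
      _ = ψ b := by rw [h3]; group
  set t0 : Gh F := (ψ ⟨σ0 * swap (6 : Fin 8) 7, hodd σ0 hs0⟩)⁻¹ * g0 with ht0
  have ht : ∀ a b : A8, (b : Perm (Fin 8)) = swap (6 : Fin 8) 7 * (a : Perm (Fin 8)) * swap (6 : Fin 8) 7 → t0 * ψ a * t0⁻¹ = ψ b := hred g0 σ0 hσ0 (hodd σ0 hs0)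
  have hss : ∀ a : Perm (Fin 8), swap (6 : Fin 8) 7 * (swap (6 : Fin 8) 7 * a * swap (6 : Fin 8) 7) * swap (6 : Fin 8) 7 = a := by
    intro a
    have h4 : (swap (6 : Fin 8) 7 : Perm (Fin 8)) * swap (6 : Fin 8) 7 = 1 := swap_mul_self _ _
    calc _ = (swap (6 : Fin 8) 7 * swap (6 : Fin 8) 7) * a * (swap (6 : Fin 8) 7 * swap (6 : Fin 8) 7) := by simp only [mul_assoc]
      _ = a := by rw [h4, one_mul, mul_one]
  have hcs : ∀ a : A8, swap (6 : Fin 8) 7 * (a : Perm (Fin 8)) * swap (6 : Fin 8) 7 ∈ alternatingGroup (Fin 8) := by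
    intro a
    have := hconj (swap (6 : Fin 8) 7) a
    rwa [hs] at this
  have ht2 : t0 * t0 = 1 := by
    apply cent_one h2 hM hψ
    intro a
    have h3 := ht a ⟨_, hcs a⟩ rfl
    have h4 := ht ⟨_, hcs a⟩ a (hss _).symm
    calc t0 * t0 * ψ a * (t0 * t0)⁻¹ = t0 * (t0 * ψ a * t0⁻¹) * t0⁻¹ := by group
      _ = ψ a := by rw [h3, h4]
  have hgen : ∀ g : Gh F, ad F g ∈ H → ∃ π : A8, g = ψ π ∨ g = ψ π * t0 := by
    intro g hg
    obtain ⟨σ, hσ⟩ := perm_lift h2 hM hψ hg
    rcases Int.units_eq_one_or (sign σ) with h | h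
    · exact ⟨_, Or.inl (heven g σ hσ (mem_alternatingGroup.2 h))⟩
    · refine ⟨⟨σ * swap (6 : Fin 8) 7, hodd σ h⟩, Or.inr ?_⟩
      have h3 := hred g σ hσ (hodd σ h)
      set t1 : Gh F := (ψ ⟨σ * swap (6 : Fin 8) 7, hodd σ h⟩)⁻¹ * g with ht1
      have h4 : t1 * t0 = 1 := by
        apply cent_one h2 hM hψ
        intro a
        have h5 := ht a ⟨_, hcs a⟩ rfl
        have h6 := h3 ⟨_, hcs a⟩ a (hss _).symm
        calc t1 * t0 * ψ a * (t1 * t0)⁻¹ = t1 * (t0 * ψ a * t0⁻¹) * t1⁻¹ := by group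
          _ = ψ a := by rw [h5, h6]
      have h5 : t1 = t0 := by
        calc t1 = t1 * (t0 * t0) := by rw [ht2, mul_one]
          _ = (t1 * t0) * t0 := by group
          _ = t0 := by rw [h4, one_mul]
      rw [← h5, ht1]; group
  -- `US` is stable under `t0`
  have hst : ∀ u ∈ US ψ, V F t0 u ∈ US ψ := by
    intro u hu a h6 h7
    have h3 := ht ⟨_, hcs a⟩ a (hss _).symm
    have h4 : V F (ψ a) (V F t0 u) = V F t0 (V F (ψ ⟨_, hcs a⟩) u) := by
      rw [← h3, ← V_mul, ← V_mul]
      congr 2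
      group
    rw [h4, hu ⟨_, hcs a⟩]
    · show swap (6 : Fin 8) 7 ((a : Perm (Fin 8)) (swap (6 : Fin 8) 7 6)) = 6
      rw [swap_apply_left, h7, swap_apply_right]
    · show swap (6 : Fin 8) 7 ((a : Perm (Fin 8)) (swap (6 : Fin 8) 7 7)) = 7
      rw [swap_apply_right, h6, swap_apply_left]
  let T : ↥(US ψ) →ₗ[F] ↥(US ψ) := (V F t0).restrict hst - LinearMap.id
  have hT : ∀ u : ↥(US ψ), ((T u : ↥(US ψ)) : D1 → F) = V F t0 u - u := fun u => rfl
  have hle : LinearMap.range T ≤ LinearMap.ker T := by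
    rintro _ ⟨u, rfl⟩
    rw [LinearMap.mem_ker]
    apply Subtype.ext
    rw [hT, hT, map_sub, ← V_mul, ht2, V_one, ZeroMemClass.coe_zero]
    have h5 := add_self_zero h2 (V F t0 (u : D1 → F))
    have h6 := add_self_zero h2 ((u : D1 → F))
    calc (u : D1 → F) - V F t0 u - (V F t0 u - u) = ((u : D1 → F) + u) - (V F t0 u + V F t0 u) := by abel
      _ = 0 := by rw [h5, h6, sub_zero]
  have h7 := LinearMap.finrank_range_add_finrank_ker T
  have h8 := Submodule.finrank_mono hle
  refine ⟨(LinearMap.ker T).map (US ψ).subtype, ?_, ?_, ?_⟩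
  · rintro _ ⟨u, -, rfl⟩
    exact u.2
  · rw [Submodule.finrank_map_subtype_eq]
    omega
  · rintro g hg _ ⟨u, hu, rfl⟩
    obtain ⟨π, h9 | h9⟩ := hgen g hg
    · exact ⟨π, by rw [h9]⟩
    · refine ⟨π, ?_⟩
      have h10 : V F t0 (u : D1 → F) = u := by
        have h11 := congrArg Subtype.val (LinearMap.mem_ker.1 hu)
        rw [hT, ZeroMemClass.coe_zero, sub_eq_zero] at h11
        exact h11
      rw [h9, V_mul]
      show V F (ψ π) (V F t0 (u : D1 → F)) = V F (ψ π) (u : D1 → F)
      rw [h10]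

end outer

end Cfsg.Agent.R2.T1.T1p
end

-- part: R2/T1/T1p/Main
section
prune_inst 0x400310000000018059003000040080000020040000000c00004094040422002800092100000000a08c06008000811000010420000000a0004000001012090811000b0080000200011800080000000000000000000000000000000010004000000000
set_option linter.all false
open scoped Cfsg.Agent.FastGrp

/-!
# T1 (S5771, p = 2, n = 8): the pattern `4 + 4* + 6⁸` is impossible (helper24)

* `false_of` : p = 2, n = 8, the elements of type `3`, `3²`, `5`, `5 3` with 32, 20, 16, 0 fixed weights: contradiction.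
-/

set_option autoImplicit false
set_option maxRecDepth 100000

namespace Cfsg.Agent.R2.T1.T1p

open Cfsg Cfsg.Lie Module Equiv Equiv.Perm
open Cfsg.Agent.H943.E7V.Block (D1 rho)
open Cfsg.Agent.H952.F4 (ev es MaxAlt)
open Cfsg.Agent.R2.T1 Cfsg.Agent.R2.T1.Mu2 Cfsg.Agent.R2.PX

universe u
variable {F : Type u} [Field F]

/-! ### the moment map on the translates -/

section polar
variable {ψ : A8 →* Gh F} {u : D1 → F}

/-- polar form of the moment map -/
noncomputable def Pf (x y : D1 → F) (z : chevE7.Idx → F) : F := sf F y (Matrix.mulVec (del F z) x)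

theorem Pf_eq (x y : D1 → F) (z : chevE7.Idx → F) : Pf x y z = Mu F (x + y) z - Mu F x z - Mu F y z := by
  rw [Mu_add]; unfold Pf; ring

theorem Pf_comm (x y : D1 → F) (z : chevE7.Idx → F) : Pf x y z = Pf y x z := by
  rw [Pf_eq, Pf_eq, add_comm x y]; ring

theorem Pf_add_right (x y y' : D1 → F) (z : chevE7.Idx → F) : Pf x (y + y') z = Pf x y z + Pf x y' z := by
  unfold Pf; rw [map_add, LinearMap.add_apply]

theorem Pf_smul_right (c : F) (x y : D1 → F) (z : chevE7.Idx → F) : Pf x (c • y) z = c * Pf x y z := by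
  unfold Pf; rw [map_smul, LinearMap.smul_apply, smul_eq_mul]

/-- all values of the moment map on the translates are equal -/
theorem Mu_W (hu : u ∈ US ψ) (heq : Mu F (W ψ u 6 7) = Mu F (W ψ u 7 5)) {i j : Fin 8} (hij : i ≠ j) :
    Mu F (W ψ u i j) = Mu F u := by
  have step : ∀ a b c : Fin 8, a ≠ b → b ≠ c → a ≠ c → Mu F (W ψ u a b) = Mu F (W ψ u b c) := by
    intro a b c hab hbc hac
    obtain ⟨g, g5, g6, g7⟩ := exists3 (i := c) (j := a) (k := b) hac.symm hab hbc.symm
    have e1 : W ψ u a b = V F (ψ g) (W ψ u 6 7) := by rw [W_act hu g (by decide), g6, g7]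
    have e2 : W ψ u b c = V F (ψ g) (W ψ u 7 5) := by rw [W_act hu g (by decide), g7, g5]
    rw [e1, e2, Mu_V', Mu_V', heq]
  obtain ⟨c, d, c1, c2, c3, c4, d1, d2, d3, d4, hcd⟩ := two_more4 6 7 i j
  have h1 := step 6 7 c (by decide) c2.symm c1.symm
  have h2 := step 7 c d c2.symm hcd d2.symm
  have h3 := step c d i hcd d3 c3
  have h4 := step d i j d3 hij d4
  rw [← h4, ← h3, ← h2, ← h1, W_self hu]

/-- the polar form vanishes on the translates -/
theorem Pf_W (h2 : (2 : F) = 0) (h53 : ∀ a : A8, (a : Perm (Fin 8)).cycleType = {5, 3} → ev (V F (ψ a)) 1 = 0)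
    (hu : u ∈ US ψ) (hz : ∀ i j : Fin 8, i ≠ j → Mu F (W ψ u i j) = 0) {i j k l : Fin 8} (hij : i ≠ j) (hkl : k ≠ l)
    (z : chevE7.Idx → F) : Pf (W ψ u i j) (W ψ u k l) z = 0 := by
  have hneg : ∀ v : D1 → F, -v = v := fun v => neg_eq_of_add_eq_zero_left (add_self_zero h2 v)
  have hsym : ∀ i j : Fin 8, i ≠ j → W ψ u i j = W ψ u j i := fun i j h => W_symm h2 h53 hu h
  have hself : ∀ i j : Fin 8, i ≠ j → Pf (W ψ u i j) (W ψ u i j) z = 0 := by
    intro i j h
    rw [Pf_eq, add_self_zero h2, Mu_zero, hz i j h, LinearMap.zero_apply]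
    ring
  have hadd : ∀ i j k : Fin 8, i ≠ j → j ≠ k → i ≠ k → W ψ u i j + W ψ u j k = W ψ u i k := by
    intro i j k h1 h3 h4
    have h5 := tri h53 hu h1 h3 h4
    rw [hsym i k h4, ← hneg (W ψ u k i)]
    exact eq_neg_of_add_eq_zero_left h5
  have hshare : ∀ i j k : Fin 8, i ≠ j → j ≠ k → i ≠ k → Pf (W ψ u i j) (W ψ u j k) z = 0 := by
    intro i j k h1 h3 h4
    rw [Pf_eq, hadd i j k h1 h3 h4, hz i k h4, hz i j h1, hz j k h3, LinearMap.zero_apply]
    ring
  by_cases hki : k = i
  · subst hki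
    by_cases hlj : l = j
    · subst hlj; exact hself k l hij
    · rw [hsym k j hij]
      exact hshare j k l hij.symm hkl (Ne.symm hlj)
  by_cases hkj : k = j
  · subst hkj
    by_cases hli : l = i
    · subst hli; rw [hsym k l hkl]; exact hself l k hij
    · exact hshare i k l hij hkl (Ne.symm hli)
  by_cases hli : l = i
  · subst hli
    rw [hsym k l hkl, hsym l j hij]
    exact hshare j l k hij.symm (Ne.symm hki) (Ne.symm hkj)
  by_cases hlj : l = j
  · subst hlj
    rw [hsym k l hkl]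
    exact hshare i l k hij (Ne.symm hkj) (Ne.symm hki)
  rw [← hadd k j l hkj (Ne.symm hlj) hkl, Pf_add_right, hshare i j l hij (Ne.symm hlj) (Ne.symm hli), add_zero,
    hsym k j hkj]
  exact hshare i j k hij (Ne.symm hkj) (Ne.symm hki)

end polar

/-! ### the main argument -/

section main
variable {H : Subgroup ↥(chevE7.group F)} {φ : A8 →* ↥(chevE7.group F)} {ψ : A8 →* Gh F}

/-- the final contradiction from a vector with equal values of the moment map -/
theorem final [Finite F] (h2 : (2 : F) = 0) (hM : MaxAlt H 8 φ) (hψ : Lift φ ψ)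
    (h53 : ∀ a : A8, (a : Perm (Fin 8)).cycleType = {5, 3} → ev (V F (ψ a)) 1 = 0) {u : D1 → F} (hu : u ∈ US ψ)
    (hu0 : u ≠ 0) (hH : ∀ g : Gh F, ad F g ∈ H → ∃ π : A8, V F g u = V F (ψ π) u)
    (heq : Mu F (W ψ u 6 7) = Mu F (W ψ u 7 5)) : False := by
  have hne67 : ∀ π : A8, (π : Perm (Fin 8)) 6 ≠ (π : Perm (Fin 8)) 7 := fun π h =>
    absurd ((π : Perm (Fin 8)).injective h) (by decide)
  have hVW : ∀ π : A8, V F (ψ π) u = W ψ u ((π : Perm (Fin 8)) 6) ((π : Perm (Fin 8)) 7) := fun π => W_eq hu rfl rfl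
  have hcard := hM.card
  rw [if_neg (by norm_num)] at hcard
  have h8 : Nat.factorial 8 = 40320 := rfl
  rw [h8] at hcard
  have hq := two_le_card (F := F)
  have hMu0 : Mu F u = 0 := by
    apply func_zero hM.coatom
    · have h3 : 2 ^ 76 ≤ Nat.card F ^ 76 := Nat.pow_le_pow_left hq 76
      norm_num at h3
      omega
    · intro g hg
      obtain ⟨π, hπ⟩ := hH g hg
      rw [hπ, hVW, Mu_W hu heq (hne67 π)]
  have hz : ∀ i j : Fin 8, i ≠ j → Mu F (W ψ u i j) = 0 := fun i j hij => by rw [Mu_W hu heq hij, hMu0]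
  set S : Submodule F (D1 → F) := Submodule.span F (Set.range fun π : A8 => V F (ψ π) u) with hS
  have hmem : ∀ π : A8, V F (ψ π) u ∈ S := fun π => Submodule.subset_span ⟨π, rfl⟩
  have hP1 : ∀ (π : A8) (y : D1 → F), y ∈ S → ∀ z, Pf (V F (ψ π) u) y z = 0 := by
    intro π y hy z
    rw [hS] at hy
    induction hy using Submodule.span_induction with
    | mem y hy =>
      obtain ⟨π', rfl⟩ := hy
      show Pf (V F (ψ π) u) (V F (ψ π') u) z = 0
      rw [hVW, hVW]
      exact Pf_W h2 h53 hu hz (hne67 π) (hne67 π') z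
    | zero => unfold Pf; rw [map_zero, LinearMap.zero_apply]
    | add a b _ _ ha hb => rw [Pf_add_right, ha, hb, add_zero]
    | smul c a _ ha => rw [Pf_smul_right, ha, mul_zero]
  have hP : ∀ x ∈ S, ∀ y ∈ S, ∀ z, Pf x y z = 0 := by
    intro x hx y hy z
    rw [hS] at hx
    induction hx using Submodule.span_induction with
    | mem x hx =>
      obtain ⟨π, rfl⟩ := hx
      exact hP1 π y hy z
    | zero => rw [Pf_comm]; unfold Pf; rw [map_zero, LinearMap.zero_apply]
    | add a b _ _ ha hb => rw [Pf_comm, Pf_add_right, Pf_comm y a, Pf_comm y b, ha, hb, add_zero]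
    | smul c a _ ha => rw [Pf_comm, Pf_smul_right, Pf_comm y a, ha, mul_zero]
  have hsing : ∀ x ∈ S, Sing x := by
    intro x hx
    rw [hS] at hx
    induction hx using Submodule.span_induction with
    | mem x hx =>
      obtain ⟨π, rfl⟩ := hx
      show Mu F (V F (ψ π) u) = 0
      rw [hVW]
      exact hz _ _ (hne67 π)
    | zero => exact Mu_zero
    | add a b ha hb ha' hb' =>
      refine LinearMap.ext fun z => ?_
      have h3 := hP a ha b hb z
      rw [Pf_eq, ha', hb', LinearMap.zero_apply, sub_zero, sub_zero] at h3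
      exact h3
    | smul c a _ ha => exact ha.smul c
  refine ts hM.coatom ?_ (W := S) ?_ ?_ hsing
  · have h3 : 2 ^ 27 ≤ Nat.card F ^ 27 := Nat.pow_le_pow_left hq 27
    norm_num at h3
    omega
  · intro g hg w hw
    obtain ⟨σ, hσ⟩ := perm_lift h2 hM hψ hg
    obtain ⟨π, hπ⟩ := hH g hg
    rw [hS] at hw
    induction hw using Submodule.span_induction with
    | mem x hx =>
      obtain ⟨a, rfl⟩ := hx
      have hconj : σ * (a : Perm (Fin 8)) * σ⁻¹ ∈ alternatingGroup (Fin 8) := by
        rw [mem_alternatingGroup, Perm.sign_mul, Perm.sign_mul, mem_alternatingGroup.1 a.2, mul_one, Perm.sign_inv,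
          Int.units_mul_self]
      have h3 := hσ a ⟨_, hconj⟩ rfl
      have h4 : V F g (V F (ψ a) u) = V F (ψ (⟨_, hconj⟩ * π)) u := by
        rw [map_mul, V_mul, ← hπ, ← V_mul, ← V_mul, ← h3]
        congr 2
        group
      show V F g (V F (ψ a) u) ∈ S
      rw [h4]
      exact hmem _
    | zero => rw [map_zero]; exact zero_mem _
    | add a b _ _ ha hb => rw [map_add]; exact add_mem ha hb
    | smul c a _ ha => rw [map_smul]; exact S.smul_mem c ha
  · intro h
    have h3 := hmem 1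
    rw [h, map_one, V_one, Submodule.mem_bot] at h3
    exact hu0 h3

/-- the 3-cycle -/
def c3 : A8 := ⟨c[5, 6, 7], by rw [mem_alternatingGroup]; decide +kernel⟩

theorem type_c3 : (c3 : Perm (Fin 8)).cycleType = {3} := by decide +kernel

theorem c3_pow : c3 ^ 3 = 1 := by decide +kernel

/-- the symmetry -/
def gs : A8 := ⟨swap 6 7 * swap 0 1, by rw [mem_alternatingGroup]; decide +kernel⟩

/-- **the pattern `4 + 4* + 6⁸` is impossible** -/
theorem false_of [Finite F] (h2 : (2 : F) = 0) (hM : MaxAlt H 8 φ) (hψ : Lift φ ψ)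
    (h3 : ∀ a : A8, (a : Perm (Fin 8)).cycleType = {3} → ev (V F (ψ a)) 1 = 32)
    (h33 : ∀ a : A8, (a : Perm (Fin 8)).cycleType = {3, 3} → ev (V F (ψ a)) 1 = 20)
    (h5 : ∀ a : A8, (a : Perm (Fin 8)).cycleType = {5} → ev (V F (ψ a)) 1 = 16)
    (h53 : ∀ a : A8, (a : Perm (Fin 8)).cycleType = {5, 3} → ev (V F (ψ a)) 1 = 0) : False := by
  obtain ⟨U0, hU0, hdim, hU0H⟩ := exists_U0 h2 hM hψ (dim_US h3 h33 h5)
  obtain ⟨ω, l, hω, hl⟩ := line_F h2 (x := ψ c3) (by rw [← map_pow, c3_pow, map_one]) (h3 c3 type_c3)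
  let K := AlgebraicClosure F
  let f : F →+* K := algebraMap F K
  have h2K : (2 : K) = 0 := by
    have h := congrArg f h2
    rwa [map_ofNat, map_zero] at h
  -- the action of `c3` and `gs`
  have a5 : (c3 : Perm (Fin 8)) 5 = 6 := by decide +kernel
  have a6 : (c3 : Perm (Fin 8)) 6 = 7 := by decide +kernel
  have a7 : (c3 : Perm (Fin 8)) 7 = 5 := by decide +kernel
  have b5 : (gs : Perm (Fin 8)) 5 = 5 := by decide +kernel
  have b6 : (gs : Perm (Fin 8)) 6 = 7 := by decide +kernel
  have b7 : (gs : Perm (Fin 8)) 7 = 6 := by decide +kernel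
  have x0 : ∀ u ∈ US ψ, W ψ u 6 7 = u := fun u hu => W_self hu
  have x1 : ∀ u ∈ US ψ, V F (ψ c3) u = W ψ u 7 5 := by
    intro u hu
    have h := W_act hu c3 (i := 6) (j := 7) (by decide)
    rw [a6, a7, W_self hu] at h
    exact h
  have x2 : ∀ u ∈ US ψ, V F (ψ c3) (V F (ψ c3) u) = W ψ u 5 6 := by
    intro u hu
    rw [x1 u hu, W_act hu c3 (by decide), a5, a7]
  have hsum : ∀ u ∈ US ψ, u + V F (ψ c3) u + V F (ψ c3) (V F (ψ c3) u) = 0 := by
    intro u hu
    rw [x1 u hu]
    have h := tri h53 hu (i := 6) (j := 7) (k := 5) (by decide) (by decide) (by decide)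
    rw [x0 u hu] at h
    rw [W_act hu c3 (by decide), a7, a5]
    exact h
  have y0 : ∀ u ∈ US ψ, V F (ψ gs) u = u := by
    intro u hu
    have h := W_act hu gs (i := 6) (j := 7) (by decide)
    rw [b6, b7, W_self hu, W_symm h2 h53 hu (by decide), W_self hu] at h
    exact h
  have y1 : ∀ u ∈ US ψ, V F (ψ gs) (W ψ u 7 5) = W ψ u 5 6 := by
    intro u hu
    rw [W_act hu gs (by decide), b7, b5, W_symm h2 h53 hu (by decide)]
  have y2 : ∀ u ∈ US ψ, V F (ψ gs) (W ψ u 5 6) = W ψ u 7 5 := by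
    intro u hu
    rw [W_act hu gs (by decide), b6, b5, W_symm h2 h53 hu (by decide)]
  -- the combination
  let Φ : (D1 → F) → (chevE7.Idx → F) → K := fun u z => f (Mu F u z) + ω * f (Mu F (W ψ u 7 5) z) + ω ^ 2 * f (Mu F (W ψ u 5 6) z)
  have hΦ : ∀ u ∈ US ψ, ∃ q : K, ∀ z, Φ u z = q * l z := by
    intro u hu
    obtain ⟨q, hq⟩ := hl u (hsum u hu)
    refine ⟨q, fun z => ?_⟩
    have h := hq z
    rw [x2 u hu, x1 u hu] at h
    exact h
  have hg : ∀ u ∈ US ψ, ∀ z, Φ u (L F (ψ gs)⁻¹ z) = f (Mu F u z) + ω * f (Mu F (W ψ u 5 6) z) + ω ^ 2 * f (Mu F (W ψ u 7 5) z) := by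
    intro u hu z
    have key : ∀ y, Mu F y (L F (ψ gs)⁻¹ z) = Mu F (V F (ψ gs) y) z := by
      intro y
      rw [Mu_V']; rfl
    show f (Mu F u _) + ω * f (Mu F (W ψ u 7 5) _) + ω ^ 2 * f (Mu F (W ψ u 5 6) _) = _
    rw [key, key, key, y0 u hu, y1 u hu, y2 u hu]
  have hω1 : ω - ω ^ 2 ≠ 0 := by
    intro h
    have h4 : ω * (1 - ω) = 0 := by linear_combination h
    rcases mul_eq_zero.1 h4 with h5 | h5
    · rw [h5] at hω
      norm_num at hω
    · have h6 : ω = 1 := (sub_eq_zero.1 h5).symm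
      rw [h6] at hω
      have h7 : (1 : K) = 0 := by linear_combination hω - h2K
      exact one_ne_zero h7
  -- vectors with zero combination
  have hfin : ∀ u ∈ U0, u ≠ 0 → (∀ z, Φ u z = 0) → False := by
    intro u hu hu0 hzero
    refine final h2 hM hψ h53 (hU0 hu) hu0 (fun g hgH => hU0H g hgH u hu) ?_
    rw [x0 u (hU0 hu)]
    refine LinearMap.ext fun z => ?_
    have e1 : f (Mu F u z) + ω * f (Mu F (W ψ u 7 5) z) + ω ^ 2 * f (Mu F (W ψ u 5 6) z) = 0 := hzero z
    have e2 := hzero (L F (ψ gs)⁻¹ z)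
    rw [hg u (hU0 hu)] at e2
    have e3 : (ω - ω ^ 2) * (f (Mu F (W ψ u 7 5) z) - f (Mu F (W ψ u 5 6) z)) = 0 := by linear_combination e1 - e2
    have e4 := sub_eq_zero.1 ((mul_eq_zero.1 e3).resolve_left hω1)
    have e5 : f (Mu F u z) = f (Mu F (W ψ u 7 5) z) := by
      rw [← e4] at e1
      linear_combination e1 - (f (Mu F (W ψ u 7 5) z)) * hω
    exact f.injective e5
  by_cases hall : ∀ u ∈ U0, ∀ z, Φ u z = 0
  · have hnt : U0 ≠ ⊥ := by
      rintro rfl
      rw [finrank_bot] at hdim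
      omega
    obtain ⟨u, hu, hu0⟩ := Submodule.exists_mem_ne_zero_of_ne_bot hnt
    exact hfin u hu hu0 (hall u hu)
  push Not at hall
  obtain ⟨u0, hu0, z0, hz0⟩ := hall
  -- the Frobenius endomorphism
  have := Fintype.ofFinite F
  obtain ⟨s, hs⟩ := exists_frob f
  have hs' : ∀ t, s t = t ^ Fintype.card F := fun t => by rw [hs, Nat.card_eq_fintype_card]
  have hfix : ∀ t, s t = t ↔ t ∈ Set.range f := Cfsg.Agent.BpExc.Emb.fix_iff_range hs'
  have hsf : ∀ t, s (f t) = f t := fun t => (hfix _).2 ⟨t, rfl⟩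
  have hω3 : ω ^ 3 = 1 := by linear_combination (ω - 1) * hω
  have hsω : s ω = ω ∨ s ω = ω ^ 2 := by
    have h := congrArg s hω
    rw [map_add, map_add, map_pow, map_one, map_zero] at h
    have h4 : (s ω - ω) * (s ω - ω ^ 2) = 0 := by linear_combination h - (s ω) * hω + hω3
    rcases mul_eq_zero.1 h4 with h5 | h5
    · exact Or.inl (sub_eq_zero.1 h5)
    · exact Or.inr (sub_eq_zero.1 h5)
  obtain ⟨q0, hq0⟩ := hΦ u0 (hU0 hu0)
  have hq0' : q0 ≠ 0 := by
    rintro rfl
    exact hz0 (by rw [hq0, zero_mul])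
  have hQ : ∀ u : ↥U0, ∃ q : F, ∀ z, Φ u z = f q * Φ u0 z := by
    intro u
    obtain ⟨q1, hq1⟩ := hΦ u (hU0 u.2)
    have hr : ∀ z, Φ u z = (q1 / q0) * Φ u0 z := by
      intro z
      rw [hq1, hq0, ← mul_assoc, div_mul_cancel₀ _ hq0']
    have hsr : s (q1 / q0) = q1 / q0 := by
      rcases hsω with h | h
      · have key : ∀ (v : D1 → F) (z : chevE7.Idx → F), s (Φ v z) = Φ v z := by
          intro v z
          show s (f (Mu F v z) + ω * f (Mu F (W ψ v 7 5) z) + ω ^ 2 * f (Mu F (W ψ v 5 6) z)) = _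
          rw [map_add, map_add, map_mul, map_mul, map_pow, hsf, hsf, hsf, h]
        have h4 := congrArg s (hr z0)
        rw [map_mul, key, key, hr z0] at h4
        exact (mul_right_cancel₀ hz0 h4).symm
      · have key : ∀ v ∈ US ψ, ∀ z : chevE7.Idx → F, s (Φ v z) = Φ v (L F (ψ gs)⁻¹ z) := by
          intro v hv z
          rw [hg v hv]
          show s (f (Mu F v z) + ω * f (Mu F (W ψ v 7 5) z) + ω ^ 2 * f (Mu F (W ψ v 5 6) z)) = _
          rw [map_add, map_add, map_mul, map_mul, map_pow, hsf, hsf, hsf, h]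
          linear_combination (ω * f (Mu F (W ψ v 5 6) z)) * hω3
        have h4 := congrArg s (hr z0)
        rw [map_mul, key u (hU0 u.2), key u0 (hU0 hu0), hr (L F (ψ gs)⁻¹ z0)] at h4
        have h5 : Φ u0 (L F (ψ gs)⁻¹ z0) ≠ 0 := by
          rw [← key u0 (hU0 hu0)]
          exact (map_ne_zero s).2 hz0
        exact (mul_right_cancel₀ h5 h4).symm
    obtain ⟨q, hq⟩ := (hfix _).1 hsr
    exact ⟨q, fun z => by rw [hr, hq]⟩
  choose Q hQ using hQ
  -- the polar form
  have hW : ∀ (v w : D1 → F) (i j : Fin 8), W ψ (v + w) i j = W ψ v i j + W ψ w i j := by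
    intro v w i j
    unfold W
    split_ifs
    · rw [map_add]
    · rw [add_zero]
  have hWs : ∀ (c : F) (v : D1 → F) (i j : Fin 8), W ψ (c • v) i j = c • W ψ v i j := by
    intro c v i j
    unfold W
    split_ifs
    · rw [map_smul]
    · rw [smul_zero]
  let B0 : (D1 → F) → (D1 → F) → K := fun x y => f (Pf x y z0) + ω * f (Pf (W ψ x 7 5) (W ψ y 7 5) z0) +
    ω ^ 2 * f (Pf (W ψ x 5 6) (W ψ y 5 6) z0)
  have hB0 : ∀ x y, Φ (x + y) z0 = Φ x z0 + Φ y z0 + B0 x y := by
    intro x y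
    show f (Mu F (x + y) z0) + ω * f (Mu F (W ψ (x + y) 7 5) z0) + ω ^ 2 * f (Mu F (W ψ (x + y) 5 6) z0) =
      (f (Mu F x z0) + ω * f (Mu F (W ψ x 7 5) z0) + ω ^ 2 * f (Mu F (W ψ x 5 6) z0)) +
      (f (Mu F y z0) + ω * f (Mu F (W ψ y 7 5) z0) + ω ^ 2 * f (Mu F (W ψ y 5 6) z0)) +
      (f (Pf x y z0) + ω * f (Pf (W ψ x 7 5) (W ψ y 7 5) z0) + ω ^ 2 * f (Pf (W ψ x 5 6) (W ψ y 5 6) z0))
    rw [hW, hW, Pf_eq, Pf_eq, Pf_eq]
    simp only [map_sub]
    ring
  have hb : ∀ x y : ↥U0, f (Q (x + y) - Q x - Q y) * Φ u0 z0 = B0 x y := by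
    intro x y
    have e1 := hQ (x + y) z0
    have e2 := hQ x z0
    have e3 := hQ y z0
    have e4 := hB0 (x : D1 → F) y
    rw [Submodule.coe_add, e4, e2, e3] at e1
    rw [map_sub, map_sub]
    linear_combination -e1
  have hBadd : ∀ x y y' : D1 → F, B0 x (y + y') = B0 x y + B0 x y' := by
    intro x y y'
    show f (Pf x (y + y') z0) + ω * f (Pf (W ψ x 7 5) (W ψ (y + y') 7 5) z0) + ω ^ 2 * f (Pf (W ψ x 5 6) (W ψ (y + y') 5 6) z0) =
      (f (Pf x y z0) + ω * f (Pf (W ψ x 7 5) (W ψ y 7 5) z0) + ω ^ 2 * f (Pf (W ψ x 5 6) (W ψ y 5 6) z0)) +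
      (f (Pf x y' z0) + ω * f (Pf (W ψ x 7 5) (W ψ y' 7 5) z0) + ω ^ 2 * f (Pf (W ψ x 5 6) (W ψ y' 5 6) z0))
    rw [hW, hW, Pf_add_right, Pf_add_right, Pf_add_right]
    simp only [map_add]
    ring
  have hBsmul : ∀ (c : F) (x y : D1 → F), B0 x (c • y) = f c * B0 x y := by
    intro c x y
    show f (Pf x (c • y) z0) + ω * f (Pf (W ψ x 7 5) (W ψ (c • y) 7 5) z0) + ω ^ 2 * f (Pf (W ψ x 5 6) (W ψ (c • y) 5 6) z0) =
      f c * (f (Pf x y z0) + ω * f (Pf (W ψ x 7 5) (W ψ y 7 5) z0) + ω ^ 2 * f (Pf (W ψ x 5 6) (W ψ y 5 6) z0))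
    rw [hWs, hWs, Pf_smul_right, Pf_smul_right, Pf_smul_right]
    simp only [map_mul]
    ring
  let b : ↥U0 → ↥U0 →ₗ[F] F := fun x =>
    { toFun := fun y => Q (x + y) - Q x - Q y
      map_add' := fun y y' => by
        apply f.injective
        apply mul_right_cancel₀ hz0
        rw [hb, map_add, add_mul, hb, hb, Submodule.coe_add, hBadd]
      map_smul' := fun c y => by
        apply f.injective
        apply mul_right_cancel₀ hz0
        rw [hb, Submodule.coe_smul, hBsmul, RingHom.id_apply, smul_eq_mul, map_mul, mul_assoc, hb] }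
  obtain ⟨v, hv0, hv⟩ := exists_zero h2 hdim Q b (fun x y => by
    show Q (x + y) = Q x + Q y + (Q (x + y) - Q x - Q y)
    ring) (fun c x => by
    apply f.injective
    apply mul_right_cancel₀ hz0
    rw [← hQ (c • x) z0, Submodule.coe_smul, map_mul, map_pow, mul_assoc, ← hQ x z0]
    show f (Mu F (c • (x : D1 → F)) z0) + ω * f (Mu F (W ψ (c • (x : D1 → F)) 7 5) z0) +
      ω ^ 2 * f (Mu F (W ψ (c • (x : D1 → F)) 5 6) z0) = f c ^ 2 * (f (Mu F (x : D1 → F) z0) +
      ω * f (Mu F (W ψ (x : D1 → F) 7 5) z0) + ω ^ 2 * f (Mu F (W ψ (x : D1 → F) 5 6) z0))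
    rw [hWs, hWs, Mu_smul, Mu_smul, Mu_smul, LinearMap.smul_apply, LinearMap.smul_apply, LinearMap.smul_apply, smul_eq_mul,
      smul_eq_mul, smul_eq_mul]
    simp only [map_mul, map_pow]
    ring)
  refine hfin v v.2 (fun h => hv0 (Subtype.ext h)) fun z => ?_
  rw [hQ v z, hv, map_zero, zero_mul]

end main

end Cfsg.Agent.R2.T1.T1p

private theorem dce_1baed9c7ab60 : _root_.True := by
  try have : _root_.True := by simp only [_root_.Cfsg.Agent.R2.T1.T1p.pick.congr_simp]
  exact _root_.True.intro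
end

-- part: R2/T1/P3/Cj
section
prune_inst 0x4400100000000180592010020444c00019200630001d9c00844084673632907a741d6d01a0001daaee0604ac00811000059423800002a0086004001012094ab72e2b33cbc04360097c0f887100000000000000000000000000000051004000000000
set_option linter.all false
open scoped Cfsg.Agent.FastGrp

/-!
# The action of the preimage of `H` on the lift (helper5)

* `lift_unique` : two lifts of a homomorphism from an alternating group are equal;
* `conj_psi` : `h ψ(a) h⁻¹ = ψ(σ a σ⁻¹)` for every `h` of the preimage of `H`.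
-/

set_option autoImplicit false

namespace Cfsg.Agent.R2.T1.P3

open Cfsg Cfsg.Lie Module Equiv
open Cfsg.Agent.H952.F4 (MaxAlt)
open Cfsg.Agent.R2.T1

variable {F : Type*} [Field F]

/-- lifts are unique -/
theorem lift_unique {n : ℕ} (hn : 5 ≤ n) {f g : ↥(alternatingGroup (Fin n)) →* Gh F} (h : ∀ a, ad F (f a) = ad F (g a))
    (a : ↥(alternatingGroup (Fin n))) : f a = g a := by
  have hz : ∀ a, ad F (f a * (g a)⁻¹) = 1 := fun a => by rw [map_mul, map_inv, h, mul_inv_cancel]
  let z : ↥(alternatingGroup (Fin n)) →* Gh F := MonoidHom.mk' (fun a => f a * (g a)⁻¹) fun a b => by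
    have h1 := ker_comm (hz b) (f a)
    have h2 := ker_comm (hz b) (g a)⁻¹
    show f (a * b) * (g (a * b))⁻¹ = f a * (g a)⁻¹ * (f b * (g b)⁻¹)
    rw [map_mul, map_mul, mul_inv_rev, mul_assoc (f a) (g a)⁻¹, h2]
    group
  have hzc : ∀ a b, z a * z b = z b * z a := fun a b => (ker_comm (hz b) (z a))
  have h3 : commutator ↥(alternatingGroup (Fin n)) ≤ z.ker := by
    rw [commutator_def, Subgroup.commutator_le]
    intro a _ b _
    rw [MonoidHom.mem_ker, map_commutatorElement, commutatorElement_eq_one_iff_mul_comm]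
    exact hzc a b
  rw [alt_perfect hn] at h3
  have h4 : z a = 1 := MonoidHom.mem_ker.1 (h3 (Subgroup.mem_top a))
  exact mul_inv_eq_one.1 h4

/-- conjugation by a permutation -/
def cjm {n : ℕ} (σ : Perm (Fin n)) : ↥(alternatingGroup (Fin n)) →* ↥(alternatingGroup (Fin n)) where
  toFun a := ⟨σ * a * σ⁻¹, by
    have ha := a.2
    rw [Perm.mem_alternatingGroup] at ha ⊢
    rw [Perm.sign_mul, Perm.sign_mul, ha, mul_one, Perm.sign_inv, Int.units_mul_self]⟩
  map_one' := Subtype.ext (by simp)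
  map_mul' a b := Subtype.ext (by simp [mul_assoc])

theorem conj_psi {n : ℕ} (hn : 7 ≤ n) {H : Subgroup ↥(chevE7.group F)} {φ : ↥(alternatingGroup (Fin n)) →* ↥(chevE7.group F)}
    (hM : MaxAlt H n φ) {ψ : ↥(alternatingGroup (Fin n)) →* Gh F} (hL : Lift φ ψ) {h : Gh F} (hh : ad F h ∈ H) :
    ∃ σ : Perm (Fin n), ∀ a b : ↥(alternatingGroup (Fin n)), (b : Perm (Fin n)) = σ * a * σ⁻¹ → h * ψ a * h⁻¹ = ψ b := by
  obtain ⟨σ, hσ⟩ := exists_perm hn hM hh
  refine ⟨σ, fun a b hab => ?_⟩
  have key := lift_unique (F := F) (n := n) (by omega) (f := (MulAut.conj h).toMonoidHom.comp ψ) (g := ψ.comp (cjm σ))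
    (fun a => by
      show ad F (h * ψ a * h⁻¹) = ad F (ψ (cjm σ a))
      rw [map_mul, map_mul, map_inv, hL, hL]
      exact hσ a (cjm σ a) rfl) a
  have h1 : b = cjm σ a := Subtype.ext hab
  rw [h1]
  exact key

end Cfsg.Agent.R2.T1.P3
end

-- part: R2/T1/P3/N4d
section
prune_inst 0x440110000000800059203000040080000020040000088c00804094060620902a14090001000808ea8007008000811000110420000000a000c000001012090830202b108a004060097800080000000000000000000000000000000010004000000000
set_option linter.all false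
open scoped Cfsg.Agent.FastGrp

-- part: R2/T1/Mu/Sing
section
/-!
# MU27 (S5771): `Pure` (`DD x x = 0`) and `Sing` (`Mu x = 0`) agree for odd characteristic (helper27)
-/

set_option autoImplicit false

namespace Cfsg.Agent.R2.T1.Mu

open Cfsg Cfsg.Lie Matrix Module
open Cfsg.Agent.R2.T1 Cfsg.Agent.R2.PX
open Cfsg.Agent.H943.E7V.Block (D1 rho)

universe u
variable {F : Type u} [Field F]

theorem pure_iff_sing (h2 : (2 : F) ≠ 0) (x : D1 → F) : _root_.Cfsg.Agent.R2.PX.Pure F x ↔ Mu2.Sing x := by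
  by_cases h0 : x = 0
  · subst h0
    exact ⟨fun _ => Mu2.Mu_zero, fun _ => pure_zero⟩
  constructor
  · intro h
    obtain ⟨g, c, -, hg⟩ := pure_top h2 h h0
    rw [← Mu2.sing_V (g := g), hg]
    exact Mu2.sing_bs _ _
  · intro h
    obtain ⟨m, hm⟩ : ∃ m, x m ≠ 0 := by
      by_contra hno
      push Not at hno
      exact h0 (funext hno)
    obtain ⟨g, hg, -⟩ := Mu2.nf h hm
    rw [hg]
    exact pure_smul (pure_V (Tr.bs_pure m) g) _

end Cfsg.Agent.R2.T1.Mu
end

-- part: R2/T1/P3/N4d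
section
/-!
# S5771, box P3, `p = 3`, `n = 9` (helper3), part 4: the contradiction
-/

set_option autoImplicit false

namespace Cfsg.Agent.R2.T1.P3

open Cfsg Cfsg.Lie Module Matrix
open Cfsg.Agent.R2.T1 Cfsg.Agent.R2.T1.Mu Cfsg.Agent.R2.PX
open Cfsg.Agent.H943.E7V.Block (D1 rho)
open Cfsg.Agent.H952.F4 (MaxAlt)
open Equiv

universe u

theorem comm_apply9 {α g : ↥(alternatingGroup (Fin 9))} (h : g * α = α * g) (i : Fin 9) :
    (g : Perm (Fin 9)) ((α : Perm (Fin 9)) i) = (α : Perm (Fin 9)) ((g : Perm (Fin 9)) i) := by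
  have h1 := congrArg (fun x : ↥(alternatingGroup (Fin 9)) => (x : Perm (Fin 9)) i) h
  exact h1

theorem fix_of9 {α : ↥(alternatingGroup (Fin 9))} (i : Fin 8) (g1 g2 g3 : ↥(alternatingGroup (Fin 8)))
    (h1 : res9 g1 * α = α * res9 g1) (h2 : res9 g2 * α = α * res9 g2) (h3 : res9 g3 * α = α * res9 g3)
    (e1 : (g1 : Perm (Fin 8)) i = i) (e2 : (g2 : Perm (Fin 8)) i = i) (e3 : (g3 : Perm (Fin 8)) i ≠ i)
    (hd : ∀ x : Fin 8, (g1 : Perm (Fin 8)) x = x → (g2 : Perm (Fin 8)) x = x → x = i ∨ (g3 : Perm (Fin 8)) x = x) :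
    (α : Perm (Fin 9)) i.castSucc = i.castSucc := by
  have k1 := comm_apply9 h1 i.castSucc
  have k2 := comm_apply9 h2 i.castSucc
  have k3 := comm_apply9 h3 i.castSucc
  rw [res9_cast, e1] at k1
  rw [res9_cast, e2] at k2
  have hinj : ∀ x y : Fin 9, (α : Perm (Fin 9)) x = (α : Perm (Fin 9)) y → x = y := fun x y h =>
    (α : Perm (Fin 9)).injective h
  obtain ⟨y, hy⟩ : ∃ y, (α : Perm (Fin 9)) i.castSucc = y := ⟨_, rfl⟩
  rw [hy] at k1 k2 k3 ⊢
  have hfix : (res9 g3 : Perm (Fin 9)) y = y → False := by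
    intro h
    rw [h, ← hy, res9_cast] at k3
    exact e3 (Fin.castSucc_injective _ (hinj _ _ k3)).symm
  induction y using Fin.lastCases with
  | last => exact absurd (res9_last g3) hfix
  | cast y =>
    rw [res9_cast] at k1 k2
    rcases hd y (Fin.castSucc_injective _ k1) (Fin.castSucc_injective _ k2) with h | h
    · rw [h]
    · exact absurd (by rw [res9_cast, h]) hfix

/-- `(0 1)(6 7)` -/
def dtr : ↥(alternatingGroup (Fin 8)) := ⟨_root_.Equiv.swap 0 1 * swap 6 7, by
  rw [Perm.mem_alternatingGroup, Perm.sign_mul, Perm.sign_swap (by decide), Perm.sign_swap (by decide)]; rfl⟩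

/-- the centraliser of `(S_6 × S_2) ∩ A_8` in `A_9` is trivial -/
theorem alpha_nine {α : ↥(alternatingGroup (Fin 9))}
    (h : ∀ g : ↥(alternatingGroup (Fin 8)), (∀ i : Fin 8, ((g : Perm (Fin 8)) i = 6 ∨ (g : Perm (Fin 8)) i = 7) ↔
      (i = 6 ∨ i = 7)) → res9 g * α = α * res9 g) : α = 1 := by
  have f0 := fix_of9 (α := α) 0 (cy 1 2 3 (by decide)) (cy 3 4 5 (by decide)) (cy 0 1 2 (by decide))
    (h _ (by decide)) (h _ (by decide)) (h _ (by decide)) (by decide) (by decide)
    (by decide) (by decide)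
  have f1 := fix_of9 (α := α) 1 (cy 0 2 3 (by decide)) (cy 3 4 5 (by decide)) (cy 0 1 2 (by decide))
    (h _ (by decide)) (h _ (by decide)) (h _ (by decide)) (by decide) (by decide)
    (by decide) (by decide)
  have f2 := fix_of9 (α := α) 2 (cy 0 1 3 (by decide)) (cy 3 4 5 (by decide)) (cy 0 1 2 (by decide))
    (h _ (by decide)) (h _ (by decide)) (h _ (by decide)) (by decide) (by decide)
    (by decide) (by decide)
  have f3 := fix_of9 (α := α) 3 (cy 0 1 2 (by decide)) (cy 2 4 5 (by decide)) (cy 3 4 5 (by decide))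
    (h _ (by decide)) (h _ (by decide)) (h _ (by decide)) (by decide) (by decide)
    (by decide) (by decide)
  have f4 := fix_of9 (α := α) 4 (cy 0 1 2 (by decide)) (cy 2 3 5 (by decide)) (cy 3 4 5 (by decide))
    (h _ (by decide)) (h _ (by decide)) (h _ (by decide)) (by decide) (by decide)
    (by decide) (by decide)
  have f5 := fix_of9 (α := α) 5 (cy 0 1 2 (by decide)) (cy 2 3 4 (by decide)) (cy 3 4 5 (by decide))
    (h _ (by decide)) (h _ (by decide)) (h _ (by decide)) (by decide) (by decide)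
    (by decide) (by decide)
  have hinj : ∀ x y : Fin 9, (α : Perm (Fin 9)) x = (α : Perm (Fin 9)) y → x = y := fun x y h =>
    (α : Perm (Fin 9)).injective h
  -- the last point
  have f8 : (α : Perm (Fin 9)) 8 = 8 := by
    have k := comm_apply9 (h dtr (by decide)) 8
    rw [res9_last] at k
    obtain ⟨y, hy⟩ : ∃ y, (α : Perm (Fin 9)) 8 = y := ⟨_, rfl⟩
    rw [hy] at k ⊢
    induction y using Fin.lastCases with
    | last => rfl
    | cast y =>
      exfalso
      rw [res9_cast] at k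
      have k1 := Fin.castSucc_injective _ k
      have k2 : y = 2 ∨ y = 3 ∨ y = 4 ∨ y = 5 := by
        clear hy k
        revert y
        decide
      have k3 : (α : Perm (Fin 9)) y.castSucc = y.castSucc := by
        rcases k2 with rfl | rfl | rfl | rfl
        · exact f2
        · exact f3
        · exact f4
        · exact f5
      have k4 := hinj _ _ (hy.trans k3.symm)
      rcases k2 with rfl | rfl | rfl | rfl <;> exact absurd k4 (by decide)
  have n6 : ∀ j : Fin 9, (α : Perm (Fin 9)) j = j → j ≠ 6 → (α : Perm (Fin 9)) 6 ≠ j := fun j hj hne he =>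
    hne (hinj _ _ (hj.trans he.symm))
  have n7 : ∀ j : Fin 9, (α : Perm (Fin 9)) j = j → j ≠ 7 → (α : Perm (Fin 9)) 7 ≠ j := fun j hj hne he =>
    hne (hinj _ _ (hj.trans he.symm))
  have g0 : (α : Perm (Fin 9)) 0 = 0 := f0
  have g1 : (α : Perm (Fin 9)) 1 = 1 := f1
  have g2 : (α : Perm (Fin 9)) 2 = 2 := f2
  have g3 : (α : Perm (Fin 9)) 3 = 3 := f3
  have g4 : (α : Perm (Fin 9)) 4 = 4 := f4
  have g5 : (α : Perm (Fin 9)) 5 = 5 := f5
  have m60 := n6 0 g0 (by decide)
  have m61 := n6 1 g1 (by decide)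
  have m62 := n6 2 g2 (by decide)
  have m63 := n6 3 g3 (by decide)
  have m64 := n6 4 g4 (by decide)
  have m65 := n6 5 g5 (by decide)
  have m68 := n6 8 f8 (by decide)
  have m70 := n7 0 g0 (by decide)
  have m71 := n7 1 g1 (by decide)
  have m72 := n7 2 g2 (by decide)
  have m73 := n7 3 g3 (by decide)
  have m74 := n7 4 g4 (by decide)
  have m75 := n7 5 g5 (by decide)
  have m78 := n7 8 f8 (by decide)
  have m67 : (α : Perm (Fin 9)) 6 ≠ (α : Perm (Fin 9)) 7 := fun h => absurd (hinj _ _ h) (by decide)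
  have c67 : ((α : Perm (Fin 9)) 6 = 6 ∧ (α : Perm (Fin 9)) 7 = 7) ∨
      ((α : Perm (Fin 9)) 6 = 7 ∧ (α : Perm (Fin 9)) 7 = 6) := by
    generalize (α : Perm (Fin 9)) 6 = x at *
    generalize (α : Perm (Fin 9)) 7 = y at *
    clear f0 f1 f2 f3 f4 f5 f8 g0 g1 g2 g3 g4 g5 hinj n6 n7 h
    clear α
    have hx := x.2
    have hy := y.2
    simp only [Fin.ext_iff, ne_eq] at m60 m61 m62 m63 m64 m65 m68 m70 m71 m72 m73 m74 m75 m78 m67 ⊢
    have c0 : ((0 : Fin 9) : ℕ) = 0 := rfl
    have c1 : ((1 : Fin 9) : ℕ) = 1 := rfl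
    have c2 : ((2 : Fin 9) : ℕ) = 2 := rfl
    have c3 : ((3 : Fin 9) : ℕ) = 3 := rfl
    have c4 : ((4 : Fin 9) : ℕ) = 4 := rfl
    have c5 : ((5 : Fin 9) : ℕ) = 5 := rfl
    have c6 : ((6 : Fin 9) : ℕ) = 6 := rfl
    have c7 : ((7 : Fin 9) : ℕ) = 7 := rfl
    have c8 : ((8 : Fin 9) : ℕ) = 8 := rfl
    (solve | lia | omega)
  rcases c67 with ⟨h6, h7⟩ | ⟨h6, h7⟩
  · apply Subtype.ext
    ext i
    fin_cases i
    · exact congrArg Fin.val g0
    · exact congrArg Fin.val g1
    · exact congrArg Fin.val g2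
    · exact congrArg Fin.val g3
    · exact congrArg Fin.val g4
    · exact congrArg Fin.val g5
    · exact congrArg Fin.val h6
    · exact congrArg Fin.val h7
    · exact congrArg Fin.val f8
  · exfalso
    have h8 : (α : Perm (Fin 9)) = swap 6 7 := by
      ext i
      fin_cases i
      · exact congrArg Fin.val g0
      · exact congrArg Fin.val g1
      · exact congrArg Fin.val g2
      · exact congrArg Fin.val g3
      · exact congrArg Fin.val g4
      · exact congrArg Fin.val g5
      · exact congrArg Fin.val h6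
      · exact congrArg Fin.val h7
      · exact congrArg Fin.val f8
    have h9 := Perm.mem_alternatingGroup.1 α.2
    rw [h8, Perm.sign_swap (by decide)] at h9
    exact absurd h9 (by decide)

section
variable {F K : Type u} [Field F] [Field K] (f : F →+* K) {ψ : ↥(alternatingGroup (Fin 9)) →* Gh F}
  {φ : ↥(alternatingGroup (Fin 9)) →* ↥(chevE7.group F)} {a b : Fin 9 → Fin 9 → D1 → F} {c : F}

/-- the case of vanishing cyclic sums -/
theorem no_all [Finite F] [IsAlgClosed K] [CharP F 3] {H : Subgroup ↥(chevE7.group F)} (hM : MaxAlt H 9 φ)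
    (hL : Lift φ ψ) (hN : Nin ψ a b c) (hF : FixA7 ψ a b)
    (hP : PQ f (fun i : Fin 8 => a i.castSucc 8) (fun i : Fin 8 => b i.castSucc 8))
    (hall : ∀ s t, Zc a b s t) : False := by
  have h30 : (3 : F) = 0 := by exact_mod_cast CharP.cast_eq_zero F 3
  have h2 : (2 : F) ≠ 0 := by
    intro h
    apply one_ne_zero (α := F)
    linear_combination h30 - h
  have hs := hN.sev h2 h30
  have hC : ∀ h : Gh F, ad F h ∈ H → ∃ σ : Perm (Fin 9), Ind ψ h σ := fun h hh =>
    conj_psi (by decide) hM hL hh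
  have hS := stab_V7 hN h2 hF hC hall
  obtain ⟨z, hzH, hzp, hz1, hzc⟩ := exists_z f h2 hM.coatom hs hS hP (p := 3)
    (ξ := fun i => if i = 6 ∨ i = 7 then 1 else 0) (by
        simp only [Fin.sum_univ_eight]
        simp only [_root_.Fin.isValue, _root_.Fin.reduceEq, _root_.or_self, ↓ _root_.reduceIte, _root_.ne_eq, _root_.OfNat.ofNat_ne_zero, _root_.not_false_eq_true, _root_.zero_pow, _root_.add_zero, _root_.or_false, _root_.one_pow, _root_.zero_add, _root_.or_true]
        linear_combination 4 * h30) ⟨0, by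
        simp only [Fin.sum_univ_eight]
        simp only [_root_.Fin.isValue, _root_.Fin.reduceEq, _root_.or_self, ↓ _root_.reduceIte, _root_.MulZeroClass.mul_zero, _root_.add_zero, _root_.or_false, _root_.zero_add, _root_.or_true, _root_.zero_sub, _root_.neg_add_rev, _root_.ne_eq]
        intro h
        apply one_ne_zero (α := F)
        linear_combination h30 + h⟩
  have hadp : ad F z ^ 3 = 1 := by rw [← map_pow, hzp, map_one]
  have h4 : ad F z = (ad F z * ad F z) ^ 2 := by
    rw [← pow_two, ← pow_mul, show 2 * 2 = 3 + 1 by rfl, pow_succ, hadp, one_mul]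
  have h5 : ad F z ∈ φ.range := by
    rw [h4]; exact pow_mem (hM.sq _ hzH) _
  obtain ⟨α, hα⟩ := h5
  have h1 : α = 1 := by
    apply alpha_nine
    intro g hg
    apply hM.inj
    rw [map_mul, map_mul, hα, ← hL (res9 g), ← map_mul, ← map_mul]
    congr 1
    refine hzc g fun i => ?_
    show (if (g : Perm (Fin 8)) i = 6 ∨ (g : Perm (Fin 8)) i = 7 then (1 : F) else 0) = if i = 6 ∨ i = 7 then 1 else 0
    simp only [hg i]
  apply hz1
  rw [← hα, h1, map_one]

/-- **the contradiction for `n = 9`, `p = 3`** -/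
theorem no_nine [Finite F] [IsAlgClosed K] [CharP F 3] {H : Subgroup ↥(chevE7.group F)} (hM : MaxAlt H 9 φ)
    (hL : Lift φ ψ) (hN : Nin ψ a b c) (hF : FixA7 ψ a b)
    (hP : PQ f (fun i : Fin 8 => a i.castSucc 8) (fun i : Fin 8 => b i.castSucc 8))
    (h0 : ∃ s t : F, (s ≠ 0 ∨ t ≠ 0) ∧ Zc a b s t) : False := by
  have h30 : (3 : F) = 0 := by exact_mod_cast CharP.cast_eq_zero F 3
  have h2 : (2 : F) ≠ 0 := by
    intro h
    apply one_ne_zero (α := F)
    linear_combination h30 - h
  have hs := hN.sev h2 h30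
  have hC : ∀ h : Gh F, ad F h ∈ H → ∃ σ : Perm (Fin 9), Ind ψ h σ := fun h hh =>
    conj_psi (by decide) hM hL hh
  rcases dicho f hN h2 hs hP h0 with hall | hpure
  · exact no_all f hM hL hN hF hP hall
  · refine Mu2.ts hM.coatom ?_ (stab_WZ hN h2 hF hC) ?_ fun x hx => (pure_iff_sing h2 x).1 (hpure x hx)
    · -- the order
      have h1 : Nat.card ↥H ≤ (9).factorial := by
        have h3 := hM.card
        rwa [if_neg (by decide)] at h3
      have h3 : 2 < Nat.card F := by
        have := Fintype.ofFinite F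
        rw [Nat.card_eq_fintype_card]
        have : Fact (Nat.Prime 3) := ⟨Nat.prime_three⟩
        obtain ⟨n, hn, hq⟩ := FiniteField.card F 3
        rw [hq]
        calc 2 < 3 ^ 1 := by norm_num
          _ ≤ 3 ^ (n : ℕ) := Nat.pow_le_pow_right (by norm_num) n.2
      calc Nat.card ↥H ≤ (9).factorial := h1
        _ < 3 ^ 27 := by decide
        _ ≤ Nat.card F ^ 27 := Nat.pow_le_pow_left h3 27
    · -- the subspace is not zero
      obtain ⟨s, t, hst, hz⟩ := h0
      intro hbot
      have hm : s • a 0 1 + t • b 0 1 ∈ WZ a b := Submodule.subset_span ⟨s, t, 0, 1, hz, rfl⟩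
      rw [hbot, Submodule.mem_bot] at hm
      have hg : gm F 0 1 0 1 = 2 := by unfold gm; norm_num
      have e1 : sf F (s • a 0 1 + t • b 0 1) (b 0 1) = s * (c * 2) := by
        rw [map_add, LinearMap.add_apply, map_smul, map_smul, LinearMap.smul_apply, LinearMap.smul_apply, hN.ab,
          hN.isoB, hg]
        simp
      have e2 : sf F (a 0 1) (s • a 0 1 + t • b 0 1) = t * (c * 2) := by
        rw [map_add, map_smul, map_smul, hN.ab, hN.isoA, hg]
        simp
      rw [hm, map_zero, LinearMap.zero_apply] at e1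
      rw [hm, map_zero] at e2
      have hc2 : c * 2 ≠ 0 := mul_ne_zero hN.ne h2
      rcases hst with h | h
      · exact mul_ne_zero h hc2 e1.symm
      · exact mul_ne_zero h hc2 e2.symm

end

end Cfsg.Agent.R2.T1.P3
end
end

-- part: R2/PX/C/StdP
section
prune_inst 0x10000000000000
set_option linter.all false

-- part: R2/PX/C/StdT0
section
/-!
# Pattern X, Part C: the standard configuration, the triple products (helper3)
-/

set_option autoImplicit false
set_option maxRecDepth 100000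

namespace Cfsg.Agent.R2.PX.C

open Cfsg Cfsg.Lie Matrix
open Cfsg.Agent.R2.T1 Cfsg.Agent.R2.PX
open Cfsg.Agent.H943.E7V.Block (D1 rho)

universe u
variable {F : Type u} [Field F]

/-- `D(u_0, u_1)` -/
def q01 : ℕ := 0x3

private noncomputable def _root_.Cfsg.Agent.LsF.f3ba342_0 : {f // @Cfsg.Agent.R2.PX.lk = f} := ⟨_, by first | (delta Cfsg.Agent.R2.PX.lk; rewrite [Cfsg.Agent.LsF.nmul_pat]; exact rfl) | exact rfl⟩
private noncomputable def _root_.Cfsg.Agent.LsF.f3ba342_1 : {f // @Cfsg.Agent.R2.PX.C.sn = f} := ⟨_, by first | (delta Cfsg.Agent.R2.PX.C.sn; rewrite [Cfsg.Agent.LsF.nmod_pat, Cfsg.Agent.LsF.cond_eq]; exact rfl) | exact rfl⟩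
private noncomputable def _root_.Cfsg.Agent.LsF.f3ba342_2 : {f // @Cfsg.Agent.R2.PX.C.pa = f} := ⟨_, by first | (delta Cfsg.Agent.R2.PX.C.pa; rewrite [Cfsg.Agent.LsF.nmul_pat, Cfsg.Agent.LsF.nsub_pat]; exact rfl) | exact rfl⟩
private noncomputable def _root_.Cfsg.Agent.LsF.f3ba342_3 : {f // @Cfsg.Agent.R2.PX.C.cr = f} := ⟨_, by first | (delta Cfsg.Agent.R2.PX.C.cr; rewrite [Cfsg.Agent.LsF.f3ba342_0.2, Cfsg.Agent.LsF.f3ba342_1.2, Cfsg.Agent.LsF.f3ba342_2.2, Cfsg.Agent.LsF.nmul_pat, Cfsg.Agent.LsF.nsub_pat, Cfsg.Agent.LsF.ndiv_pat, Cfsg.Agent.LsF.map_eq, Cfsg.Agent.LsF.sum_eq, Cfsg.Agent.LsF.getD_eq]; exact rfl) | exact rfl⟩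
private noncomputable def _root_.Cfsg.Agent.LsF.f3ba342_4 : {f // @Cfsg.Agent.R2.PX.C.q = f} := ⟨_, by first | (delta Cfsg.Agent.R2.PX.C.q; rewrite [Cfsg.Agent.LsF.nmul_pat]; exact rfl) | exact rfl⟩
private noncomputable def _root_.Cfsg.Agent.LsF.f3ba342_5 : {f // @Cfsg.Agent.R2.PX.C.ch = f} := ⟨_, by first | (delta Cfsg.Agent.R2.PX.C.ch; rewrite [Cfsg.Agent.LsF.f3ba342_0.2, Cfsg.Agent.LsF.f3ba342_2.2, Cfsg.Agent.LsF.f3ba342_1.2, Cfsg.Agent.LsF.nmul_pat, Cfsg.Agent.LsF.nsub_pat, Cfsg.Agent.LsF.ndiv_pat, Cfsg.Agent.LsF.map_eq, Cfsg.Agent.LsF.sum_eq]; exact rfl) | exact rfl⟩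
private noncomputable def _root_.Cfsg.Agent.LsF.f3ba342_6 : {f // @Cfsg.Agent.R2.PX.C.chkQ = f} := ⟨_, by first | (delta Cfsg.Agent.R2.PX.C.chkQ; rewrite [Cfsg.Agent.LsF.f3ba342_3.2, Cfsg.Agent.LsF.f3ba342_4.2, Cfsg.Agent.LsF.f3ba342_5.2, Cfsg.Agent.LsF.nadd_pat, Cfsg.Agent.LsF.nmul_pat, Cfsg.Agent.LsF.nsub_pat, Cfsg.Agent.LsF.nmod_pat, Cfsg.Agent.LsF.and_eq, Cfsg.Agent.LsF.all_eq, Cfsg.Agent.LsF.range_eq]; exact rfl) | exact rfl⟩
theorem Q01 : chkQ u0 u1 q01 = true := by ((try (rewrite [Cfsg.Agent.LsF.f3ba342_6.2])); decide +kernel)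

/-- `D(u_0, u_1) u_2` -/
def t012 : ℕ := 0x1

private noncomputable def _root_.Cfsg.Agent.LsF.f3ba342_7 : {f // @Cfsg.Agent.R2.PX.C.chkD = f} := ⟨_, by first | (delta Cfsg.Agent.R2.PX.C.chkD; rewrite [Cfsg.Agent.LsF.f3ba342_4.2, Cfsg.Agent.LsF.f3ba342_1.2, Cfsg.Agent.LsF.f3ba342_2.2, Cfsg.Agent.LsF.nadd_pat, Cfsg.Agent.LsF.nmul_pat, Cfsg.Agent.LsF.ndiv_pat, Cfsg.Agent.LsF.nmod_pat, Cfsg.Agent.LsF.all_eq, Cfsg.Agent.LsF.map_eq, Cfsg.Agent.LsF.range_eq, Cfsg.Agent.LsF.sum_eq]; exact rfl) | exact rfl⟩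
theorem T012 : chkD q01 u2 t012 = true := by ((try (rewrite [Cfsg.Agent.LsF.f3ba342_7.2])); decide +kernel)

/-- `D(u_0, u_1) u_3` -/
def t013 : ℕ := 0x200000000040000000000000000200000000000001

theorem T013 : chkD q01 u3 t013 = true := by ((try (rewrite [Cfsg.Agent.LsF.f3ba342_7.2])); decide +kernel)

/-- `D(u_0, u_1) u_4` -/
def t014 : ℕ := 0x200000000030000100000400000300000000000001

theorem T014 : chkD q01 u4 t014 = true := by ((try (rewrite [Cfsg.Agent.LsF.f3ba342_7.2])); decide +kernel)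

/-- `D(u_0, u_1) u_5` -/
def t015 : ℕ := 0x200200300040000200000300000000001000200001

theorem T015 : chkD q01 u5 t015 = true := by ((try (rewrite [Cfsg.Agent.LsF.f3ba342_7.2])); decide +kernel)

/-- `D(u_0, u_1) u_6` -/
def t016 : ℕ := 0x200300200040000200000300000000004000300001

theorem T016 : chkD q01 u6 t016 = true := by ((try (rewrite [Cfsg.Agent.LsF.f3ba342_7.2])); decide +kernel)

/-- `D(u_0, u_1) u_7` -/
def t017 : ℕ := 0x200000000000000000000000000000000000000000

theorem T017 : chkD q01 u7 t017 = true := by ((try (rewrite [Cfsg.Agent.LsF.f3ba342_7.2])); decide +kernel)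

/-- `D(u_1, u_4)` -/
def q14 : ℕ := 0x400000040003000020000400000000300000000000000000000000000000001400110000102000103000000000003

theorem Q14 : chkQ u1 u4 q14 = true := by ((try (rewrite [Cfsg.Agent.LsF.f3ba342_6.2])); decide +kernel)

/-- `D(u_1, u_4) u_5` -/
def t145 : ℕ := 0x2000000000004223000420304030020000303004000001000000000000000000000000000000200100300020000300000400000200002000100001

theorem T145 : chkD q14 u5 t145 = true := by ((try (rewrite [Cfsg.Agent.LsF.f3ba342_7.2])); decide +kernel)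

/-- `D(u_1, u_4) u_6` -/
def t146 : ℕ := 0x2000000000001323000420201030020000203004000004000000000000000000000000000000200400200020000300000400000200003000400001

theorem T146 : chkD q14 u6 t146 = true := by ((try (rewrite [Cfsg.Agent.LsF.f3ba342_7.2])); decide +kernel)

/-- `D(u_1, u_4) u_7` -/
def t147 : ℕ := 0x2000000000000042000120000000000000000000000000000000000000000000000000000000200000000000000000000000000000000000000000

theorem T147 : chkD q14 u7 t147 = true := by ((try (rewrite [Cfsg.Agent.LsF.f3ba342_7.2])); decide +kernel)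

/-- `D(u_1, u_5)` -/
def q15 : ℕ := 0x401040020001000040000000030010300000000000000000000000000000133303200410200010301003000200003

theorem Q15 : chkQ u1 u5 q15 = true := by ((try (rewrite [Cfsg.Agent.LsF.f3ba342_6.2])); decide +kernel)

/-- `D(u_1, u_5) u_6` -/
def t156 : ℕ := 0x2000000000000012000010000030010000004004000000000000000000000000000000000000200000000000000400000200000300000000000001

theorem T156 : chkD q15 u6 t156 = true := by ((try (rewrite [Cfsg.Agent.LsF.f3ba342_7.2])); decide +kernel)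

/-- `D(u_1, u_5) u_7` -/
def t157 : ℕ := 0x2000000000002430000340003000000000300000000000000000000000000000000000000000200000000000000000000000000000000000000000

theorem T157 : chkD q15 u7 t157 = true := by ((try (rewrite [Cfsg.Agent.LsF.f3ba342_7.2])); decide +kernel)

/-- `D(u_2, u_5)` -/
def q25 : ℕ := 0x400000200010030240030330423042014000000000000000000000000000000301004000400002000010003001033000000000000000000000000000000000

theorem Q25 : chkQ u2 u5 q25 = true := by ((try (rewrite [Cfsg.Agent.LsF.f3ba342_6.2])); decide +kernel)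

/-- `D(u_2, u_5) u_6` -/
def t256 : ℕ := 0x2310000102000000000000000040020100003001000000000000000000000000100003000000000000000000000000000000000000000000000001

theorem T256 : chkD q25 u6 t256 = true := by ((try (rewrite [Cfsg.Agent.LsF.f3ba342_7.2])); decide +kernel)

/-- `D(u_2, u_5) u_7` -/
def t257 : ℕ := 0x2411343432000000000000000000000000000000000000000000000000000000000000000000000000000000000000000000000000000000000000

theorem T257 : chkD q25 u7 t257 = true := by ((try (rewrite [Cfsg.Agent.LsF.f3ba342_7.2])); decide +kernel)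

/-- `D(u_2, u_6)` -/
def q26 : ℕ := 0x400000200010020310020220423042041000000000000000000000000000000301004000100003000040002001033000000000000000000000000000000000

theorem Q26 : chkQ u2 u6 q26 = true := by ((try (rewrite [Cfsg.Agent.LsF.f3ba342_6.2])); decide +kernel)

/-- `D(u_2, u_6) u_7` -/
def t267 : ℕ := 0x2414212432000000000000000000000000000000000000000000000000000000000000000000000000000000000000000000000000000000000000

theorem T267 : chkD q26 u7 t267 = true := by ((try (rewrite [Cfsg.Agent.LsF.f3ba342_7.2])); decide +kernel)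


end Cfsg.Agent.R2.PX.C
end

-- part: R2/PX/C/StdT1
section
/-!
# Pattern X, Part C: the standard configuration, the triple products (helper3)
-/

set_option autoImplicit false
set_option maxRecDepth 100000

namespace Cfsg.Agent.R2.PX.C

open Cfsg Cfsg.Lie Matrix
open Cfsg.Agent.R2.T1 Cfsg.Agent.R2.PX
open Cfsg.Agent.H943.E7V.Block (D1 rho)

universe u
variable {F : Type u} [Field F]

/-- `D(u_0, u_2)` -/
def q02 : ℕ := 0x3000000000000000000000000000000000

theorem Q02 : chkQ u0 u2 q02 = true := by ((try (rewrite [Cfsg.Agent.LsF.f3ba342_6.2])); decide +kernel)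

/-- `D(u_0, u_2) u_3` -/
def t023 : ℕ := 0x2000000000000000000000000000000030000000000000000000000400000000000000000000000000000000000000000000000000001

theorem T023 : chkD q02 u3 t023 = true := by ((try (rewrite [Cfsg.Agent.LsF.f3ba342_7.2])); decide +kernel)

/-- `D(u_0, u_2) u_4` -/
def t024 : ℕ := 0x2000000000000000000000200000000030000000000000000000000000004000000000000000000000000000000000000000000000001

theorem T024 : chkD q02 u4 t024 = true := by decide +kernel

/-- `D(u_0, u_2) u_5` -/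
def t025 : ℕ := 0x2000000000000000000000400000000020000010040000001001000300003000000000000000000000000000000000000000000000001

theorem T025 : chkD q02 u5 t025 = true := by ((try (rewrite [Cfsg.Agent.LsF.f3ba342_7.2])); decide +kernel)

/-- `D(u_0, u_2) u_6` -/
def t026 : ℕ := 0x2000000000000000000000400000000020000040010000004004000300003000000000000000000000000000000000000000000000001

theorem T026 : chkD q02 u6 t026 = true := by ((try (rewrite [Cfsg.Agent.LsF.f3ba342_7.2])); decide +kernel)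

/-- `D(u_0, u_2) u_7` -/
def t027 : ℕ := 0x2000000000000000000000000000000000000000000000000000000000000000000000000000000000000000000000000000000000000

theorem T027 : chkD q02 u7 t027 = true := by ((try (rewrite [Cfsg.Agent.LsF.f3ba342_7.2])); decide +kernel)

/-- `D(u_0, u_5)` -/
def q05 : ℕ := 0x4040010003000040000100000020403000030001002020403020340011010413

theorem Q05 : chkQ u0 u5 q05 = true := by ((try (rewrite [Cfsg.Agent.LsF.f3ba342_6.2])); decide +kernel)

/-- `D(u_0, u_5) u_6` -/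
def t056 : ℕ := 0x2000000000001000000000100000000010040000000002000000000300001000000200000000020000200000200000200000000000001

theorem T056 : chkD q05 u6 t056 = true := by decide +kernel

/-- `D(u_0, u_5) u_7` -/
def t057 : ℕ := 0x2000000100003000000100000010000000040000000004000000000000000000000200000000000000000000000000000000000000000

theorem T057 : chkD q05 u7 t057 = true := by decide +kernel

/-- `D(u_2, u_3)` -/
def q23 : ℕ := 0x400000000040000000000000220000100000000000000000000000000000000303000000000000000000000000023000000000000000000000000000000000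

theorem Q23 : chkQ u2 u3 q23 = true := by ((try (rewrite [Cfsg.Agent.LsF.f3ba342_6.2])); decide +kernel)

/-- `D(u_2, u_3) u_4` -/
def t234 : ℕ := 0x2130000412000000000000000020040400001001040000000000000000000000200004000000000000000000000000000000000000000000000001

theorem T234 : chkD q23 u4 t234 = true := by ((try (rewrite [Cfsg.Agent.LsF.f3ba342_7.2])); decide +kernel)

/-- `D(u_2, u_3) u_5` -/
def t235 : ℕ := 0x2110330312000000000000300020030300002001040001010000000000002000200003000000000000000000000000000000000000000000000001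

theorem T235 : chkD q23 u5 t235 = true := by ((try (rewrite [Cfsg.Agent.LsF.f3ba342_7.2])); decide +kernel)

/-- `D(u_2, u_3) u_6` -/
def t236 : ℕ := 0x2110220312000000000000200020030300002001040004040000000000003000200003000000000000000000000000000000000000000000000001

theorem T236 : chkD q23 u6 t236 = true := by ((try (rewrite [Cfsg.Agent.LsF.f3ba342_7.2])); decide +kernel)

/-- `D(u_2, u_3) u_7` -/
def t237 : ℕ := 0x2200000022000000000000000000000000000000000000000000000000000000000000000000000000000000000000000000000000000000000000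

theorem T237 : chkD q23 u7 t237 = true := by ((try (rewrite [Cfsg.Agent.LsF.f3ba342_7.2])); decide +kernel)

/-- `D(u_3, u_5)` -/
def q35 : ℕ := 0x42130413213424333340312121131303322111423242043111101133120424111334342432213143321403221102142443044411122232202100142314111232233

theorem Q35 : chkQ u3 u5 q35 = true := by ((try (rewrite [Cfsg.Agent.LsF.f3ba342_6.2])); decide +kernel)

/-- `D(u_3, u_5) u_6` -/
def t356 : ℕ := 0x2020000332000013400431000020020300003002020030000000001000000000000001000000200000000020000400000100000200000000000001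

theorem T356 : chkD q35 u6 t356 = true := by decide +kernel

/-- `D(u_3, u_5) u_7` -/
def t357 : ℕ := 0x2334432342004232400133004400100000330030000020000000002000000000000000000000200000000000000000000000000000000000000000

theorem T357 : chkD q35 u7 t357 = true := by decide +kernel

/-- `D(u_3, u_6)` -/
def q36 : ℕ := 0x13420413342431233310242131424303222144422213043141104433130424144324312122213413324103231103412143014414122323202100112311441323233

theorem Q36 : chkQ u3 u6 q36 = true := by ((try (rewrite [Cfsg.Agent.LsF.f3ba342_6.2])); decide +kernel)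

/-- `D(u_3, u_6) u_7` -/
def t367 : ℕ := 0x2331123342001332400133001100400000220020000020000000002000000000000000000000200000000000000000000000000000000000000000

theorem T367 : chkD q36 u7 t367 = true := by ((try (rewrite [Cfsg.Agent.LsF.f3ba342_7.2])); decide +kernel)


end Cfsg.Agent.R2.PX.C
end

-- part: R2/PX/C/StdP
section
/-!
# Pattern X, Part C: the standard configuration, the words `p` (helper3)
-/

set_option autoImplicit false
set_option maxRecDepth 100000

namespace Cfsg.Agent.R2.PX.C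

open Cfsg Cfsg.Lie Matrix
open Cfsg.Agent.R2.T1 Cfsg.Agent.R2.PX
open Cfsg.Agent.H943.E7V.Block (D1 rho)

universe u
variable {F : Type u} [Field F]

/-- the word `p_{012345}` -/
def p0 : ℕ := 0x1132110312002120300200110024020020020020001103001000400003000000000400400020000300000000000400000000400000

/-- the word `p_{012346}` -/
def p1 : ℕ := 0x4432140312003420200200440034020020030030001402004000400003000000000100100020000300000000000400000000100000

/-- the word `p_{012347}` -/
def p2 : ℕ := 0x24000343000030000300000001030030000000003000000000100002000000000000000030000200000000000100000000000000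

/-- the word `p_{012435}` -/
def p3 : ℕ := 0x1304430220301430120400233033020011000010003304001000000002000000000100100020000300000000000400000000100000

/-- the word `p_{012436}` -/
def p4 : ℕ := 0x4204420220204130420400323023020014000040003201004000000002000000000400400020000300000000000400000000400000

/-- the word `p_{012437}` -/
def p5 : ℕ := 0x30400022000020030100002002030000000000004000000000000003000000000000000030000200000000000100000000000000

/-- the word `p_{012536}` -/
def p6 : ℕ := 0x4433240322003420210400444031010000030030001402004000300004000000000100100030000200000000000100000000100000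

/-- the word `p_{012537}` -/
def p7 : ℕ := 0x2010320044100410310200104030020002020040003201003000300001000000000100100010000400000000000200000000100000

/-- the word `p_{021345}` -/
def p8 : ℕ := 0x20220100000000130002300110340000011022010021020010001304000000200003000000000400000020000000000400000400001000400000

/-- the word `p_{021346}` -/
def p9 : ℕ := 0x20330100000000120002200410240000041032010024030040001201000000200003000000000100000020000000000400000400004000100000

/-- the word `p_{021347}` -/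
def p10 : ℕ := 0x430000440000000000003000040010000004003040030000000003000000000300002000000000000000030000000000100000100000000000000

/-- the word `p_{021435}` -/
def p11 : ℕ := 0x411123200000000410000000420110000034031010010030040003101000000200003000000000000100010000100000300000000001000000000

/-- the word `p_{021436}` -/
def p12 : ℕ := 0x414432200000000440000000120410000024021010010020010003404000000200003000000000000400010000100000300000000004000000000

/-- the word `p_{021437}` -/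
def p13 : ℕ := 0x100000240000000400002000030040000001004040000000000004000000000300002000000000000000040000400000200000000000000000000

/-- the word `p_{021536}` -/
def p14 : ℕ := 0x300330210000000220002200430220000043033040004030040001201000000300002000000000100000040000300000300000100004000100000

/-- the word `p_{021537}` -/
def p15 : ℕ := 0x204042430000000300004300430330000002034030001030040003001000000100004000000000400200010000300000400000400003000400000

/-- the word `p_{031425}` -/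
def p16 : ℕ := 0x44212340002020240120000420010300124031040020000010002404001000300000000000000000200000000000000000000000002000000000

/-- the word `p_{031426}` -/
def p17 : ℕ := 0x41343340003020210120000120010300434021040020000040002101004000300000000000000000300000000000000000000000003000000000

/-- the word `p_{031427}` -/
def p18 : ℕ := 0x440000010000010100310000030040200001004010010000000001000000000200000000000000000000000000000000000000000000000000000

/-- the word `p_{031526}` -/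
def p19 : ℕ := 0x140330030001132130400202010020200103004010014000010001304001000200000000000000000400000000200000400000000004000000000

/-- the word `p_{031527}` -/
def p20 : ℕ := 0x331403020001321200220301130030400232024020021000010002004001000400000000000000000000000000000000000000000000000000000

/-- the words -/
def PL : List ℕ := [p0, p1, p2, p3, p4, p5, p6, p7, p8, p9, p10, p11, p12, p13, p14, p15, p16, p17, p18, p19, p20]

/-- the triple products which complete the basis -/
def T7 : List ℕ := [t016, t024, t025, t046, t234, t347, t367]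

/-- all the triple products -/
def TA : List ℕ := [t012, t013, t014, t015, t016, t017, t023, t024, t025, t026, t027, t034, t035, t036, t037, t045, t046, t047,
  t056, t057, t067, t123, t124, t125, t126, t127, t134, t135, t136, t137, t145, t146, t147, t156, t157, t167,
  t234, t235, t236, t237, t245, t246, t247, t256, t257, t267, t345, t346, t347, t356, t357, t367, t456, t457,
  t467, t567]

theorem P0 : chkL [1, 4, 4, 1, 4, 1, 1, 4] [t024, t025, t034, t035, t124, t125, t134, t135] p0 = true := by decide +kernel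

theorem P1 : chkL [1, 4, 4, 1, 4, 1, 1, 4] [t024, t026, t034, t036, t124, t126, t134, t136] p1 = true := by decide +kernel

theorem P2 : chkL [1, 4, 4, 1, 4, 1, 1, 4] [t024, t027, t034, t037, t124, t127, t134, t137] p2 = true := by decide +kernel

theorem P3 : chkL [1, 4, 4, 1, 4, 1, 1, 4] [t023, t025, t034, t045, t123, t125, t134, t145] p3 = true := by decide +kernel

theorem P4 : chkL [1, 4, 4, 1, 4, 1, 1, 4] [t023, t026, t034, t046, t123, t126, t134, t146] p4 = true := by decide +kernel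

theorem P5 : chkL [1, 4, 4, 1, 4, 1, 1, 4] [t023, t027, t034, t047, t123, t127, t134, t147] p5 = true := by decide +kernel

theorem P6 : chkL [1, 4, 4, 1, 4, 1, 1, 4] [t023, t026, t035, t056, t123, t126, t135, t156] p6 = true := by decide +kernel

theorem P7 : chkL [1, 4, 4, 1, 4, 1, 1, 4] [t023, t027, t035, t057, t123, t127, t135, t157] p7 = true := by decide +kernel

theorem P8 : chkL [1, 4, 4, 1, 4, 1, 1, 4] [t014, t015, t034, t035, t124, t125, t234, t235] p8 = true := by decide +kernel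

theorem P9 : chkL [1, 4, 4, 1, 4, 1, 1, 4] [t014, t016, t034, t036, t124, t126, t234, t236] p9 = true := by decide +kernel

theorem P10 : chkL [1, 4, 4, 1, 4, 1, 1, 4] [t014, t017, t034, t037, t124, t127, t234, t237] p10 = true := by decide +kernel

theorem P11 : chkL [1, 4, 4, 1, 4, 1, 1, 4] [t013, t015, t034, t045, t123, t125, t234, t245] p11 = true := by decide +kernel

theorem P12 : chkL [1, 4, 4, 1, 4, 1, 1, 4] [t013, t016, t034, t046, t123, t126, t234, t246] p12 = true := by decide +kernel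

theorem P13 : chkL [1, 4, 4, 1, 4, 1, 1, 4] [t013, t017, t034, t047, t123, t127, t234, t247] p13 = true := by decide +kernel

theorem P14 : chkL [1, 4, 4, 1, 4, 1, 1, 4] [t013, t016, t035, t056, t123, t126, t235, t256] p14 = true := by decide +kernel

theorem P15 : chkL [1, 4, 4, 1, 4, 1, 1, 4] [t013, t017, t035, t057, t123, t127, t235, t257] p15 = true := by decide +kernel

theorem P16 : chkL [1, 4, 4, 1, 4, 1, 1, 4] [t012, t015, t024, t045, t123, t135, t234, t345] p16 = true := by decide +kernel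

theorem P17 : chkL [1, 4, 4, 1, 4, 1, 1, 4] [t012, t016, t024, t046, t123, t136, t234, t346] p17 = true := by decide +kernel

theorem P18 : chkL [1, 4, 4, 1, 4, 1, 1, 4] [t012, t017, t024, t047, t123, t137, t234, t347] p18 = true := by decide +kernel

theorem P19 : chkL [1, 4, 4, 1, 4, 1, 1, 4] [t012, t016, t025, t056, t123, t136, t235, t356] p19 = true := by decide +kernel

theorem P20 : chkL [1, 4, 4, 1, 4, 1, 1, 4] [t012, t017, t025, t057, t123, t137, t235, t357] p20 = true := by decide +kernel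

private noncomputable def _root_.Cfsg.Agent.LsF.f3ba342_8 : {f // @Cfsg.Agent.R2.PX.C.om = f} := ⟨_, by first | (delta Cfsg.Agent.R2.PX.C.om; rewrite [Cfsg.Agent.LsF.f3ba342_0.2, Cfsg.Agent.LsF.f3ba342_2.2, Cfsg.Agent.LsF.f3ba342_1.2, Cfsg.Agent.LsF.nmul_pat, Cfsg.Agent.LsF.nsub_pat, Cfsg.Agent.LsF.ndiv_pat, Cfsg.Agent.LsF.nmod_pat, Cfsg.Agent.LsF.map_eq, Cfsg.Agent.LsF.sum_eq]; exact rfl) | exact rfl⟩
theorem perpP : (UL.all fun x => PL.all fun y => Nat.beq (om x y) 0) = true := by ((try (rewrite [Cfsg.Agent.LsF.f3ba342_8.2, Cfsg.Agent.LsF.all_eq])); decide +kernel)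

/-- the Gram matrix -/
def MM : List (List ℕ) := [[0, 0, 0, 0, 1, 1, 1], [0, 1, 1, 1, 1, 1, 1], [1, 0, 0, 1, 0, 1, 1], [1, 1, 1, 1, 0, 0, 0], [1, 0, 1, 0, 0,
  0, 1], [1, 1, 0, 1, 1, 1, 1], [0, 1, 1, 0, 1, 1, 0]]


end Cfsg.Agent.R2.PX.C
end
end

-- part: R2/PX/C/StdG_mg
section
prune_inst 0x3100000000180512020020404800000000034000c9c00906094060632947a6019ad0120001d0b0f020084008110000190008000000008c004001010014811202b108a000220096000880000000000000000000000000000000000000000000000
set_option linter.all false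
open scoped Cfsg.Agent.FastGrp

-- part: R2/PX/C/StdG
section
/-!
# Pattern X, Part C: the standard configuration, the element `g_0` (helper3)
-/

set_option autoImplicit false
set_option maxRecDepth 100000

namespace Cfsg.Agent.R2.PX.C

open Cfsg Cfsg.Lie Matrix
open Cfsg.Agent.R2.T1 Cfsg.Agent.R2.PX
open Cfsg.Agent.H943.E7V.Block (D1 rho)

universe u
variable {F : Type u} [Field F]

/-- the word -/
def wG : List (ℕ × ℕ) := [(6, 1), (10, 4), (13, 1), (15, 4), (19, 4), (21, 4), (24, 2), (28, 4), (35, 2), (37, 4), (40, 1), (49, 2),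
  (54, 2), (58, 1), (61, 4), (16, 3), (22, 3), (29, 4), (45, 4), (55, 4), (59, 1), (64, 1), (65, 1), (26, 4),
  (30, 1), (42, 3), (51, 4), (56, 1), (66, 3), (67, 2), (68, 4), (94, 4), (31, 1), (47, 3), (52, 4), (70, 2),
  (72, 2), (32, 4), (74, 1), (76, 1), (77, 4), (79, 3), (81, 3), (82, 2), (83, 2), (84, 3), (85, 4), (86, 3),
  (87, 4), (88, 2), (90, 3), (91, 1), (92, 1), (93, 4), (94, 3), (95, 4), (97, 3), (100, 4), (101, 3), (102, 2),
  (104, 1), (105, 4), (106, 2), (107, 2), (108, 4), (109, 3), (110, 2), (111, 3), (113, 4), (115, 2), (116, 1),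
  (117, 4), (118, 4), (119, 1), (120, 2), (121, 1), (122, 1), (123, 4)]

/-- the compiled word -/
def cG : List (ℕ × List (ℕ × ℕ)) := [
  (1, [(122, 413), (125, 416), (129, 423), (134, 430), (140, 441), (161, 451), (168, 454), (183, 466), (193, 468),
  (199, 470), (202, 472), (203, 474)]),
  (4, [(122, 393), (125, 396), (129, 403), (146, 430), (151, 440), (161, 449), (173, 455), (183, 462), (193, 464),
  (209, 471), (212, 473), (213, 475)]),
  (1, [(122, 381), (125, 384), (134, 403), (146, 422), (155, 441), (161, 447), (177, 454), (183, 460), (199, 465),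
  (209, 469), (216, 472), (217, 474)]),
  (4, [(122, 375), (129, 384), (134, 397), (146, 416), (158, 440), (161, 445), (180, 455), (183, 458), (202, 464),
  (212, 468), (216, 470), (218, 475)]),
  (4, [(122, 361), (125, 364), (140, 403), (151, 423), (155, 431), (161, 437), (187, 455), (193, 461), (199, 463),
  (209, 467), (221, 473), (222, 475)]),
  (4, [(122, 355), (129, 364), (140, 397), (151, 417), (158, 430), (161, 435), (190, 454), (193, 459), (202, 462),
  (212, 466), (221, 471), (223, 474)]),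
  (2, [(122, 347), (134, 364), (140, 385), (155, 416), (158, 422), (161, 427), (196, 455), (199, 458), (202, 460),
  (216, 467), (221, 469), (224, 475)]),
  (4, [(122, 337), (146, 364), (151, 384), (155, 396), (158, 402), (161, 407), (206, 454), (209, 459), (212, 461),
  (216, 463), (221, 465), (225, 474)]),
  (2, [(122, 317), (125, 320), (168, 402), (173, 422), (177, 430), (183, 436), (187, 440), (193, 446), (199, 448),
  (209, 450), (228, 473), (229, 475)]),
  (4, [(122, 311), (129, 320), (168, 396), (173, 416), (180, 431), (183, 434), (190, 441), (193, 444), (202, 449),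
  (212, 451), (228, 471), (230, 474)]),
  (1, [(122, 303), (134, 320), (168, 384), (177, 417), (180, 423), (183, 426), (196, 440), (199, 445), (202, 447),
  (216, 450), (228, 469), (231, 475)]),
  (2, [(122, 281), (146, 320), (173, 385), (177, 397), (180, 403), (183, 406), (206, 441), (209, 444), (212, 446),
  (216, 448), (228, 465), (233, 474)]),
  (2, [(122, 269), (151, 320), (173, 364), (187, 397), (190, 403), (193, 406), (206, 430), (209, 435), (212, 437),
  (221, 448), (228, 462), (234, 474)]),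
  (1, [(122, 259), (155, 320), (177, 364), (187, 384), (196, 403), (199, 406), (206, 423), (209, 426), (216, 437),
  (221, 447), (228, 461), (235, 474)]),
  (4, [(122, 251), (158, 320), (180, 364), (190, 384), (196, 396), (202, 406), (206, 416), (212, 426), (216, 434),
  (221, 444), (228, 458), (236, 474)]),
  (3, [(125, 375), (129, 380), (134, 393), (146, 412), (160, 441), (161, 443), (182, 454), (183, 456), (203, 465),
  (213, 469), (217, 471), (218, 473)]),
  (3, [(125, 355), (129, 360), (140, 393), (151, 413), (160, 431), (161, 433), (192, 455), (193, 457), (203, 463),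
  (213, 467), (222, 470), (223, 472)]),
  (4, [(125, 337), (146, 360), (151, 380), (155, 392), (160, 403), (161, 405), (208, 455), (209, 457), (213, 460),
  (217, 462), (222, 464), (225, 472)]),
  (4, [(125, 293), (140, 316), (168, 360), (187, 412), (192, 423), (193, 425), (198, 431), (199, 433), (203, 436),
  (222, 450), (229, 466), (232, 472)]),
  (4, [(125, 269), (151, 316), (173, 360), (187, 393), (192, 402), (193, 404), (208, 431), (209, 433), (213, 436),
  (222, 449), (229, 463), (234, 472)]),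
  (1, [(125, 259), (155, 316), (177, 360), (187, 380), (198, 402), (199, 404), (208, 422), (209, 424), (217, 436),
  (222, 446), (229, 460), (235, 472)]),
  (1, [(125, 245), (160, 316), (182, 360), (192, 380), (198, 392), (203, 404), (208, 412), (213, 424), (217, 432),
  (222, 442), (229, 456), (237, 472)]),
  (1, [(125, 241), (161, 316), (183, 360), (193, 380), (199, 392), (203, 403), (209, 412), (213, 423), (217, 431),
  (222, 441), (229, 455), (238, 472)]),
  (4, [(129, 347), (134, 354), (140, 375), (158, 413), (160, 417), (161, 419), (201, 455), (202, 457), (203, 459),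
  (218, 467), (223, 469), (224, 471)]),
  (1, [(129, 337), (146, 354), (151, 374), (158, 393), (160, 397), (161, 399), (211, 454), (212, 456), (213, 458),
  (218, 463), (223, 465), (225, 470)]),
  (3, [(129, 303), (134, 310), (168, 374), (180, 412), (182, 416), (183, 418), (201, 440), (202, 442), (203, 444),
  (218, 450), (230, 469), (231, 471)]),
  (4, [(129, 281), (146, 310), (173, 375), (180, 392), (182, 396), (183, 398), (211, 441), (212, 443), (213, 445),
  (218, 448), (230, 465), (233, 470)]),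
  (1, [(129, 269), (151, 310), (173, 354), (190, 392), (192, 396), (193, 398), (211, 430), (212, 432), (213, 434),
  (223, 448), (230, 462), (234, 470)]),
  (3, [(129, 251), (158, 310), (180, 354), (190, 374), (201, 396), (202, 398), (211, 416), (212, 418), (218, 434),
  (223, 444), (230, 458), (236, 470)]),
  (2, [(129, 245), (160, 310), (182, 354), (192, 374), (201, 393), (203, 398), (211, 413), (213, 418), (218, 433),
  (223, 443), (230, 457), (237, 470)]),
  (4, [(129, 241), (161, 310), (183, 354), (193, 374), (202, 393), (203, 397), (212, 413), (213, 417), (218, 430),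
  (223, 440), (230, 454), (238, 470)]),
  (4, [(168, 269), (173, 292), (187, 311), (190, 317), (192, 321), (193, 323), (227, 431), (228, 433), (229, 435),
  (230, 437), (232, 448), (234, 450)]),
  (1, [(134, 337), (146, 346), (155, 375), (158, 381), (160, 385), (161, 387), (215, 455), (216, 457), (217, 459),
  (218, 461), (224, 464), (225, 468)]),
  (3, [(134, 293), (140, 302), (168, 346), (196, 412), (198, 416), (199, 418), (201, 422), (202, 424), (203, 426),
  (224, 450), (231, 466), (232, 468)]),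
  (4, [(134, 281), (146, 302), (177, 374), (180, 380), (182, 384), (183, 386), (215, 440), (216, 442), (217, 444),
  (218, 446), (231, 464), (233, 468)]),
  (2, [(134, 251), (158, 302), (180, 346), (196, 375), (201, 384), (202, 386), (215, 417), (216, 419), (218, 426),
  (224, 445), (231, 459), (236, 468)]),
  (2, [(134, 241), (161, 302), (183, 346), (199, 375), (202, 381), (203, 385), (216, 412), (217, 416), (218, 422),
  (224, 441), (231, 455), (238, 468)]),
  (4, [(140, 337), (151, 347), (155, 355), (158, 361), (160, 365), (161, 367), (220, 454), (221, 456), (222, 458),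
  (223, 460), (224, 462), (225, 466)]),
  (1, [(140, 259), (155, 292), (187, 347), (196, 360), (198, 364), (199, 366), (220, 423), (221, 425), (222, 427),
  (224, 436), (232, 461), (235, 466)]),
  (1, [(140, 245), (160, 292), (192, 347), (198, 355), (201, 361), (203, 366), (220, 413), (222, 418), (223, 424),
  (224, 432), (232, 457), (237, 466)]),
  (4, [(140, 241), (161, 292), (193, 347), (199, 355), (202, 361), (203, 365), (221, 413), (222, 417), (223, 423),
  (224, 431), (232, 454), (238, 466)]),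
  (3, [(146, 259), (155, 280), (177, 336), (206, 381), (208, 385), (209, 387), (215, 402), (216, 404), (217, 406),
  (225, 447), (233, 461), (235, 464)]),
  (3, [(146, 245), (160, 280), (182, 336), (208, 374), (211, 380), (213, 387), (215, 392), (217, 399), (218, 405),
  (225, 443), (233, 457), (237, 464)]),
  (2, [(146, 241), (161, 280), (183, 336), (209, 374), (212, 380), (213, 384), (216, 392), (217, 396), (218, 402),
  (225, 440), (233, 454), (238, 464)]),
  (2, [(151, 259), (155, 268), (187, 336), (206, 360), (208, 364), (209, 366), (220, 402), (221, 404), (222, 406),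
  (225, 436), (234, 461), (235, 463)]),
  (3, [(151, 251), (158, 268), (190, 336), (206, 355), (211, 364), (212, 366), (220, 397), (221, 399), (223, 406),
  (225, 435), (234, 458), (236, 463)]),
  (4, [(151, 245), (160, 268), (192, 336), (208, 355), (211, 361), (213, 366), (220, 392), (222, 399), (223, 405),
  (225, 432), (234, 457), (237, 463)]),
  (3, [(151, 241), (161, 268), (193, 336), (209, 355), (212, 361), (213, 365), (221, 392), (222, 396), (223, 402),
  (225, 431), (234, 454), (238, 463)]),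
  (4, [(155, 251), (158, 258), (196, 336), (206, 346), (215, 364), (216, 366), (220, 384), (221, 386), (224, 406),
  (225, 426), (235, 458), (236, 460)]),
  (2, [(155, 245), (160, 258), (198, 336), (208, 346), (215, 361), (217, 366), (220, 381), (222, 386), (224, 405),
  (225, 425), (235, 457), (237, 460)]),
  (3, [(158, 245), (160, 250), (201, 336), (211, 346), (215, 354), (218, 366), (220, 374), (223, 386), (224, 398),
  (225, 418), (236, 457), (237, 459)]),
  (1, [(158, 241), (161, 250), (202, 336), (212, 346), (216, 354), (218, 365), (221, 374), (223, 385), (224, 397),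
  (225, 417), (236, 454), (238, 459)]),
  (1, [(160, 241), (161, 244), (203, 336), (213, 346), (217, 354), (218, 360), (222, 374), (223, 380), (224, 392),
  (225, 412), (237, 454), (238, 456)]),
  (4, [(168, 281), (173, 303), (177, 311), (180, 317), (182, 321), (183, 323), (227, 440), (228, 442), (229, 444),
  (230, 446), (231, 448), (233, 450)]),
  (3, [(168, 269), (173, 292), (187, 311), (190, 317), (192, 321), (193, 323), (227, 431), (228, 433), (229, 435),
  (230, 437), (232, 448), (234, 450)]),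
  (4, [(168, 259), (177, 292), (187, 302), (196, 317), (198, 321), (199, 323), (227, 422), (228, 424), (229, 426),
  (231, 437), (232, 447), (235, 450)]),
  (3, [(168, 245), (182, 292), (192, 302), (198, 310), (201, 316), (203, 323), (227, 412), (229, 419), (230, 425),
  (231, 433), (232, 443), (237, 450)]),
  (4, [(173, 251), (180, 268), (190, 281), (206, 310), (211, 321), (212, 323), (227, 396), (228, 398), (230, 407),
  (233, 434), (234, 444), (236, 449)]),
  (3, [(173, 245), (182, 268), (192, 281), (208, 310), (211, 316), (213, 323), (227, 393), (229, 398), (230, 404),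
  (233, 433), (234, 443), (237, 449)]),
  (2, [(173, 241), (183, 268), (193, 281), (209, 310), (212, 316), (213, 320), (228, 393), (229, 397), (230, 403),
  (233, 430), (234, 440), (238, 449)]),
  (1, [(177, 245), (182, 258), (198, 281), (208, 303), (215, 316), (217, 323), (227, 380), (229, 387), (231, 404),
  (233, 424), (235, 443), (237, 446)]),
  (4, [(177, 241), (183, 258), (199, 281), (209, 303), (216, 316), (217, 320), (228, 380), (229, 384), (231, 403),
  (233, 423), (235, 440), (238, 446)]),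
  (2, [(180, 245), (182, 250), (201, 281), (211, 303), (215, 311), (218, 323), (227, 375), (230, 387), (231, 399),
  (233, 419), (236, 443), (237, 445)]),
  (2, [(180, 241), (183, 250), (202, 281), (212, 303), (216, 311), (218, 320), (228, 375), (230, 384), (231, 396),
  (233, 416), (236, 440), (238, 445)]),
  (4, [(182, 241), (183, 244), (203, 281), (213, 303), (217, 311), (218, 317), (229, 375), (230, 381), (231, 393),
  (233, 413), (237, 440), (238, 442)]),
  (3, [(187, 251), (190, 258), (196, 269), (206, 292), (220, 321), (221, 323), (227, 364), (228, 366), (232, 407),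
  (234, 427), (235, 435), (236, 437)]),
  (2, [(187, 245), (192, 258), (198, 269), (208, 292), (220, 316), (222, 323), (227, 361), (229, 366), (232, 404),
  (234, 424), (235, 432), (237, 437)]),
  (3, [(187, 241), (193, 258), (199, 269), (209, 292), (221, 316), (222, 320), (228, 361), (229, 365), (232, 403),
  (234, 423), (235, 431), (238, 437)]),
  (4, [(190, 241), (193, 250), (202, 269), (212, 292), (221, 311), (223, 320), (228, 354), (230, 365), (232, 396),
  (234, 416), (236, 431), (238, 434)]),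
  (2, [(196, 245), (198, 250), (201, 259), (215, 292), (220, 302), (224, 323), (227, 347), (231, 366), (232, 386),
  (235, 419), (236, 425), (237, 427)]),
  (1, [(196, 241), (199, 250), (202, 259), (216, 292), (221, 302), (224, 320), (228, 347), (231, 365), (232, 385),
  (235, 416), (236, 422), (238, 427)]),
  (4, [(198, 241), (199, 244), (203, 259), (217, 292), (222, 302), (224, 317), (229, 347), (231, 360), (232, 380),
  (235, 413), (237, 422), (238, 424)]),
  (4, [(201, 241), (202, 244), (203, 251), (218, 292), (223, 302), (224, 310), (230, 347), (231, 355), (232, 375),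
  (236, 413), (237, 417), (238, 419)]),
  (1, [(206, 245), (208, 250), (211, 259), (215, 268), (220, 281), (225, 323), (227, 336), (233, 366), (234, 386),
  (235, 398), (236, 404), (237, 406)]),
  (2, [(206, 241), (209, 250), (212, 259), (216, 268), (221, 281), (225, 320), (228, 336), (233, 365), (234, 385),
  (235, 397), (236, 403), (238, 406)]),
  (1, [(208, 241), (209, 244), (213, 259), (217, 268), (222, 281), (225, 317), (229, 336), (233, 360), (234, 380),
  (235, 392), (237, 403), (238, 405)]),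
  (1, [(211, 241), (212, 244), (213, 251), (218, 268), (223, 281), (225, 310), (230, 336), (233, 355), (234, 375),
  (236, 392), (237, 396), (238, 398)]),
  (4, [(215, 241), (216, 244), (217, 251), (218, 258), (224, 281), (225, 303), (231, 336), (233, 346), (235, 375),
  (236, 381), (237, 385), (238, 387)])]

/-- the exponents of the element of the torus -/
def eG : List ℤ := [0, 3, 2, 2, 0, 0, 0]

/-- the compiled element of the torus -/
def dG : List (ℕ × ℕ) := [(120, 1), (122, 1), (125, 1), (129, 4), (134, 2), (140, 3), (146, 2), (151, 3), (155, 4), (158, 1), (160, 1),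
  (161, 1), (168, 2), (173, 2), (177, 1), (180, 4), (182, 4), (183, 4), (187, 4), (190, 1), (192, 1), (193, 1),
  (196, 3), (198, 3), (199, 3), (201, 2), (202, 2), (203, 2), (206, 3), (208, 3), (209, 3), (211, 2), (212, 2),
  (213, 2), (215, 1), (216, 1), (217, 1), (218, 4), (220, 4), (221, 4), (222, 4), (223, 1), (224, 3), (225, 3),
  (227, 1), (228, 1), (229, 1), (230, 4), (231, 2), (232, 3), (233, 2), (234, 3), (235, 4), (236, 1), (237, 1),
  (238, 1)]

private noncomputable def _root_.Cfsg.Agent.LsF.f65a4b2_0 : {f // @Cfsg.Agent.R2.PX.C.fm = f} := ⟨_, by first | (delta Cfsg.Agent.R2.PX.C.fm; rewrite [Cfsg.Agent.LsF.cond_eq, Cfsg.Agent.LsF.filterMap_eq]; exact rfl) | exact rfl⟩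
private noncomputable def _root_.Cfsg.Agent.LsF.f65a4b2_1 : {f // @Cfsg.Agent.R2.PX.lk = f} := ⟨_, by first | (delta Cfsg.Agent.R2.PX.lk; rewrite [Cfsg.Agent.LsF.nmul_pat]; exact rfl) | exact rfl⟩
private noncomputable def _root_.Cfsg.Agent.LsF.f65a4b2_2 : {f // @Cfsg.Agent.R2.PX.C.okw = f} := ⟨_, by first | (delta Cfsg.Agent.R2.PX.C.okw; rewrite [Cfsg.Agent.LsF.f65a4b2_0.2, Cfsg.Agent.LsF.f65a4b2_1.2, Cfsg.Agent.LsF.nsub_pat, Cfsg.Agent.LsF.instNBEq_pat, Cfsg.Agent.LsF.and_eq, Cfsg.Agent.LsF.all_eq, Cfsg.Agent.LsF.map_eq, Cfsg.Agent.LsF.getD_eq, Cfsg.Agent.LsF.instBEq_eq, Cfsg.Agent.LsF.instPBEq_eq]; exact rfl) | exact rfl⟩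
theorem okwG : okw wG cG = true := by ((try (rewrite [Cfsg.Agent.LsF.f65a4b2_2.2])); decide +kernel)

private noncomputable def _root_.Cfsg.Agent.LsF.f65a4b2_3 : {f // @Cfsg.Lie.ChevalleyDatum.cartan = f} := ⟨_, by first | (delta Cfsg.Lie.ChevalleyDatum.cartan; rewrite [Cfsg.Agent.LsF.agetD_eq]; exact rfl) | exact rfl⟩
private noncomputable def _root_.Cfsg.Agent.LsF.f65a4b2_4 : {f // @Cfsg.Agent.R2.PX.C.tx = f} := ⟨_, by first | (delta Cfsg.Agent.R2.PX.C.tx; rewrite [Cfsg.Agent.LsF.f65a4b2_3.2, Cfsg.Agent.LsF.imul_pat, Cfsg.Agent.LsF.map_eq, Cfsg.Agent.LsF.range_eq, Cfsg.Agent.LsF.sum_eq, Cfsg.Agent.LsF.getD_eq, Cfsg.Agent.LsF.instIAdd_eq]; exact rfl) | exact rfl⟩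
private noncomputable def _root_.Cfsg.Agent.LsF.f65a4b2_5 : {f // @Cfsg.Agent.R2.PX.C.te = f} := ⟨_, by first | (delta Cfsg.Agent.R2.PX.C.te; rewrite [Cfsg.Agent.LsF.f65a4b2_4.2, Cfsg.Agent.LsF.nmod_pat, Cfsg.Agent.LsF.npow_pat, Cfsg.Agent.LsF.imod_pat, Cfsg.Agent.LsF.toNat_eq]; exact rfl) | exact rfl⟩
private noncomputable def _root_.Cfsg.Agent.LsF.f65a4b2_6 : {f // @Cfsg.Agent.R2.PX.C.okt = f} := ⟨_, by first | (delta Cfsg.Agent.R2.PX.C.okt; rewrite [Cfsg.Agent.LsF.f65a4b2_0.2, Cfsg.Agent.LsF.f65a4b2_5.2, Cfsg.Agent.LsF.instNBEq_pat, Cfsg.Agent.LsF.instBEq_eq, Cfsg.Agent.LsF.instPBEq_eq]; exact rfl) | exact rfl⟩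
theorem oktG : okt eG dG = true := by ((try (rewrite [Cfsg.Agent.LsF.f65a4b2_6.2])); decide +kernel)

/-- the basis of the subspace -/
def BL : List ℕ := [u0, u1, u2, u3, u4, u5, u6, p0, p1, p2, p3, p4, p5, p6, p7, p8, p9, p10, p11, p12, p13, p14, p15, p16, p17,
  p18, p19, p20]

/-- the image of `u0` -/
def i0 : ℕ := 0x422122310302344230202204210300300012033010011020010002001002000000001000000030200000030000400000300000200001000400300

theorem I0 : Nat.beq (cw cG (upg ft u0 dG)) i0 = true := by decide +kernel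

theorem J0 : chkL [1, 1, 1, 1, 1, 1, 2, 0, 0, 0, 3, 0, 0, 0, 0, 2, 0, 0, 2, 0, 0, 0, 0, 3, 0, 0, 0, 0]
    BL i0 = true := by decide +kernel

/-- the image of `u1` -/
def i1 : ℕ := 0x442342410301040430034203440020400340022000021040010000001001000200002000000030000400030000100000200000200002000200300

theorem I1 : Nat.beq (cw cG (upg ft u1 dG)) i1 = true := by decide +kernel

theorem J1 : chkL [1, 1, 1, 1, 1, 1, 2, 0, 0, 0, 2, 0, 0, 0, 0, 3, 0, 0, 2, 0, 0, 0, 0, 3, 0, 0, 0, 0]
    BL i1 = true := by decide +kernel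

/-- the image of `u2` -/
def i2 : ℕ := 0x403130120300324120134004400130000404024030012040010001401001000400004000000030100300000000400000200000100000000300300

theorem I2 : Nat.beq (cw cG (upg ft u2 dG)) i2 = true := by decide +kernel

theorem J2 : chkL [1, 1, 1, 1, 1, 1, 2, 0, 0, 0, 3, 0, 0, 0, 0, 3, 0, 0, 2, 0, 0, 0, 0, 2, 0, 0, 0, 0]
    BL i2 = true := by decide +kernel

/-- the image of `u3` -/
def i3 : ℕ := 0x333240010302122320344400320140100423000020030020010003401002000100000000000030000400040000000000100000200002000200300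

theorem I3 : Nat.beq (cw cG (upg ft u3 dG)) i3 = true := by decide +kernel

theorem J3 : chkL [1, 1, 1, 1, 1, 1, 2, 1, 0, 0, 2, 0, 0, 0, 0, 2, 0, 0, 3, 0, 0, 0, 0, 3, 0, 0, 0, 0]
    BL i3 = true := by decide +kernel

/-- the image of `u4` -/
def i4 : ℕ := 0x314203320304242420322002200440300323031020002000030003404000000200004000000030200000040000200000000000200001000400300

theorem I4 : Nat.beq (cw cG (upg ft u4 dG)) i4 = true := by decide +kernel

theorem J4 : chkL [1, 1, 1, 1, 1, 1, 2, 4, 0, 0, 3, 0, 0, 0, 0, 3, 0, 0, 3, 0, 0, 0, 0, 2, 0, 0, 0, 0]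
    BL i4 = true := by decide +kernel

/-- the image of `u5` -/
def i5 : ℕ := 0x344033220304020020412403330330100244000010040000030000404000000400002000000030100300020000200000100000300000000300300

theorem I5 : Nat.beq (cw cG (upg ft u5 dG)) i5 = true := by decide +kernel

theorem J5 : chkL [1, 1, 1, 1, 1, 1, 2, 0, 0, 0, 2, 0, 0, 0, 0, 2, 0, 0, 3, 0, 0, 0, 0, 2, 0, 0, 0, 0]
    BL i5 = true := by decide +kernel

/-- the image of `u6` -/
def i6 : ℕ := 0x10412140210202123110222304200340300424000010044030000001403004000200002000000020400100040000200000100000300004000200200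

theorem I6 : Nat.beq (cw cG (upg ft u6 dG)) i6 = true := by decide +kernel

theorem J6 : chkL [0, 0, 0, 0, 0, 0, 4, 0, 0, 0, 0, 0, 0, 0, 0, 0, 0, 0, 0, 0, 0, 0, 0, 0, 0, 0, 0, 0]
    BL i6 = true := by decide +kernel

/-- the image of `p0` -/
def i7 : ℕ := 0x234321130201414310111400400420400212040030022040020003401002000100001000000040000300020000100000300000400002000300400

theorem I7 : Nat.beq (cw cG (upg ft p0 dG)) i7 = true := by decide +kernel

theorem J7 : chkL [3, 3, 4, 4, 3, 3, 0, 0, 0, 0, 0, 0, 0, 0, 0, 0, 0, 0, 0, 0, 0, 0, 0, 0, 0, 0, 0, 0]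
    BL i7 = true := by decide +kernel

/-- the image of `p1` -/
def i8 : ℕ := 0x102023140104132130103203210230300134023020041040010003203000000200004000000020400200040000300000000000300000000300200

theorem I8 : Nat.beq (cw cG (upg ft p1 dG)) i8 = true := by decide +kernel

theorem J8 : chkL [4, 4, 2, 2, 4, 4, 0, 3, 0, 1, 1, 0, 0, 0, 3, 1, 0, 0, 0, 0, 4, 0, 1, 0, 0, 4, 0, 1]
    BL i8 = true := by decide +kernel

/-- the image of `p2` -/
def i9 : ℕ := 0x132303040100414230230204120300400312001000021010010001203004000100000000000020300000020000300000100000400004000200200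

theorem I9 : Nat.beq (cw cG (upg ft p2 dG)) i9 = true := by decide +kernel

theorem J9 : chkL [4, 4, 2, 2, 4, 4, 0, 2, 4, 0, 4, 0, 0, 2, 0, 4, 0, 0, 0, 1, 0, 4, 0, 0, 1, 0, 4, 0]
    BL i9 = true := by decide +kernel

/-- the image of `p3` -/
def i10 : ℕ := 0x411320210101323130222402100440300214000010042040000001204002000200002000000010200300040000200000100000300002000100300

theorem I10 : Nat.beq (cw cG (upg ft p3 dG)) i10 = true := by decide +kernel

theorem J10 : chkL [1, 2, 2, 2, 2, 1, 0, 0, 0, 0, 0, 0, 0, 0, 0, 0, 0, 0, 0, 0, 0, 0, 0, 0, 0, 0, 0, 0]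
    BL i10 = true := by decide +kernel

/-- the image of `p4` -/
def i11 : ℕ := 0x220041420302211340042202340230100231000040011000020000100004000000000000000030200300040000200000200000400004000400400

theorem I11 : Nat.beq (cw cG (upg ft p4 dG)) i11 = true := by decide +kernel

theorem J11 : chkL [3, 1, 1, 1, 1, 3, 0, 1, 0, 1, 4, 0, 4, 0, 3, 2, 0, 4, 4, 0, 4, 0, 3, 4, 0, 2, 0, 0]
    BL i11 = true := by decide +kernel

/-- the image of `p5` -/
def i12 : ℕ := 0x140041010302244240403202330140300220000000031030040004103002000400004000000030300200010000300000100000400002000000400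

theorem I12 : Nat.beq (cw cG (upg ft p5 dG)) i12 = true := by decide +kernel

theorem J12 : chkL [3, 1, 1, 1, 1, 3, 0, 4, 4, 0, 1, 1, 0, 2, 0, 3, 1, 0, 1, 1, 0, 2, 0, 1, 3, 0, 0, 0]
    BL i12 = true := by decide +kernel

/-- the image of `p6` -/
def i13 : ℕ := 0x243303440204414010412000010420400310011040010030010004402003000400002000000010100000020000000000200000300000000400200

theorem I13 : Nat.beq (cw cG (upg ft p6 dG)) i13 = true := by decide +kernel

theorem J13 : chkL [4, 2, 4, 4, 2, 4, 0, 2, 0, 3, 2, 0, 1, 0, 0, 4, 0, 1, 1, 0, 2, 0, 1, 1, 0, 0, 0, 3]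
    BL i13 = true := by decide +kernel

/-- the image of `p7` -/
def i14 : ℕ := 0x303133200200224310401001120230100024032040000010030000400001000000001000000010100000030000200000000000400000000400200

theorem I14 : Nat.beq (cw cG (upg ft p7 dG)) i14 = true := by decide +kernel

theorem J14 : chkL [4, 2, 4, 4, 2, 4, 0, 3, 2, 0, 3, 4, 0, 0, 0, 1, 4, 0, 4, 3, 0, 4, 0, 4, 0, 0, 2, 0]
    BL i14 = true := by decide +kernel

/-- the image of `p8` -/
def i15 : ℕ := 0x323001420100141230444003300030100003040020030000020002202000000400004000000010300000030000400000200000100000000200300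

theorem I15 : Nat.beq (cw cG (upg ft p8 dG)) i15 = true := by decide +kernel

theorem J15 : chkL [1, 2, 2, 2, 1, 2, 0, 0, 0, 0, 0, 0, 0, 0, 0, 0, 0, 0, 0, 0, 0, 0, 0, 0, 0, 0, 0, 0]
    BL i15 = true := by decide +kernel

/-- the image of `p9` -/
def i16 : ℕ := 0x404003410301334440222104220200200313031030012020010002101004000300001000000030400000040000000000000000400000000100400

theorem I16 : Nat.beq (cw cG (upg ft p9 dG)) i16 = true := by decide +kernel

theorem J16 : chkL [3, 1, 1, 1, 3, 1, 0, 1, 0, 1, 4, 0, 0, 0, 2, 1, 0, 1, 4, 0, 3, 0, 4, 4, 0, 3, 0, 4]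
    BL i16 = true := by decide +kernel

/-- the image of `p10` -/
def i17 : ℕ := 0x14333220302444340442201140310100442012000024040010000101003000400000000000030400000040000300000400000000000000100400

theorem I17 : Nat.beq (cw cG (upg ft p10 dG)) i17 = true := by decide +kernel

theorem J17 : chkL [3, 1, 1, 1, 3, 1, 0, 4, 4, 0, 1, 0, 0, 3, 0, 4, 4, 0, 1, 2, 0, 1, 0, 1, 2, 0, 1, 0]
    BL i17 = true := by decide +kernel

/-- the image of `p11` -/
def i18 : ℕ := 0x10231320130401314330111402100420400212000030022040000003204002000100001000000040200300020000100000300000400002000100100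

theorem I18 : Nat.beq (cw cG (upg ft p11 dG)) i18 = true := by decide +kernel

theorem J18 : chkL [3, 4, 4, 3, 3, 3, 0, 0, 0, 0, 0, 0, 0, 0, 0, 0, 0, 0, 0, 0, 0, 0, 0, 0, 0, 0, 0, 0]
    BL i18 = true := by decide +kernel

/-- the image of `p12` -/
def i19 : ℕ := 0x30113410210203433030022001320340200143000030042000020000000004000100000000000020200300040000000000400000300004000400300

theorem I19 : Nat.beq (cw cG (upg ft p12 dG)) i19 = true := by decide +kernel

theorem J19 : chkL [4, 2, 2, 4, 4, 4, 0, 0, 0, 4, 0, 0, 1, 0, 4, 4, 0, 1, 0, 0, 1, 0, 4, 1, 0, 3, 0, 0]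
    BL i19 = true := by decide +kernel

/-- the image of `p13` -/
def i20 : ℕ := 0x30022122140201013320314303340120200320000020033030040003403002000400002000000020300200020000200000400000400002000000300

theorem I20 : Nat.beq (cw cG (upg ft p13 dG)) i20 = true := by decide +kernel

theorem J20 : chkL [4, 2, 2, 4, 4, 4, 0, 0, 1, 0, 0, 4, 0, 1, 0, 1, 4, 0, 0, 4, 0, 1, 0, 4, 2, 0, 0, 0]
    BL i20 = true := by decide +kernel

/-- the image of `p14` -/
def i21 : ℕ := 0x30222441010403101100230302140130200131022020033000010003004004000200002000000040400000030000000000000000000000000400400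

theorem I21 : Nat.beq (cw cG (upg ft p14 dG)) i21 = true := by decide +kernel

theorem J21 : chkL [1, 1, 1, 3, 1, 3, 0, 4, 0, 1, 1, 0, 3, 0, 0, 3, 0, 2, 1, 0, 1, 0, 2, 2, 0, 0, 0, 1]
    BL i21 = true := by decide +kernel

/-- the image of `p15` -/
def i22 : ℕ := 0x30241433200402341000242401230340000430044010010030030003002002000300003000000040100100040000400000200000100004000100400

theorem I22 : Nat.beq (cw cG (upg ft p15 dG)) i22 = true := by decide +kernel

theorem J22 : chkL [1, 1, 1, 3, 1, 3, 0, 1, 4, 0, 4, 2, 0, 0, 0, 2, 3, 0, 4, 4, 0, 3, 0, 3, 0, 0, 4, 0]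
    BL i22 = true := by decide +kernel

/-- the image of `p16` -/
def i23 : ℕ := 0x321234420104141240444100100130100343010020033010030002104003000400004000000010000200030000400000200000100003000200300

theorem I23 : Nat.beq (cw cG (upg ft p16 dG)) i23 = true := by decide +kernel

theorem J23 : chkL [1, 2, 2, 1, 2, 2, 0, 0, 0, 0, 0, 0, 0, 0, 0, 0, 0, 0, 0, 0, 0, 0, 0, 0, 0, 0, 0, 0]
    BL i23 = true := by decide +kernel

/-- the image of `p17` -/
def i24 : ℕ := 0x222414400302321320111400020440000444024010031030040003302004000400003000000030200200000000100000300000400003000300400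

theorem I24 : Nat.beq (cw cG (upg ft p17 dG)) i24 = true := by decide +kernel

theorem J24 : chkL [3, 1, 1, 3, 1, 1, 0, 0, 0, 4, 4, 0, 2, 0, 0, 4, 0, 1, 1, 0, 0, 0, 3, 0, 0, 4, 0, 1]
    BL i24 = true := by decide +kernel

/-- the image of `p18` -/
def i25 : ℕ := 0x3032240301044420033004140240200204043010003030040004302004000100004000000030400300010000000000000000000002000000400

theorem I25 : Nat.beq (cw cG (upg ft p18 dG)) i25 = true := by decide +kernel

theorem J25 : chkL [3, 1, 1, 3, 1, 1, 0, 0, 1, 0, 1, 3, 0, 0, 0, 1, 4, 0, 4, 0, 0, 2, 0, 0, 1, 0, 4, 0]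
    BL i25 = true := by decide +kernel

/-- the image of `p19` -/
def i26 : ℕ := 0x413243240100223320212301300430000004024020041000040002004000000200001000000020200200000000100000200000300001000000200

theorem I26 : Nat.beq (cw cG (upg ft p19 dG)) i26 = true := by decide +kernel

theorem J26 : chkL [4, 4, 2, 4, 2, 4, 0, 4, 0, 2, 1, 0, 2, 0, 1, 2, 0, 2, 2, 0, 1, 0, 0, 1, 0, 2, 0, 1]
    BL i26 = true := by decide +kernel

/-- the image of `p20` -/
def i27 : ℕ := 0x324311440101333130431103400200300112043000032000040003104000000100004000000020300400040000400000000000400002000100200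

theorem I27 : Nat.beq (cw cG (upg ft p20 dG)) i27 = true := by decide +kernel

theorem J27 : chkL [4, 4, 2, 4, 2, 4, 0, 1, 3, 0, 4, 3, 0, 4, 0, 3, 3, 0, 3, 4, 0, 0, 0, 4, 3, 0, 4, 0]
    BL i27 = true := by decide +kernel

/-- a vector orthogonal to the `u_i` -/
def xx : ℕ := 0x400000000000030000000000000000000000000000000000000000000000000000000000000000000000000

theorem xxU : (UL.all fun y => Nat.beq (om xx y) 0) = true := by decide +kernel

theorem xxI : Nat.beq (om xx i0) 1 = true := by decide +kernel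


end Cfsg.Agent.R2.PX.C
end

-- part: R2/PX/C/WW
section
/-!
# Pattern X, Part C: the canonical subspace (helper3)

* `TT F W` : the span of the triple products of `W`; `PP F W` : the orthogonal; `WW F W = W ⊔ (TT F W ⊓ PP F W)`;
* `map_WW` : similitudes respect `WW`.
-/

set_option autoImplicit false

namespace Cfsg.Agent.R2.PX.C

open Cfsg Cfsg.Lie Module Matrix
open Cfsg.Agent.R2.T1 Cfsg.Agent.R2.PX
open Cfsg.Agent.H943.E7V.Block (D1 rho)

universe u
variable (F : Type u) [Field F]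

/-- triple products -/
def TT (W : Submodule F (D1 → F)) : Submodule F (D1 → F) :=
  Submodule.span F {w | ∃ x ∈ W, ∃ y ∈ W, ∃ z ∈ W, w = DD F x y *ᵥ z}

/-- the orthogonal -/
def PP (W : Submodule F (D1 → F)) : Submodule F (D1 → F) where
  carrier := {x | ∀ y ∈ W, sf F y x = 0}
  zero_mem' := fun y _ => map_zero _
  add_mem' := fun {a b} ha hb y hy => by rw [map_add, ha y hy, hb y hy, add_zero]
  smul_mem' := fun c a ha y hy => by rw [map_smul, ha y hy, smul_zero]

/-- the canonical subspace -/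
def WW (W : Submodule F (D1 → F)) : Submodule F (D1 → F) := W ⊔ (TT F W ⊓ PP F W)

variable {F}

section sim
variable {Θ : (D1 → F) ≃ₗ[F] (D1 → F)} {b : F}

theorem sim_symm (h : IsSim F Θ b) : IsSim F Θ.symm b⁻¹ where
  ne := inv_ne_zero h.ne
  form x y := by
    have h1 := h.form (Θ.symm x) (Θ.symm y)
    rw [LinearEquiv.apply_symm_apply, LinearEquiv.apply_symm_apply] at h1
    rw [h1, inv_mul_cancel_left₀ h.ne]
  dd x y z := by
    have h1 := h.dd (Θ.symm x) (Θ.symm y) (Θ.symm z)
    rw [LinearEquiv.apply_symm_apply, LinearEquiv.apply_symm_apply, LinearEquiv.apply_symm_apply] at h1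
    rw [h1, map_smul, LinearEquiv.symm_apply_apply, smul_smul, inv_mul_cancel₀ h.ne, one_smul]

theorem map_TT_le (h : IsSim F Θ b) (W : Submodule F (D1 → F)) :
    (TT F W).map (Θ : (D1 → F) →ₗ[F] (D1 → F)) ≤ TT F (W.map (Θ : (D1 → F) →ₗ[F] (D1 → F))) := by
  rw [TT, Submodule.map_span, Submodule.span_le]
  rintro _ ⟨w, ⟨x, hx, y, hy, z, hz, rfl⟩, rfl⟩
  have h1 := h.dd x y z
  have h2 : Θ (DD F x y *ᵥ z) = b⁻¹ • (DD F (Θ x) (Θ y) *ᵥ Θ z) := by
    rw [h1, smul_smul, inv_mul_cancel₀ h.ne, one_smul]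
  show Θ (DD F x y *ᵥ z) ∈ TT F (W.map (Θ : (D1 → F) →ₗ[F] (D1 → F)))
  rw [h2]
  exact Submodule.smul_mem _ _ (Submodule.subset_span ⟨Θ x, ⟨x, hx, rfl⟩, Θ y, ⟨y, hy, rfl⟩, Θ z, ⟨z, hz, rfl⟩, rfl⟩)

theorem map_PP_le (h : IsSim F Θ b) (W : Submodule F (D1 → F)) :
    (PP F W).map (Θ : (D1 → F) →ₗ[F] (D1 → F)) ≤ PP F (W.map (Θ : (D1 → F) →ₗ[F] (D1 → F))) := by
  rintro _ ⟨x, hx, rfl⟩ _ ⟨y, hy, rfl⟩
  show sf F (Θ y) (Θ x) = 0
  rw [h.form, hx y hy, mul_zero]

theorem map_WW_le (h : IsSim F Θ b) (W : Submodule F (D1 → F)) :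
    (WW F W).map (Θ : (D1 → F) →ₗ[F] (D1 → F)) ≤ WW F (W.map (Θ : (D1 → F) →ₗ[F] (D1 → F))) := by
  rw [WW, Submodule.map_sup]
  refine sup_le le_sup_left (le_trans ?_ le_sup_right)
  refine le_inf (le_trans (Submodule.map_mono inf_le_left) (map_TT_le h W)) (le_trans (Submodule.map_mono inf_le_right) (map_PP_le h W))

theorem map_WW (h : IsSim F Θ b) (W : Submodule F (D1 → F)) :
    (WW F W).map (Θ : (D1 → F) →ₗ[F] (D1 → F)) = WW F (W.map (Θ : (D1 → F) →ₗ[F] (D1 → F))) := by
  refine le_antisymm (map_WW_le h W) fun x hx => ?_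
  have h1 := map_WW_le (sim_symm h) (W.map (Θ : (D1 → F) →ₗ[F] (D1 → F)))
  have h2 : (W.map (Θ : (D1 → F) →ₗ[F] (D1 → F))).map (Θ.symm : (D1 → F) →ₗ[F] (D1 → F)) = W := by
    ext w
    constructor
    · rintro ⟨_, ⟨w', hw', rfl⟩, rfl⟩
      have : Θ.symm (Θ w') ∈ W := by rw [LinearEquiv.symm_apply_apply]; exact hw'
      exact this
    · intro hw
      exact ⟨Θ w, ⟨w, hw, rfl⟩, LinearEquiv.symm_apply_apply _ _⟩
  rw [h2] at h1
  exact ⟨Θ.symm x, h1 ⟨x, hx, rfl⟩, LinearEquiv.apply_symm_apply _ _⟩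

end sim

/-- the linear equivalence of an element of the group -/
noncomputable def Ve (g : Gh F) : (D1 → F) ≃ₗ[F] (D1 → F) :=
  LinearEquiv.ofLinear (V F g) (V F g⁻¹)
    (by rw [← Module.End.mul_eq_comp, ← map_mul, mul_inv_cancel, map_one]; rfl)
    (by rw [← Module.End.mul_eq_comp, ← map_mul, inv_mul_cancel, map_one]; rfl)

theorem Ve_apply (g : Gh F) (x : D1 → F) : Ve g x = V F g x := rfl

theorem sim_Ve [CharP F 5] (g : Gh F) : IsSim F (Ve g) 1 where
  ne := one_ne_zero
  form x y := by rw [Ve_apply, Ve_apply, sf_V, one_mul]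
  dd x y z := by rw [Ve_apply, Ve_apply, Ve_apply, Ve_apply, DD_V, one_smul]

/-- an element which stabilises `W` stabilises `WW F W` -/
theorem V_WW [CharP F 5] {g : Gh F} {W : Submodule F (D1 → F)} (h : ∀ w ∈ W, V F g w ∈ W) :
    ∀ w ∈ WW F W, V F g w ∈ WW F W := by
  have h1 : W.map (Ve g : (D1 → F) →ₗ[F] (D1 → F)) = W := by
    ext w
    constructor
    · rintro ⟨w, hw, rfl⟩
      exact h w hw
    · intro hw
      have h2 := (mem_St_of (ρ := V F) h)
      have h3 : V F g⁻¹ w ∈ W := by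
        rw [← h2 (V F g⁻¹ w)]
        rw [← Module.End.mul_apply, ← map_mul, mul_inv_cancel, map_one]
        exact hw
      refine ⟨_, h3, ?_⟩
      show V F g (V F g⁻¹ w) = w
      rw [← Module.End.mul_apply, ← map_mul, mul_inv_cancel, map_one]
      rfl
  have h2 := map_WW (sim_Ve g) W
  rw [h1] at h2
  intro w hw
  rw [← h2]
  exact ⟨w, hw, rfl⟩

theorem stab_WW [CharP F 5] {H : Subgroup ↥(chevE7.group F)} {W : Submodule F (D1 → F)} (h : Stab (V F) H W) :
    Stab (V F) H (WW F W) := fun g hg => V_WW (h g hg)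

end Cfsg.Agent.R2.PX.C
end

private theorem dce_4b3da6d32a3e : _root_.True := by
  try have : _root_.True := by simp only [_root_.Cfsg.Agent.R2.PX.C.TT.eq_1]
  try have : _root_.True := by simp only [_root_.Cfsg.Agent.R2.PX.C.WW.eq_1]
  exact _root_.True.intro
end

-- part: R2/T1/T2p/Base
section
prune_inst 0x440210000000018059203000044080000020040000098c00804014652622907a041d6001800801aac402008000811000110423800002a0004000001012090825202b308a00426009780a080000000000000000000000000000000051004000000000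
set_option linter.all false
open scoped Cfsg.Agent.FastGrp

/-!
# T1 (S5771, p = 2): vectors fixed by `A_(n-2)` and their translates, `n` arbitrary (helper25)

* `US ψ o p` : the fixed space of the stabilizer of the points `o`, `p`;
* `W ψ o p u i j` : the translates of `u ∈ US ψ o p`; `tri`, `W_symm`;
* `exists_t0` : the elements of `H`.
-/

set_option autoImplicit false
set_option maxRecDepth 100000

namespace Cfsg.Agent.R2.T1.T2p

open Cfsg Cfsg.Lie Module Equiv Equiv.Perm
open Cfsg.Agent.H943.E7V.Block (D1 rho)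
open Cfsg.Agent.H952.F4 (ev es MaxAlt)
open Cfsg.Agent.R2.T1

universe u

variable {F : Type u} [Field F] {n : ℕ}

section US
variable (ψ : ↥(alternatingGroup (Fin n)) →* Gh F) (o p : Fin n)

/-- the vectors fixed by the stabilizer of `o` and `p` -/
def US : Submodule F (D1 → F) where
  carrier := {v | ∀ a : ↥(alternatingGroup (Fin n)), (a : Perm (Fin n)) o = o → (a : Perm (Fin n)) p = p → V F (ψ a) v = v}
  add_mem' := by
    intro v w hv hw a h6 h7
    rw [map_add, hv a h6 h7, hw a h6 h7]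
  zero_mem' := by
    intro a _ _
    rw [map_zero]
  smul_mem' := by
    intro c v hv a h6 h7
    rw [map_smul, hv a h6 h7]

end US

/-! ### translates -/

section W
variable {ψ : ↥(alternatingGroup (Fin n)) →* Gh F} {o p : Fin n}

open Classical in
/-- the translates -/
noncomputable def W (ψ : ↥(alternatingGroup (Fin n)) →* Gh F) (o p : Fin n) (u : D1 → F) (i j : Fin n) : D1 → F :=
  if h : ∃ a : ↥(alternatingGroup (Fin n)), (a : Perm (Fin n)) o = i ∧ (a : Perm (Fin n)) p = j then
    V F (ψ h.choose) u else 0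

theorem W_eq {u : D1 → F} (hu : u ∈ US ψ o p) {a : ↥(alternatingGroup (Fin n))} {i j : Fin n}
    (h6 : (a : Perm (Fin n)) o = i) (h7 : (a : Perm (Fin n)) p = j) : V F (ψ a) u = W ψ o p u i j := by
  have hex : ∃ a : ↥(alternatingGroup (Fin n)), (a : Perm (Fin n)) o = i ∧ (a : Perm (Fin n)) p = j := ⟨a, h6, h7⟩
  obtain ⟨p6, p7⟩ := hex.choose_spec
  unfold W
  rw [dif_pos hex]
  set b := hex.choose with hp
  have h1 : V F (ψ (b⁻¹ * a)) u = u := by
    apply hu
    · show ((b : Perm (Fin n))⁻¹) ((a : Perm (Fin n)) o) = o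
      rw [Perm.inv_eq_iff_eq, p6]; exact h6
    · show ((b : Perm (Fin n))⁻¹) ((a : Perm (Fin n)) p) = p
      rw [Perm.inv_eq_iff_eq, p7]; exact h7
  conv_rhs => rw [← h1]
  rw [← V_mul, ← map_mul, mul_inv_cancel_left]

theorem W_act (hn : 5 ≤ n) (hop : o ≠ p) {u : D1 → F} (hu : u ∈ US ψ o p) (b : ↥(alternatingGroup (Fin n))) {i j : Fin n}
    (hij : i ≠ j) : V F (ψ b) (W ψ o p u i j) = W ψ o p u ((b : Perm (Fin n)) i) ((b : Perm (Fin n)) j) := by
  obtain ⟨a, p6, p7⟩ := exists_even2 hn hop hij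
  rw [← W_eq hu p6 p7, ← V_mul, ← map_mul]
  apply W_eq hu
  · show (b : Perm (Fin n)) ((a : Perm (Fin n)) o) = _
    rw [p6]
  · show (b : Perm (Fin n)) ((a : Perm (Fin n)) p) = _
    rw [p7]

theorem W_self {u : D1 → F} (hu : u ∈ US ψ o p) : W ψ o p u o p = u := by
  have h := W_eq (a := 1) hu (i := o) (j := p) rfl rfl
  rw [← h, map_one, V_one]

/-- **triangle sums** -/
theorem tri (hn : 5 ≤ n) (hop : o ≠ p) {u : D1 → F} (hu : u ∈ US ψ o p) {q : Fin n} (hoq : o ≠ q) (hpq : p ≠ q)
    (h0 : W ψ o p u o p + W ψ o p u p q + W ψ o p u q o = 0)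
    {i j k : Fin n} (hij : i ≠ j) (hjk : j ≠ k) (hik : i ≠ k) : W ψ o p u i j + W ψ o p u j k + W ψ o p u k i = 0 := by
  obtain ⟨a, a5, a6, a7⟩ := exists_even3 hn hop hpq hoq hij hjk hik
  have h1 := congrArg (V F (ψ a)) h0
  rw [map_add, map_add, map_zero, W_act hn hop hu a hop, W_act hn hop hu a hpq, W_act hn hop hu a hoq.symm, a5, a6, a7] at h1
  exact h1

theorem add_self_zero (h2 : (2 : F) = 0) (v : D1 → F) : v + v = 0 := by
  funext a
  rw [Pi.add_apply, Pi.zero_apply]
  linear_combination (v a) * h2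

theorem W_symm (h2 : (2 : F) = 0) (hn : 5 ≤ n) {u : D1 → F}
    (hT : ∀ i j k : Fin n, i ≠ j → j ≠ k → i ≠ k → W ψ o p u i j + W ψ o p u j k + W ψ o p u k i = 0)
    {i j : Fin n} (hij : i ≠ j) : W ψ o p u i j = W ψ o p u j i :=
  sym_of_tri (W := W ψ o p u) hn (add_self_zero h2) hT hij

end W

/-! ### the outer elements -/

section outer
variable {H : Subgroup ↥(chevE7.group F)} {φ : ↥(alternatingGroup (Fin n)) →* ↥(chevE7.group F)}
  {ψ : ↥(alternatingGroup (Fin n)) →* Gh F}

theorem ad_inj2 (h2 : (2 : F) = 0) {g h : Gh F} (hgh : ad F g = ad F h) : g = h := by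
  rcases ad_eq_iff.1 hgh with h1 | h1
  · exact h1
  · apply V_injective
    rw [h1]
    refine LinearMap.ext fun v => ?_
    rw [LinearMap.neg_apply]
    exact neg_eq_of_add_eq_zero_left (add_self_zero h2 _)

theorem cent_one (h2 : (2 : F) = 0) (hn : 5 ≤ n) (hM : MaxAlt H n φ) (hψ : Lift φ ψ) {g : Gh F}
    (hg : ∀ a, g * ψ a * g⁻¹ = ψ a) : g = 1 := by
  apply ad_inj2 h2
  rw [map_one]
  apply centralizer_eq hM (by omega)
  intro a
  rw [← hψ a, ← map_mul, ← map_mul]
  congr 1
  have h := hg a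
  rw [mul_inv_eq_iff_eq_mul] at h
  exact h.symm

theorem perm_lift (h2 : (2 : F) = 0) (hn : 7 ≤ n) (hM : MaxAlt H n φ) (hψ : Lift φ ψ) {g : Gh F} (hg : ad F g ∈ H) :
    ∃ σ : Perm (Fin n), ∀ a b : ↥(alternatingGroup (Fin n)), (b : Perm (Fin n)) = σ * a * σ⁻¹ → g * ψ a * g⁻¹ = ψ b := by
  obtain ⟨σ, hσ⟩ := exists_perm hn hM hg
  refine ⟨σ, fun a b hab => ad_inj2 h2 ?_⟩
  rw [map_mul, map_mul, map_inv, hψ, hψ]
  exact hσ a b hab

/-- the elements of `H` -/
theorem exists_t0 (h2 : (2 : F) = 0) (hn : 7 ≤ n) (hM : MaxAlt H n φ) (hψ : Lift φ ψ) {o p : Fin n} (hop : o ≠ p) :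
    (∀ g : Gh F, ad F g ∈ H → ∃ π, g = ψ π) ∨
    ∃ t0 : Gh F, t0 * t0 = 1 ∧ (∀ a b : ↥(alternatingGroup (Fin n)), (b : Perm (Fin n)) = swap o p * a * swap o p →
      t0 * ψ a * t0⁻¹ = ψ b) ∧ ∀ g : Gh F, ad F g ∈ H → ∃ π, g = ψ π ∨ g = ψ π * t0 := by
  have hodd : ∀ σ : Perm (Fin n), sign σ = -1 → σ * swap o p ∈ alternatingGroup (Fin n) := by
    intro σ hσ
    rw [mem_alternatingGroup, Perm.sign_mul, hσ, sign_swap hop]
    decide
  have hs : (swap o p : Perm (Fin n))⁻¹ = swap o p := swap_inv _ _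
  have hconj : ∀ (σ : Perm (Fin n)) (a : ↥(alternatingGroup (Fin n))), σ * (a : Perm (Fin n)) * σ⁻¹ ∈ alternatingGroup (Fin n) := by
    intro σ a
    rw [mem_alternatingGroup, Perm.sign_mul, Perm.sign_mul, mem_alternatingGroup.1 a.2, mul_one, Perm.sign_inv,
      Int.units_mul_self]
  have heven : ∀ g : Gh F, ∀ σ : Perm (Fin n), (∀ a b : ↥(alternatingGroup (Fin n)), (b : Perm (Fin n)) = σ * (a : Perm (Fin n)) * σ⁻¹ →
      g * ψ a * g⁻¹ = ψ b) → ∀ hσ : σ ∈ alternatingGroup (Fin n), g = ψ ⟨σ, hσ⟩ := by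
    intro g σ h hσ
    have h1 : (ψ ⟨σ, hσ⟩)⁻¹ * g = 1 := by
      apply cent_one h2 (by omega) hM hψ
      intro a
      have h3 := h a ⟨σ * (a : Perm (Fin n)) * σ⁻¹, hconj σ a⟩ rfl
      have e : (⟨σ * (a : Perm (Fin n)) * σ⁻¹, hconj σ a⟩ : ↥(alternatingGroup (Fin n))) = ⟨σ, hσ⟩ * a * ⟨σ, hσ⟩⁻¹ := rfl
      rw [e, map_mul, map_mul, map_inv] at h3
      calc (ψ ⟨σ, hσ⟩)⁻¹ * g * ψ a * ((ψ ⟨σ, hσ⟩)⁻¹ * g)⁻¹ = (ψ ⟨σ, hσ⟩)⁻¹ * (g * ψ a * g⁻¹) * ψ ⟨σ, hσ⟩ := by group
        _ = ψ a := by rw [h3]; group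
    exact (inv_mul_eq_one.1 h1).symm
  by_cases hall : ∀ g : Gh F, ad F g ∈ H → ∃ π, g = ψ π
  · exact Or.inl hall
  right
  push Not at hall
  obtain ⟨g0, hg0, hne⟩ := hall
  obtain ⟨σ0, hσ0⟩ := perm_lift h2 hn hM hψ hg0
  have hs0 : sign σ0 = -1 := by
    rcases Int.units_eq_one_or (sign σ0) with h | h
    · exact absurd (heven g0 σ0 hσ0 (mem_alternatingGroup.2 h)) (hne _)
    · exact h
  have hred : ∀ g : Gh F, ∀ σ : Perm (Fin n), (∀ a b : ↥(alternatingGroup (Fin n)), (b : Perm (Fin n)) = σ * (a : Perm (Fin n)) * σ⁻¹ →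
      g * ψ a * g⁻¹ = ψ b) → ∀ hσ : σ * swap o p ∈ alternatingGroup (Fin n), ∀ a b : ↥(alternatingGroup (Fin n)),
        (b : Perm (Fin n)) = swap o p * (a : Perm (Fin n)) * swap o p →
        ((ψ ⟨σ * swap o p, hσ⟩)⁻¹ * g) * ψ a * ((ψ ⟨σ * swap o p, hσ⟩)⁻¹ * g)⁻¹ = ψ b := by
    intro g σ h hσ a b hb
    have h3 := h a ⟨σ * (a : Perm (Fin n)) * σ⁻¹, hconj σ a⟩ rfl
    have e : (⟨σ * (a : Perm (Fin n)) * σ⁻¹, hconj σ a⟩ : ↥(alternatingGroup (Fin n))) =
        ⟨σ * swap o p, hσ⟩ * b * (⟨σ * swap o p, hσ⟩ : ↥(alternatingGroup (Fin n)))⁻¹ := by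
      apply Subtype.ext
      show σ * (a : Perm (Fin n)) * σ⁻¹ = σ * swap o p * (b : Perm (Fin n)) * (σ * swap o p)⁻¹
      rw [hb, mul_inv_rev, hs]
      have h4 : (swap o p : Perm (Fin n)) * swap o p = 1 := swap_mul_self _ _
      calc σ * (a : Perm (Fin n)) * σ⁻¹ = σ * (swap o p * swap o p) * (a : Perm (Fin n)) * (swap o p * swap o p) * σ⁻¹ := by
            rw [h4, mul_one, mul_one]
        _ = _ := by simp only [mul_assoc]
    rw [e, map_mul, map_mul, map_inv] at h3
    calc _ = (ψ ⟨σ * swap o p, hσ⟩)⁻¹ * (g * ψ a * g⁻¹) * ψ ⟨σ * swap o p, hσ⟩ := by group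
      _ = ψ b := by rw [h3]; group
  set t0 : Gh F := (ψ ⟨σ0 * swap o p, hodd σ0 hs0⟩)⁻¹ * g0 with ht0
  have ht : ∀ a b : ↥(alternatingGroup (Fin n)), (b : Perm (Fin n)) = swap o p * (a : Perm (Fin n)) * swap o p →
      t0 * ψ a * t0⁻¹ = ψ b := hred g0 σ0 hσ0 (hodd σ0 hs0)
  have hss : ∀ a : Perm (Fin n), swap o p * (swap o p * a * swap o p) * swap o p = a := by
    intro a
    have h4 : (swap o p : Perm (Fin n)) * swap o p = 1 := swap_mul_self _ _
    calc _ = (swap o p * swap o p) * a * (swap o p * swap o p) := by simp only [mul_assoc]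
      _ = a := by rw [h4, one_mul, mul_one]
  have hcs : ∀ a : ↥(alternatingGroup (Fin n)), swap o p * (a : Perm (Fin n)) * swap o p ∈ alternatingGroup (Fin n) := by
    intro a
    have := hconj (swap o p) a
    rwa [hs] at this
  have ht2 : t0 * t0 = 1 := by
    apply cent_one h2 (by omega) hM hψ
    intro a
    have h3 := ht a ⟨_, hcs a⟩ rfl
    have h4 := ht ⟨_, hcs a⟩ a (hss _).symm
    calc t0 * t0 * ψ a * (t0 * t0)⁻¹ = t0 * (t0 * ψ a * t0⁻¹) * t0⁻¹ := by group
      _ = ψ a := by rw [h3, h4]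
  refine ⟨t0, ht2, ht, fun g hg => ?_⟩
  obtain ⟨σ, hσ⟩ := perm_lift h2 hn hM hψ hg
  rcases Int.units_eq_one_or (sign σ) with h | h
  · exact ⟨_, Or.inl (heven g σ hσ (mem_alternatingGroup.2 h))⟩
  · refine ⟨⟨σ * swap o p, hodd σ h⟩, Or.inr ?_⟩
    have h3 := hred g σ hσ (hodd σ h)
    set t1 : Gh F := (ψ ⟨σ * swap o p, hodd σ h⟩)⁻¹ * g with ht1
    have h4 : t1 * t0 = 1 := by
      apply cent_one h2 (by omega) hM hψ
      intro a
      have h5 := ht a ⟨_, hcs a⟩ rfl
      have h6 := h3 ⟨_, hcs a⟩ a (hss _).symm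
      calc t1 * t0 * ψ a * (t1 * t0)⁻¹ = t1 * (t0 * ψ a * t0⁻¹) * t1⁻¹ := by group
        _ = ψ a := by rw [h5, h6]
    have h5 : t1 = t0 := by
      calc t1 = t1 * (t0 * t0) := by rw [ht2, mul_one]
        _ = (t1 * t0) * t0 := by group
        _ = t0 := by rw [h4, one_mul]
    rw [← h5, ht1]; group

/-- a vector with `H u = ψ(A_n) u` -/
theorem exists_vec (h2 : (2 : F) = 0) (hn : 7 ≤ n) (hM : MaxAlt H n φ) (hψ : Lift φ ψ) {o p : Fin n} (hop : o ≠ p)
    (U' : Submodule F (D1 → F)) (h0 : U' ≠ ⊥) (hst : ∀ t0 : Gh F, t0 * t0 = 1 →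
      (∀ a b : ↥(alternatingGroup (Fin n)), (b : Perm (Fin n)) = swap o p * a * swap o p → t0 * ψ a * t0⁻¹ = ψ b) →
      ∀ u ∈ U', V F t0 u ∈ U') : ∃ u ∈ U', u ≠ 0 ∧ ∀ g : Gh F, ad F g ∈ H → ∃ π, V F g u = V F (ψ π) u := by
  obtain ⟨v, hv, hv0⟩ := Submodule.exists_mem_ne_zero_of_ne_bot h0
  rcases exists_t0 h2 hn hM hψ hop with h | ⟨t0, ht2, ht, hgen⟩
  · refine ⟨v, hv, hv0, fun g hg => ?_⟩
    obtain ⟨π, rfl⟩ := h g hg
    exact ⟨π, rfl⟩
  · have key : ∀ u ∈ U', u ≠ 0 → V F t0 u = u → ∃ u ∈ U', u ≠ 0 ∧ ∀ g : Gh F, ad F g ∈ H → ∃ π, V F g u = V F (ψ π) u := by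
      intro u hu hu0 hut
      refine ⟨u, hu, hu0, fun g hg => ?_⟩
      obtain ⟨π, h9 | h9⟩ := hgen g hg
      · exact ⟨π, by rw [h9]⟩
      · exact ⟨π, by rw [h9, V_mul, hut]⟩
    by_cases hvt : V F t0 v = v
    · exact key v hv hv0 hvt
    · refine key (v + V F t0 v) (U'.add_mem hv (hst t0 ht2 ht v hv)) ?_ ?_
      · intro h
        apply hvt
        have h3 := add_self_zero h2 v
        have h4 : V F t0 v = -v := (neg_eq_of_add_eq_zero_right h).symm
        rw [h4]
        exact neg_eq_of_add_eq_zero_left h3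
      · rw [map_add, ← V_mul, ht2, V_one, add_comm]

end outer

end Cfsg.Agent.R2.T1.T2p
end

-- part: R2/T1/T2p/Final
section
prune_inst 0x440310000000018059203000044080000020040000048c00804094042622903a04196101000800ea8c06008000811000110420800000a0004000001012090815202b308a004260091800080000000000000000000000000000000010004000000000
set_option linter.all false
open scoped Cfsg.Agent.FastGrp

/-!
# T1 (S5771, p = 2): additive translates with equal values of the moment map, `n` arbitrary (helper25)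

* `phi_eq` : if the combination of `line_F` vanishes at `u` then the values of the moment map at the translates are equal;
* `final` : the contradiction.
-/

set_option autoImplicit false
set_option maxRecDepth 100000

namespace Cfsg.Agent.R2.T1.T2p

open Cfsg Cfsg.Lie Module Equiv Equiv.Perm
open Cfsg.Agent.H943.E7V.Block (D1 rho)
open Cfsg.Agent.H952.F4 (ev es MaxAlt)
open Cfsg.Agent.R2.T1 Cfsg.Agent.R2.T1.Mu2 Cfsg.Agent.R2.PX
open Cfsg.Agent.R2.T1.T1p (Pf Pf_eq Pf_comm Pf_add_right Pf_smul_right)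

universe u
variable {F : Type u} [Field F] {n : ℕ}

section polar
variable {ψ : ↥(alternatingGroup (Fin n)) →* Gh F} {o p : Fin n} {u : D1 → F}

/-- all values of the moment map on the translates are equal -/
theorem Mu_W (hn : 6 ≤ n) (hop : o ≠ p) (hu : u ∈ US ψ o p) {q : Fin n} (hoq : o ≠ q) (hpq : p ≠ q)
    (heq : Mu F (W ψ o p u o p) = Mu F (W ψ o p u p q)) {i j : Fin n} (hij : i ≠ j) :
    Mu F (W ψ o p u i j) = Mu F u := by
  have step : ∀ a b c : Fin n, a ≠ b → b ≠ c → a ≠ c → Mu F (W ψ o p u a b) = Mu F (W ψ o p u b c) := by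
    intro a b c hab hbc hac
    obtain ⟨g, g5, g6, g7⟩ := exists_even3 (by omega) hop hpq hoq hab hbc hac
    have e1 : W ψ o p u a b = V F (ψ g) (W ψ o p u o p) := by rw [W_act (by omega) hop hu g hop, g5, g6]
    have e2 : W ψ o p u b c = V F (ψ g) (W ψ o p u p q) := by rw [W_act (by omega) hop hu g hpq, g6, g7]
    rw [e1, e2, Mu_V', Mu_V', heq]
  obtain ⟨c, d, c1, c2, c3, c4, d1, d2, d3, d4, hcd⟩ := two_out4 hn o p i j
  have h1 := step o p c hop c2.symm c1.symm
  have h2 := step p c d c2.symm hcd d2.symm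
  have h3 := step c d i hcd d3 c3
  have h4 := step d i j d3 hij d4
  rw [← h4, ← h3, ← h2, ← h1, W_self hu]

/-- the polar form vanishes on the translates -/
theorem Pf_W (h2 : (2 : F) = 0)
    (hsym : ∀ i j : Fin n, i ≠ j → W ψ o p u i j = W ψ o p u j i)
    (hT : ∀ i j k : Fin n, i ≠ j → j ≠ k → i ≠ k → W ψ o p u i j + W ψ o p u j k + W ψ o p u k i = 0)
    (hz : ∀ i j : Fin n, i ≠ j → Mu F (W ψ o p u i j) = 0) {i j k l : Fin n} (hij : i ≠ j) (hkl : k ≠ l)
    (z : chevE7.Idx → F) : Pf (W ψ o p u i j) (W ψ o p u k l) z = 0 := by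
  have hneg : ∀ v : D1 → F, -v = v := fun v => neg_eq_of_add_eq_zero_left (add_self_zero h2 v)
  have hself : ∀ i j : Fin n, i ≠ j → Pf (W ψ o p u i j) (W ψ o p u i j) z = 0 := by
    intro i j h
    rw [Pf_eq, add_self_zero h2, Mu_zero, hz i j h, LinearMap.zero_apply]
    ring
  have hadd : ∀ i j k : Fin n, i ≠ j → j ≠ k → i ≠ k → W ψ o p u i j + W ψ o p u j k = W ψ o p u i k := by
    intro i j k h1 h3 h4
    have h5 := hT i j k h1 h3 h4
    rw [hsym i k h4, ← hneg (W ψ o p u k i)]
    exact eq_neg_of_add_eq_zero_left h5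
  have hshare : ∀ i j k : Fin n, i ≠ j → j ≠ k → i ≠ k → Pf (W ψ o p u i j) (W ψ o p u j k) z = 0 := by
    intro i j k h1 h3 h4
    rw [Pf_eq, hadd i j k h1 h3 h4, hz i k h4, hz i j h1, hz j k h3, LinearMap.zero_apply]
    ring
  by_cases hki : k = i
  · subst hki
    by_cases hlj : l = j
    · subst hlj; exact hself k l hij
    · rw [hsym k j hij]
      exact hshare j k l hij.symm hkl (Ne.symm hlj)
  by_cases hkj : k = j
  · subst hkj
    by_cases hli : l = i
    · subst hli; rw [hsym k l hkl]; exact hself l k hij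
    · exact hshare i k l hij hkl (Ne.symm hli)
  by_cases hli : l = i
  · subst hli
    rw [hsym k l hkl, hsym l j hij]
    exact hshare j l k hij.symm (Ne.symm hki) (Ne.symm hkj)
  by_cases hlj : l = j
  · subst hlj
    rw [hsym k l hkl]
    exact hshare i l k hij (Ne.symm hkj) (Ne.symm hki)
  rw [← hadd k j l hkj (Ne.symm hlj) hkl, Pf_add_right, hshare i j l hij (Ne.symm hlj) (Ne.symm hli), add_zero,
    hsym k j hkj]
  exact hshare i j k hij (Ne.symm hkj) (Ne.symm hki)

end polar

/-! ### the main argument -/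

section main
variable {H : Subgroup ↥(chevE7.group F)} {φ : ↥(alternatingGroup (Fin n)) →* ↥(chevE7.group F)}
  {ψ : ↥(alternatingGroup (Fin n)) →* Gh F} {o p : Fin n}

/-- the final contradiction from a vector with equal values of the moment map -/
theorem final [Finite F] (h2 : (2 : F) = 0) (hn : 7 ≤ n) (hM : MaxAlt H n φ) (hψ : Lift φ ψ) (hop : o ≠ p)
    (hcard : 4 * Nat.card ↥H < Nat.card F ^ 76)
    (hts : ∀ S : Submodule F (D1 → F), Stab (V F) H S → S ≠ ⊥ → (∀ x ∈ S, Sing x) → False)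
    {u : D1 → F} (hu : u ∈ US ψ o p) {q : Fin n} (hoq : o ≠ q) (hpq : p ≠ q)
    (hT0 : W ψ o p u o p + W ψ o p u p q + W ψ o p u q o = 0)
    (hu0 : u ≠ 0) (hH : ∀ g : Gh F, ad F g ∈ H → ∃ π, V F g u = V F (ψ π) u)
    (heq : Mu F (W ψ o p u o p) = Mu F (W ψ o p u p q)) : False := by
  have hT : ∀ i j k : Fin n, i ≠ j → j ≠ k → i ≠ k → W ψ o p u i j + W ψ o p u j k + W ψ o p u k i = 0 :=
    fun i j k h1 h3 h4 => tri (by omega) hop hu hoq hpq hT0 h1 h3 h4
  have hsym : ∀ i j : Fin n, i ≠ j → W ψ o p u i j = W ψ o p u j i := fun i j h => W_symm h2 (by omega) hT h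
  have hne67 : ∀ π : ↥(alternatingGroup (Fin n)), (π : Perm (Fin n)) o ≠ (π : Perm (Fin n)) p := fun π h =>
    hop ((π : Perm (Fin n)).injective h)
  have hVW : ∀ π : ↥(alternatingGroup (Fin n)), V F (ψ π) u = W ψ o p u ((π : Perm (Fin n)) o) ((π : Perm (Fin n)) p) :=
    fun π => W_eq hu rfl rfl
  have hMu0 : Mu F u = 0 := by
    apply func_zero hM.coatom hcard
    intro g hg
    obtain ⟨π, hπ⟩ := hH g hg
    rw [hπ, hVW, Mu_W (by omega) hop hu hoq hpq heq (hne67 π)]
  have hz : ∀ i j : Fin n, i ≠ j → Mu F (W ψ o p u i j) = 0 := fun i j hij => by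
    rw [Mu_W (by omega) hop hu hoq hpq heq hij, hMu0]
  set S : Submodule F (D1 → F) := Submodule.span F (Set.range fun π : ↥(alternatingGroup (Fin n)) => V F (ψ π) u) with hS
  have hmem : ∀ π : ↥(alternatingGroup (Fin n)), V F (ψ π) u ∈ S := fun π => Submodule.subset_span ⟨π, rfl⟩
  have hP1 : ∀ (π : ↥(alternatingGroup (Fin n))) (y : D1 → F), y ∈ S → ∀ z, Pf (V F (ψ π) u) y z = 0 := by
    intro π y hy z
    rw [hS] at hy
    induction hy using Submodule.span_induction with
    | mem y hy =>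
      obtain ⟨π', rfl⟩ := hy
      show Pf (V F (ψ π) u) (V F (ψ π') u) z = 0
      rw [hVW, hVW]
      exact Pf_W h2 hsym hT hz (hne67 π) (hne67 π') z
    | zero => unfold Pf; rw [map_zero, LinearMap.zero_apply]
    | add a b _ _ ha hb => rw [Pf_add_right, ha, hb, add_zero]
    | smul c a _ ha => rw [Pf_smul_right, ha, mul_zero]
  have hP : ∀ x ∈ S, ∀ y ∈ S, ∀ z, Pf x y z = 0 := by
    intro x hx y hy z
    rw [hS] at hx
    induction hx using Submodule.span_induction with
    | mem x hx =>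
      obtain ⟨π, rfl⟩ := hx
      exact hP1 π y hy z
    | zero => rw [Pf_comm]; unfold Pf; rw [map_zero, LinearMap.zero_apply]
    | add a b _ _ ha hb => rw [Pf_comm, Pf_add_right, Pf_comm y a, Pf_comm y b, ha, hb, add_zero]
    | smul c a _ ha => rw [Pf_comm, Pf_smul_right, Pf_comm y a, ha, mul_zero]
  have hsing : ∀ x ∈ S, Sing x := by
    intro x hx
    rw [hS] at hx
    induction hx using Submodule.span_induction with
    | mem x hx =>
      obtain ⟨π, rfl⟩ := hx
      show Mu F (V F (ψ π) u) = 0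
      rw [hVW]
      exact hz _ _ (hne67 π)
    | zero => exact Mu_zero
    | add a b ha hb ha' hb' =>
      refine LinearMap.ext fun z => ?_
      have h3 := hP a ha b hb z
      rw [Pf_eq, ha', hb', LinearMap.zero_apply, sub_zero, sub_zero] at h3
      exact h3
    | smul c a _ ha => exact ha.smul c
  refine hts S ?_ ?_ hsing
  · intro g hg w hw
    obtain ⟨σ, hσ⟩ := perm_lift h2 hn hM hψ hg
    obtain ⟨π, hπ⟩ := hH g hg
    rw [hS] at hw
    induction hw using Submodule.span_induction with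
    | mem x hx =>
      obtain ⟨a, rfl⟩ := hx
      have hconj : σ * (a : Perm (Fin n)) * σ⁻¹ ∈ alternatingGroup (Fin n) := by
        rw [mem_alternatingGroup, Perm.sign_mul, Perm.sign_mul, mem_alternatingGroup.1 a.2, mul_one, Perm.sign_inv,
          Int.units_mul_self]
      have h3 := hσ a ⟨_, hconj⟩ rfl
      have h4 : V F g (V F (ψ a) u) = V F (ψ (⟨_, hconj⟩ * π)) u := by
        rw [map_mul, V_mul, ← hπ, ← V_mul, ← V_mul, ← h3]
        congr 2
        group
      show V F g (V F (ψ a) u) ∈ S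
      rw [h4]
      exact hmem _
    | zero => rw [map_zero]; exact zero_mem _
    | add a b _ _ ha hb => rw [map_add]; exact add_mem ha hb
    | smul c a _ ha => rw [map_smul]; exact S.smul_mem c ha
  · intro h
    have h3 := hmem 1
    rw [h, map_one, V_one, Submodule.mem_bot] at h3
    exact hu0 h3

/-- the values of the moment map are equal if the combinations vanish -/
theorem phi_eq {K : Type u} [Field K] (h2K : (2 : K) = 0) (f : F →+* K) {ω : K} (hω : ω ^ 2 + ω + 1 = 0) {m0 m1 m2 : F}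
    (e1 : f m0 + ω * f m1 + ω ^ 2 * f m2 = 0) (e2 : f m0 + ω * f m2 + ω ^ 2 * f m1 = 0) : m0 = m1 := by
  have hω1 : ω - ω ^ 2 ≠ 0 := by
    intro h
    have h4 : ω * (1 - ω) = 0 := by linear_combination h
    rcases mul_eq_zero.1 h4 with h5 | h5
    · rw [h5] at hω
      norm_num at hω
    · have h6 : ω = 1 := (sub_eq_zero.1 h5).symm
      rw [h6] at hω
      have h7 : (1 : K) = 0 := by linear_combination hω - h2K
      exact one_ne_zero h7
  have e3 : (ω - ω ^ 2) * (f m1 - f m2) = 0 := by linear_combination e1 - e2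
  have e4 := sub_eq_zero.1 ((mul_eq_zero.1 e3).resolve_left hω1)
  have e5 : f m0 = f m1 := by
    rw [← e4] at e1
    linear_combination e1 - (f m1) * hω
  exact f.injective e5

end main

end Cfsg.Agent.R2.T1.T2p
end

-- part: R2/T1/T1x/Main
section
prune_inst 0x400210000000018009203000040080000020040000088c00404094020602906a0409e10040000888c804000000000000000400000000a00040000000120908252029308ac04160087000080000000000000000000000000000000010004000000000
set_option linter.all false
open scoped Cfsg.Agent.FastGrp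

-- part: R2/T1/T1x/Cert
section
/-!
# T1 (S5771, p = 2, n = 8): the ghost pattern `(32, 20, 16, 2, 8)` (helper24)

* `Y0 ψ` : the vectors fixed by `A_5 × A_3`; `dim_Y0_le` : `finrank (Y0 ψ) ≤ ev (7-cycle) 1`.
-/

set_option autoImplicit false
set_option maxRecDepth 100000

namespace Cfsg.Agent.R2.T1.T1x

open Cfsg Cfsg.Lie Module Equiv Equiv.Perm
open Cfsg.Agent.H943.E7V.Block (D1 rho)
open Cfsg.Agent.H952.F4 (ev es MaxAlt)
open Cfsg.Agent.R2.T1 Cfsg.Agent.R2.T1.T1p

universe u

variable {F : Type u} [Field F]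

/-- the 3-cycle (5 6 7) -/
def c3 : A8 := ⟨c[(5 : Fin 8), 6, 7], by rw [mem_alternatingGroup]; decide +kernel⟩

/-- the 7-cycle -/
def c7 : A8 := ⟨c[(0 : Fin 8), 1, 2, 3, 4, 5, 6], by rw [mem_alternatingGroup]; decide +kernel⟩

/-- an element with 5 ↦ 0, 6 ↦ 1, 7 ↦ 2 -/
def h0 : A8 := ⟨c[(0 : Fin 8), 5] * c[(1 : Fin 8), 6] * c[(2 : Fin 8), 7] * c[(3 : Fin 8), 4], by rw [mem_alternatingGroup]; decide +kernel⟩

variable (ψ : A8 →* Gh F)

/-- the vectors fixed by `A_5 × A_3` -/
def Y0 : Submodule F (D1 → F) where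
  carrier := {v | V F (ψ c3) v = v ∧ ∀ a : A8, (a : Perm (Fin 8)) 5 = 5 → (a : Perm (Fin 8)) 6 = 6 →
    (a : Perm (Fin 8)) 7 = 7 → V F (ψ a) v = v}
  add_mem' := by
    rintro v w ⟨hv0, hv⟩ ⟨hw0, hw⟩
    exact ⟨by rw [map_add, hv0, hw0], fun a h5 h6 h7 => by rw [map_add, hv a h5 h6 h7, hw a h5 h6 h7]⟩
  zero_mem' := ⟨map_zero _, fun a _ _ _ => map_zero _⟩
  smul_mem' := by
    rintro c v ⟨hv0, hv⟩
    exact ⟨by rw [map_smul, hv0], fun a h5 h6 h7 => by rw [map_smul, hv a h5 h6 h7]⟩

variable {ψ}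

open Classical in
/-- the translates -/
noncomputable def T (ψ : A8 →* Gh F) (v : D1 → F) (i j k : Fin 8) : D1 → F :=
  if h : i ≠ j ∧ j ≠ k ∧ i ≠ k then V F (ψ (exists3 h.1 h.2.1 h.2.2).choose) v else 0

theorem T_eq {v : D1 → F} (hv : v ∈ Y0 ψ) {a : A8} {i j k : Fin 8} (h5 : (a : Perm (Fin 8)) 5 = i)
    (h6 : (a : Perm (Fin 8)) 6 = j) (h7 : (a : Perm (Fin 8)) 7 = k) : V F (ψ a) v = T ψ v i j k := by
  have hinj := (a : Perm (Fin 8)).injective
  have hd : i ≠ j ∧ j ≠ k ∧ i ≠ k := by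
    refine ⟨?_, ?_, ?_⟩ <;> rintro rfl
    · exact absurd (hinj (h5.trans h6.symm)) (by decide)
    · exact absurd (hinj (h6.trans h7.symm)) (by decide)
    · exact absurd (hinj (h5.trans h7.symm)) (by decide)
  unfold T
  rw [dif_pos hd]
  obtain ⟨p5, p6, p7⟩ := (exists3 hd.1 hd.2.1 hd.2.2).choose_spec
  set p := (exists3 hd.1 hd.2.1 hd.2.2).choose with hp
  have h1 : V F (ψ (p⁻¹ * a)) v = v := by
    apply hv.2
    · show ((p : Perm (Fin 8))⁻¹) ((a : Perm (Fin 8)) 5) = 5
      rw [Perm.inv_eq_iff_eq, p5]; exact h5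
    · show ((p : Perm (Fin 8))⁻¹) ((a : Perm (Fin 8)) 6) = 6
      rw [Perm.inv_eq_iff_eq, p6]; exact h6
    · show ((p : Perm (Fin 8))⁻¹) ((a : Perm (Fin 8)) 7) = 7
      rw [Perm.inv_eq_iff_eq, p7]; exact h7
  conv_rhs => rw [← h1]
  rw [← V_mul, ← map_mul, mul_inv_cancel_left]

theorem T_act {v : D1 → F} (hv : v ∈ Y0 ψ) (b : A8) {i j k : Fin 8} (h1 : i ≠ j) (h2 : j ≠ k) (h3 : i ≠ k) :
    V F (ψ b) (T ψ v i j k) = T ψ v ((b : Perm (Fin 8)) i) ((b : Perm (Fin 8)) j) ((b : Perm (Fin 8)) k) := by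
  obtain ⟨p, p5, p6, p7⟩ := exists3 h1 h2 h3
  rw [← T_eq hv p5 p6 p7, ← V_mul, ← map_mul]
  apply T_eq hv
  · show (b : Perm (Fin 8)) ((p : Perm (Fin 8)) 5) = _
    rw [p5]
  · show (b : Perm (Fin 8)) ((p : Perm (Fin 8)) 6) = _
    rw [p6]
  · show (b : Perm (Fin 8)) ((p : Perm (Fin 8)) 7) = _
    rw [p7]

theorem T_self {v : D1 → F} (hv : v ∈ Y0 ψ) : T ψ v 5 6 7 = v := by
  have h := T_eq hv (a := 1) (i := 5) (j := 6) (k := 7) rfl rfl rfl
  rw [← h, map_one, V_one]

theorem T_rot {v : D1 → F} (hv : v ∈ Y0 ψ) {i j k : Fin 8} (h1 : i ≠ j) (h2 : j ≠ k) (h3 : i ≠ k) :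
    T ψ v i j k = T ψ v j k i := by
  obtain ⟨p, p5, p6, p7⟩ := exists3 h1 h2 h3
  rw [← T_eq hv p5 p6 p7]
  have e : V F (ψ (p * c3)) v = V F (ψ p) v := by rw [map_mul, V_mul, hv.1]
  rw [← e]
  have c5 : (c3 : Perm (Fin 8)) 5 = 6 := by decide +kernel
  have c6 : (c3 : Perm (Fin 8)) 6 = 7 := by decide +kernel
  have c7' : (c3 : Perm (Fin 8)) 7 = 5 := by decide +kernel
  apply T_eq hv
  · show (p : Perm (Fin 8)) ((c3 : Perm (Fin 8)) 5) = _
    rw [c5, p6]
  · show (p : Perm (Fin 8)) ((c3 : Perm (Fin 8)) 6) = _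
    rw [c6, p7]
  · show (p : Perm (Fin 8)) ((c3 : Perm (Fin 8)) 7) = _
    rw [c7', p5]

/-- the sum over the cyclic group of order 7 -/
noncomputable def Z (ψ : A8 →* Gh F) : (D1 → F) →ₗ[F] (D1 → F) :=
  (∑ k ∈ Finset.range 7, (V F (ψ c7)) ^ k) ∘ₗ V F (ψ h0)

theorem Z_eq {v : D1 → F} (hv : v ∈ Y0 ψ) : Z ψ v = T ψ v 0 1 2 + T ψ v 1 2 3 + T ψ v 2 3 4 + T ψ v 3 4 5 + T ψ v 4 5 6 +
    T ψ v 5 6 0 + T ψ v 6 0 1 := by
  have e0 : V F (ψ h0) v = T ψ v 0 1 2 := T_eq hv (by decide +kernel) (by decide +kernel) (by decide +kernel)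
  have hs : ∀ {i j k i' j' k' : Fin 8}, (i ≠ j ∧ j ≠ k ∧ i ≠ k) → ((c7 : Perm (Fin 8)) i = i' ∧ (c7 : Perm (Fin 8)) j = j' ∧
      (c7 : Perm (Fin 8)) k = k') → V F (ψ c7) (T ψ v i j k) = T ψ v i' j' k' := by
    rintro i j k i' j' k' ⟨h1, h2, h3⟩ ⟨rfl, rfl, rfl⟩
    exact T_act hv c7 h1 h2 h3
  have e1 : V F (ψ c7) (T ψ v 0 1 2) = T ψ v 1 2 3 := hs (by decide) (by decide +kernel)
  have e2 : V F (ψ c7) (T ψ v 1 2 3) = T ψ v 2 3 4 := hs (by decide) (by decide +kernel)
  have e3 : V F (ψ c7) (T ψ v 2 3 4) = T ψ v 3 4 5 := hs (by decide) (by decide +kernel)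
  have e4 : V F (ψ c7) (T ψ v 3 4 5) = T ψ v 4 5 6 := hs (by decide) (by decide +kernel)
  have e5 : V F (ψ c7) (T ψ v 4 5 6) = T ψ v 5 6 0 := hs (by decide) (by decide +kernel)
  have e6 : V F (ψ c7) (T ψ v 5 6 0) = T ψ v 6 0 1 := hs (by decide) (by decide +kernel)
  unfold Z
  rw [LinearMap.comp_apply, e0, LinearMap.sum_apply]
  have hpow : ∀ k, ((V F (ψ c7)) ^ (k + 1)) (T ψ v 0 1 2) = V F (ψ c7) (((V F (ψ c7)) ^ k) (T ψ v 0 1 2)) := by
    intro k
    rw [pow_succ', Module.End.mul_apply]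
  simp only [Finset.sum_range_succ, Finset.sum_range_zero, zero_add, hpow, pow_zero, Module.End.one_apply, e1, e2, e3, e4, e5,
    e6]

theorem Z_fix (v : D1 → F) : V F (ψ c7) (Z ψ v) = Z ψ v := by
  have h7 : (V F (ψ c7)) ^ 7 = 1 := by
    rw [← map_pow, ← map_pow]
    have : c7 ^ 7 = 1 := by decide +kernel
    rw [this, map_one, map_one]
  unfold Z
  rw [LinearMap.comp_apply, ← Module.End.mul_apply]
  (with_reducible congr 1)
  rw [Finset.mul_sum]
  simp only [Finset.sum_range_succ, Finset.sum_range_zero, zero_add, ← pow_succ', pow_zero, h7]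
  rw [add_comm]
  abel

/-- all translates of a vanishing sum vanish -/
theorem H_of {v : D1 → F} (hv : v ∈ Y0 ψ) (hz : Z ψ v = 0) (p : Perm (Fin 8)) (hp : sign p = 1) (i0 i1 i2 i3 i4 i5 i6 : Fin 8)
    (he : p 0 = i0 ∧ p 1 = i1 ∧ p 2 = i2 ∧ p 3 = i3 ∧ p 4 = i4 ∧ p 5 = i5 ∧ p 6 = i6) :
    T ψ v i0 i1 i2 + T ψ v i1 i2 i3 + T ψ v i2 i3 i4 + T ψ v i3 i4 i5 + T ψ v i4 i5 i6 + T ψ v i5 i6 i0 + T ψ v i6 i0 i1 = 0 := by
  obtain ⟨rfl, rfl, rfl, rfl, rfl, rfl, rfl⟩ := he
  have h := congrArg (V F (ψ ⟨p, mem_alternatingGroup.2 hp⟩)) ((Z_eq hv).symm.trans hz)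
  rw [map_zero] at h
  simp only [map_add] at h
  rw [T_act hv _ (by decide) (by decide) (by decide), T_act hv _ (by decide) (by decide) (by decide),
    T_act hv _ (by decide) (by decide) (by decide), T_act hv _ (by decide) (by decide) (by decide),
    T_act hv _ (by decide) (by decide) (by decide), T_act hv _ (by decide) (by decide) (by decide),
    T_act hv _ (by decide) (by decide) (by decide)] at h
  exact h

/-- the certificate -/
theorem cert (h2 : (2 : F) = 0) (T : Fin 8 → Fin 8 → Fin 8 → F)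
    (R : ∀ i j k : Fin 8, (i ≠ j ∧ j ≠ k ∧ i ≠ k) → T i j k = T j k i)
    (H : ∀ p : Perm (Fin 8), sign p = 1 → ∀ i0 i1 i2 i3 i4 i5 i6 : Fin 8, (p 0 = i0 ∧ p 1 = i1 ∧ p 2 = i2 ∧ p 3 = i3 ∧ p 4 = i4 ∧
      p 5 = i5 ∧ p 6 = i6) → T i0 i1 i2 + T i1 i2 i3 + T i2 i3 i4 + T i3 i4 i5 + T i4 i5 i6 + T i5 i6 i0 + T i6 i0 i1 = 0) :
    T 5 6 7 = 0 := by
  have e1 := H (c[(1 : Fin 8), 4, 3, 5, 7, 2, 6]) (by decide +kernel) 0 4 6 5 3 7 1 (by decide +kernel)
  have e2 := H (c[(0 : Fin 8), 1, 7] * c[(2 : Fin 8), 4, 5, 3, 6]) (by decide +kernel) 1 7 4 6 5 3 2 (by decide +kernel)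
  have e3 := H (c[(1 : Fin 8), 4, 3, 5, 7]) (by decide +kernel) 0 4 2 5 3 7 6 (by decide +kernel)
  have e4 := H (c[(1 : Fin 8), 5, 7, 3] * c[(4 : Fin 8), 6]) (by decide +kernel) 0 5 2 1 6 7 4 (by decide +kernel)
  have e5 := H (c[(1 : Fin 8), 5, 7, 4, 3]) (by decide +kernel) 0 5 2 1 3 7 6 (by decide +kernel)
  have e6 := H (c[(1 : Fin 8), 4, 6] * c[(3 : Fin 8), 5, 7]) (by decide +kernel) 0 4 2 5 6 7 1 (by decide +kernel)
  have e7 := H (c[(1 : Fin 8), 5, 7, 3, 2, 6, 4]) (by decide +kernel) 0 5 6 2 1 7 4 (by decide +kernel)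
  linear_combination e1 + e2 + e3 + e4 + e5 + e6 + e7
    - ((R 3 6 5 (by decide)).symm + R 5 3 7 (by decide) + (R 1 3 7 (by decide)).symm + (R 0 7 1 (by decide)).symm + R 1 0 4 (by decide) + R 7 4 6 (by decide) + (R 3 6 5 (by decide)).symm + (R 2 5 3 (by decide)).symm + (R 1 3 2 (by decide)).symm + R 2 1 7 (by decide) + R 4 2 5 (by decide) + R 5 3 7 (by decide) + (R 0 7 6 (by decide)).symm + R 6 0 4 (by decide) + (R 1 5 2 (by decide)).symm + R 2 1 6 (by decide) + (R 4 6 7 (by decide)).symm + (R 0 7 4 (by decide)).symm + R 4 0 5 (by decide) + (R 1 5 2 (by decide)).symm + R 2 1 3 (by decide) + (R 0 7 6 (by decide)).symm + R 6 0 5 (by decide) + R 4 2 5 (by decide) + (R 1 6 7 (by decide)).symm + (R 0 7 1 (by decide)).symm + R 1 0 4 (by decide) + (R 2 5 6 (by decide)).symm + (R 1 6 2 (by decide)).symm + R 2 1 7 (by decide) + (R 0 7 4 (by decide)).symm + R 4 0 5 (by decide))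
    - (T 0 4 1 * 1 + T 0 4 2 * 1 + T 0 4 6 * 1 + T 0 5 2 * 1 + T 0 5 4 * 1 + T 0 5 6 * 1 + T 0 7 1 * 1 + T 0 7 4 * 1 + T 0 7 6 * 1 + T 1 3 2 * 1 + T 1 3 7 * 1 + T 1 5 2 * 1 + T 1 6 2 * 1 + T 1 6 7 * 1 + T 1 7 2 * 1 + T 1 7 4 * 1 + T 2 5 3 * 1 + T 2 5 4 * 1 + T 2 5 6 * 1 + T 3 6 5 * 1 + T 3 7 5 * 1 + T 3 7 6 * 1 + T 4 6 5 * 1 + T 4 6 7 * 1) * h2

theorem zero_of (h2 : (2 : F) = 0) {v : D1 → F} (hv : v ∈ Y0 ψ) (hz : Z ψ v = 0) : v = 0 := by
  rw [← T_self hv]
  funext b
  refine cert h2 (fun i j k => T ψ v i j k b) (fun i j k h => by show T ψ v i j k b = T ψ v j k i b; rw [T_rot hv h.1 h.2.1 h.2.2])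
    fun p hp i0 i1 i2 i3 i4 i5 i6 he => ?_
  have h := congrFun (H_of hv hz p hp i0 i1 i2 i3 i4 i5 i6 he) b
  exact h

theorem dim_Y0_le (h2 : (2 : F) = 0) : finrank F (Y0 ψ) ≤ ev (V F (ψ c7)) 1 := by
  let f : ↥(Y0 ψ) →ₗ[F] ↥(es (V F (ψ c7)) 1) :=
    (Z ψ ∘ₗ (Y0 ψ).subtype).codRestrict _ fun v => by
      show (Z ψ v :) ∈ Module.End.eigenspace _ _
      rw [Module.End.mem_eigenspace_iff, one_smul]
      exact Z_fix _
  have hf : Function.Injective f := by
    rw [← LinearMap.ker_eq_bot, eq_bot_iff]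
    intro v hv
    have h1 := congrArg Subtype.val (LinearMap.mem_ker.1 hv)
    rw [Submodule.mem_bot]
    exact Subtype.ext (zero_of h2 v.2 h1)
  exact LinearMap.finrank_le_finrank_of_injective hf

end Cfsg.Agent.R2.T1.T1x
end

-- part: R2/T1/T1x/Main
section
/-!
# T1 (S5771, p = 2, n = 8): the ghost pattern `(32, 20, 16, 2, 8)` is impossible (helper24)
-/

set_option autoImplicit false
set_option maxRecDepth 100000

namespace Cfsg.Agent.R2.T1.T1x

open Cfsg Cfsg.Lie Module Equiv Equiv.Perm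
open Cfsg.Agent.H943.E7V.Block (D1 rho)
open Cfsg.Agent.H952.F4 (ev es MaxAlt)
open Cfsg.Agent.H251.E6 (type_up up_last upP_apply coe_up)

local notation "uu" => Cfsg.Agent.H251.E6.up
open Cfsg.Agent.R2.T1 Cfsg.Agent.R2.T1.T1p Cfsg.Agent.R2.T1.Odd Cfsg.Agent.R2.T1.Art

universe u

variable {F : Type u} [Field F]

/-! ### the group `3²` -/

def gE : List (List (ℕ × ℕ)) := [[(0, 1), (1, 2)], [(5, 6), (6, 7)]]

def eE : List (List ℕ) := [[], [0], [0, 0], [1], [1, 1], [0, 1], [0, 0, 1], [0, 1, 1], [0, 0, 1, 1]]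

def rE : List (List (ℕ × ℕ)) := [[], l3, l33]

def dE : List (ℕ × List (ℕ × ℕ)) :=
  [(0, []), (1, []), (1, [(1, 2), (6, 7)]), (1, [(0, 5), (5, 3), (1, 6), (2, 7)]), (1, [(0, 5), (5, 3), (1, 7), (2, 6)]),
   (2, [(3, 4), (4, 7)]), (2, [(1, 2), (4, 7)]), (2, [(4, 5), (5, 7)]), (2, [(1, 2), (3, 4), (4, 5), (5, 7)])]

theorem chkG_E : chkG 8 gE eE = true := by decide +kernel
theorem chkC_E : chkC 8 gE eE [] rE dE = true := by decide +kernel
theorem len_E : eE.length = 9 := by decide +kernel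
theorem cnt_E : (List.range 3).map (fun k => (dE.map Prod.fst).count k) = [1, 4, 4] := by decide +kernel

/-- the standard 3-cycle -/
def x3 : A8 := ⟨c[(0 : Fin 8), 1, 2], by rw [mem_alternatingGroup]; decide +kernel⟩

theorem P_g0 : P 8 [(0, 1), (1, 2)] = x3 := by
  apply Subtype.ext
  rw [coe_P (m := 8) le_rfl (by decide)]
  decide +kernel

theorem P_g1 : P 8 [(5, 6), (6, 7)] = c3 := by
  apply Subtype.ext
  rw [coe_P (m := 8) le_rfl (by decide)]
  decide +kernel

theorem finrank_E [Finite F] (h2 : (2 : F) = 0) {ψ : A8 →* Gh F}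
    (h3 : ∀ a : A8, (a : Perm (Fin 8)).cycleType = {3} → ev (V F (ψ a)) 1 = 32)
    (h33 : ∀ a : A8, (a : Perm (Fin 8)).cycleType = {3, 3} → ev (V F (ψ a)) 1 = 20) :
    finrank F ↥(inv ((V F).comp ψ : Representation F A8 (D1 → F)) (Tg 8 gE)) = 16 := by
  have h3F : (3 : F) ≠ 0 := by
    intro h
    have : (1 : F) = 0 := by linear_combination h - h2
    exact one_ne_zero this
  have hN : ((9 : ℕ) : F) ≠ 0 := by
    have : ((9 : ℕ) : F) = 3 * 3 := by norm_num
    rw [this]
    exact mul_ne_zero h3F h3F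
  have h := dimC (n := 8) (m := 8) le_rfl chkG_E chkC_E len_E (by rfl : rE.length = 3) hN cnt_E
    ((V F).comp ψ : Representation F A8 (D1 → F))
  simp only [Finset.sum_range_succ, Finset.sum_range_zero, zero_add, rE, List.getD_cons_zero, List.getD_cons_succ, P_nil] at h
  have o3 : orderOf (P 8 l3) = 3 := orderOf_P (m := 8) le_rfl (by decide +kernel)
  have o33 : orderOf (P 8 l33) = 3 := orderOf_P (m := 8) le_rfl (by decide +kernel)
  have t3 : ((P 8 l3 : A8) : Perm (Fin 8)).cycleType = {3} := by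
    rw [coe_P (m := 8) le_rfl (by decide)]
    decide +kernel
  have t33 : ((P 8 l33 : A8) : Perm (Fin 8)).cycleType = {3, 3} := by
    rw [coe_P (m := 8) le_rfl (by decide)]
    decide +kernel
  have e3 : ev (((V F).comp ψ : Representation F A8 (D1 → F)) (P 8 l3)) 1 = 32 := h3 _ t3
  have e33 : ev (((V F).comp ψ : Representation F A8 (D1 → F)) (P 8 l33)) 1 = 20 := h33 _ t33
  rw [om_one, om_prime _ Nat.prime_three o3, om_prime _ Nat.prime_three o33, e3, e33, finrank_V] at h
  norm_num at h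
  have h5 : (finrank F ↥(inv ((V F).comp ψ : Representation F A8 (D1 → F)) (Tg 8 gE)) : ℚ) = 16 := by linarith only [h]
  exact_mod_cast h5

/-! ### the action of `A_5` on the fixed space of the 3-cycle -/

/-- the embedding of `A_5` -/
def e5 : ↥(alternatingGroup (Fin 5)) →* A8 := Cfsg.Agent.H251.E6.up.comp (Cfsg.Agent.H251.E6.up.comp Cfsg.Agent.H251.E6.up)

theorem e5_fix (a : ↥(alternatingGroup (Fin 5))) : (e5 a : Perm (Fin 8)) 5 = 5 ∧ (e5 a : Perm (Fin 8)) 6 = 6 ∧
    (e5 a : Perm (Fin 8)) 7 = 7 := by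
  have h7 : (e5 a : Perm (Fin 8)) (Fin.last 7) = Fin.last 7 := up_last _
  have h6 : (e5 a : Perm (Fin 8)) (Fin.last 6).castSucc = (Fin.last 6).castSucc := by
    show ((uu (uu (uu a)) : ↥(alternatingGroup (Fin 8))) : Perm (Fin 8)) _ = _
    rw [coe_up, upP_apply, up_last]
  have h5 : (e5 a : Perm (Fin 8)) (Fin.last 5).castSucc.castSucc = (Fin.last 5).castSucc.castSucc := by
    show ((uu (uu (uu a)) : ↥(alternatingGroup (Fin 8))) : Perm (Fin 8)) _ = _
    rw [coe_up, upP_apply, coe_up, upP_apply, up_last]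
  exact ⟨h5, h6, h7⟩

theorem e5_surj {a : A8} (h5 : (a : Perm (Fin 8)) 5 = 5) (h6 : (a : Perm (Fin 8)) 6 = 6) (h7 : (a : Perm (Fin 8)) 7 = 7) :
    ∃ b, e5 b = a := by
  obtain ⟨b, rfl⟩ := exists_up (a := a) h7
  have hb : (b : Perm (Fin 7)) (Fin.last 6) = Fin.last 6 := by
    have h8 : ((uu b : ↥(alternatingGroup (Fin 8))) : Perm (Fin 8)) (Fin.last 6).castSucc = (Fin.last 6).castSucc := h6
    rw [coe_up, upP_apply] at h8
    exact Fin.castSucc_injective _ h8
  obtain ⟨c, rfl⟩ := exists_up (a := b) hb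
  have hc : (c : Perm (Fin 6)) (Fin.last 5) = Fin.last 5 := by
    have h8 : ((uu (uu c) : ↥(alternatingGroup (Fin 8))) : Perm (Fin 8)) (Fin.last 5).castSucc.castSucc =
      (Fin.last 5).castSucc.castSucc := h5
    rw [coe_up, upP_apply, coe_up, upP_apply] at h8
    exact Fin.castSucc_injective _ (Fin.castSucc_injective _ h8)
  obtain ⟨d, rfl⟩ := exists_up (a := c) hc
  exact ⟨d, rfl⟩

theorem disj (a : ↥(alternatingGroup (Fin 5))) : _root_.Equiv.Perm.Disjoint (e5 a : Perm (Fin 8)) (c3 : Perm (Fin 8)) := by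
  obtain ⟨h5, h6, h7⟩ := e5_fix a
  have hc : ∀ x : Fin 8, x ≠ 5 → x ≠ 6 → x ≠ 7 → (c3 : Perm (Fin 8)) x = x := by decide +kernel
  intro x
  by_cases h : x = 5
  · exact Or.inl (by rw [h, h5])
  by_cases h' : x = 6
  · exact Or.inl (by rw [h', h6])
  by_cases h'' : x = 7
  · exact Or.inl (by rw [h'', h7])
  exact Or.inr (hc x h h' h'')

theorem comm5 (a : ↥(alternatingGroup (Fin 5))) : e5 a * c3 = c3 * e5 a := Subtype.ext (disj a).commute.eq

theorem type_e5 (a : ↥(alternatingGroup (Fin 5))) : (e5 a : Perm (Fin 8)).cycleType = (a : Perm (Fin 5)).cycleType := by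
  show ((uu (uu (uu a)) : ↥(alternatingGroup (Fin 8))) : Perm (Fin 8)).cycleType = _
  rw [type_up, type_up, type_up]

theorem type_c3 : (c3 : Perm (Fin 8)).cycleType = {3} := by decide +kernel

theorem type_c7 : (c7 : Perm (Fin 8)).cycleType = {7} := by decide +kernel

section N
variable (ψ : A8 →* Gh F)

/-- the fixed space of the 3-cycle -/
noncomputable abbrev N : Submodule F (D1 → F) := es (V F (ψ c3)) 1

variable {ψ}

theorem mem_es {g : A8} {v : D1 → F} : v ∈ es (V F (ψ g)) 1 ↔ V F (ψ g) v = v := by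
  show v ∈ Module.End.eigenspace _ _ ↔ _
  rw [Module.End.mem_eigenspace_iff, one_smul]

variable (ψ)

/-- the representation of `A_5` on `N` -/
noncomputable def rN : Representation F ↥(alternatingGroup (Fin 5)) ↥(N ψ) where
  toFun a := (V F (ψ (e5 a))).restrict (p := N ψ) (q := N ψ) fun v hv => by
    rw [mem_es] at hv ⊢
    rw [← V_mul, ← map_mul, ← comm5, map_mul, V_mul, hv]
  map_one' := by
    refine LinearMap.ext fun v => Subtype.ext ?_
    show V F (ψ (e5 1)) v = v
    rw [map_one, map_one, V_one]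
  map_mul' a b := by
    refine LinearMap.ext fun v => Subtype.ext ?_
    show V F (ψ (e5 (a * b))) v = V F (ψ (e5 a)) (V F (ψ (e5 b)) v)
    rw [map_mul, map_mul, V_mul]

variable {ψ}

theorem ev_rN (a : ↥(alternatingGroup (Fin 5))) {W : Submodule F (D1 → F)}
    (hW : ∀ v, v ∈ W ↔ V F (ψ c3) v = v ∧ V F (ψ (e5 a)) v = v) : ev (rN ψ a) 1 = finrank F ↥W := by
  unfold ev
  have h : W = (Module.End.eigenspace (rN ψ a) 1).map (N ψ).subtype := by
    ext v
    rw [hW, Submodule.mem_map]
    constructor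
    · rintro ⟨h1, h2⟩
      refine ⟨⟨v, mem_es.2 h1⟩, ?_, rfl⟩
      rw [Module.End.mem_eigenspace_iff, one_smul]
      exact Subtype.ext h2
    · rintro ⟨w, hw, rfl⟩
      rw [Module.End.mem_eigenspace_iff, one_smul] at hw
      exact ⟨mem_es.1 w.2, congrArg Subtype.val hw⟩
  rw [h, Submodule.finrank_map_subtype_eq]

theorem sf_nd (h2 : (2 : F) = 0) : ∀ v : ↥(N ψ), (∀ w : ↥(N ψ), sf F v w = 0) → v = 0 := by
  intro v hv
  apply Subtype.ext
  apply sf_nondeg'
  intro w
  have hc : V F (ψ c3) v = v := mem_es.1 v.2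
  have h3 : c3 ^ 3 = 1 := by decide +kernel
  have hc3 : V F (ψ c3) (V F (ψ c3) (V F (ψ c3) w)) = w := by
    rw [← V_mul, ← V_mul, ← map_mul, ← map_mul]
    have : c3 * c3 * c3 = 1 := by rw [← h3]; rfl
    rw [this, map_one, V_one]
  have e1 : sf F (v : D1 → F) (V F (ψ c3) w) = sf F v w := by
    conv_lhs => rw [← hc]
    exact sf_V _ _ _
  have e2 : sf F (v : D1 → F) (V F (ψ c3) (V F (ψ c3) w)) = sf F v w := by
    conv_lhs => rw [← hc]
    rw [sf_V, e1]
  have hm : w + V F (ψ c3) w + V F (ψ c3) (V F (ψ c3) w) ∈ N ψ := by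
    rw [mem_es, map_add, map_add, hc3]
    abel
  have h := hv ⟨_, hm⟩
  change sf F (v : D1 → F) (w + V F (ψ c3) w + V F (ψ c3) (V F (ψ c3) w)) = 0 at h
  rw [map_add, map_add, e1, e2] at h
  linear_combination h - (sf F (v : D1 → F) w) * h2

theorem ev_inv_ge {M : Type*} [AddCommGroup M] [Module F M] [FiniteDimensional F M] (h2 : (2 : F) = 0) (T : Module.End F M)
    (hT : T * T = 1) : finrank F M ≤ 2 * ev T 1 := by
  have h := Cfsg.Agent.H952.F4.Scott.rank_add_ev T
  have hle : LinearMap.range (T - 1) ≤ Module.End.eigenspace T 1 := by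
    rintro _ ⟨v, rfl⟩
    rw [Module.End.mem_eigenspace_iff, one_smul]
    have e : T * (T - 1) = T - 1 := by
      rw [mul_sub, hT, mul_one]
      have : (1 - T) - (T - 1) = 0 := by
        have e2 : (1 - T) - (T - 1) = (2 : F) • (1 - T) := by
          rw [two_smul]; abel
        rw [e2, h2, zero_smul]
      exact sub_eq_zero.1 this
    calc T ((T - 1) v) = (T * (T - 1)) v := rfl
      _ = _ := by rw [e]
  have h1 := Submodule.finrank_mono hle
  have h3 : finrank F ↥(Module.End.eigenspace T 1) = ev T 1 := rfl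
  omega

theorem dim_Y0 [Finite F] (h2 : (2 : F) = 0)
    (h3 : ∀ a : A8, (a : Perm (Fin 8)).cycleType = {3} → ev (V F (ψ a)) 1 = 32)
    (h33 : ∀ a : A8, (a : Perm (Fin 8)).cycleType = {3, 3} → ev (V F (ψ a)) 1 = 20)
    (h53 : ∀ a : A8, (a : Perm (Fin 8)).cycleType = {5, 3} → ev (V F (ψ a)) 1 = 8) : 4 ≤ finrank F (Y0 ψ) := by
  obtain ⟨x, y, hgen, hx, hy, hxy⟩ := Cfsg.Agent.H952.F4.Gen.gen5
  let B : ↥(N ψ) →ₗ[F] ↥(N ψ) →ₗ[F] F := (sf F).domRestrict₁₂ (N ψ) (N ψ)
  have h := Cfsg.Agent.H952.F4.Scott.scott_form (rN ψ) hgen B (fun v hv => sf_nd h2 v fun w => hv w)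
    (fun g v w => (sf_V (ψ (e5 g)) (v : D1 → F) w :))
  have hN : finrank F ↥(N ψ) = 32 := h3 c3 type_c3
  -- the involution
  have h1 : 32 ≤ 2 * ev (rN ψ x) 1 := by
    rw [← hN]
    apply ev_inv_ge h2
    rw [← map_mul]
    have : x * x = 1 := by
      have h6 : orderOf (x : Perm (Fin 5)) = 2 := by
        rw [← Perm.lcm_cycleType, hx]; decide
      apply Subtype.ext
      have h7 := pow_orderOf_eq_one (x : Perm (Fin 5))
      rw [h6, pow_two] at h7
      exact h7
    rw [this, map_one]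
  -- the 3-cycle
  have h4 : ev (rN ψ y) 1 = 16 := by
    let y0 : ↥(alternatingGroup (Fin 5)) := ⟨c[0, 1, 2], by rw [mem_alternatingGroup]; decide +kernel⟩
    have hc : IsConj y0 y := by
      apply alternatingGroup.isConj_of
      · rw [Perm.isConj_iff_cycleType_eq, hy]
        show (c[0, 1, 2] : Perm (Fin 5)).cycleType = _
        decide +kernel
      · show (c[0, 1, 2] : Perm (Fin 5)).support.card + 2 ≤ _
        decide +kernel
    obtain ⟨c, rfl⟩ := isConj_iff.1 hc
    rw [Cfsg.Agent.H944.E6T.ev_conj, ← finrank_E h2 h3 h33]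
    apply ev_rN
    intro v
    have hx3 : e5 y0 = x3 := by decide +kernel
    rw [hx3, Tg, mem_inv_closure]
    constructor
    · intro hv
      refine ⟨?_, ?_⟩
      · rw [← P_g1]
        exact hv _ ⟨_, by simp [gE], rfl⟩
      · rw [← P_g0]
        exact hv _ ⟨_, by simp [gE], rfl⟩
    · rintro ⟨hv1, hv2⟩ g ⟨l, hl, rfl⟩
      simp only [gE, List.mem_cons, List.not_mem_nil, or_false] at hl
      rcases hl with rfl | rfl
      · rw [P_g0]; exact hv2
      · rw [P_g1]; exact hv1
  -- the 5-cycle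
  have h5 : ev (rN ψ (x * y)) 1 = 8 := by
    set z := x * y with hz
    have hz5 : e5 z ^ 5 = 1 := by
      have h6 : orderOf (z : Perm (Fin 5)) = 5 := by
        rw [← Perm.lcm_cycleType, hxy]; decide
      have h8 := pow_orderOf_eq_one (z : Perm (Fin 5))
      rw [h6] at h8
      have h7 : z ^ 5 = 1 := Subtype.ext h8
      rw [← map_pow, h7, map_one]
    have hc3 : c3 ^ 3 = 1 := by decide +kernel
    have hcomm : Commute (e5 z) c3 := comm5 z
    have ht : ((e5 z * c3 : A8) : Perm (Fin 8)).cycleType = {5, 3} := by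
      show ((e5 z : Perm (Fin 8)) * (c3 : Perm (Fin 8))).cycleType = _
      rw [(disj z).cycleType_mul, type_e5, hxy, type_c3]
      rfl
    rw [← h53 _ ht]
    apply ev_rN
    intro v
    rw [show (v ∈ Module.End.eigenspace (V F (ψ (e5 z * c3))) 1 ↔ V F (ψ (e5 z * c3)) v = v) from mem_es]
    constructor
    · intro hv
      have hpow : ∀ n : ℕ, V F (ψ ((e5 z * c3) ^ n)) v = v := by
        intro n
        induction n with
        | zero => rw [pow_zero, map_one, V_one]
        | succ n ih => rw [pow_succ, map_mul, V_mul, hv, ih]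
      have h10 := hpow 10
      have h6 := hpow 6
      rw [hcomm.mul_pow] at h10 h6
      have e1 : e5 z ^ 10 = 1 := by rw [show (10 : ℕ) = 5 * 2 by norm_num, pow_mul, hz5, one_pow]
      have e2 : c3 ^ 10 = c3 := by decide +kernel
      have e3 : e5 z ^ 6 = e5 z := by rw [show (6 : ℕ) = 5 + 1 by norm_num, pow_succ, hz5, one_mul]
      have e4 : c3 ^ 6 = 1 := by decide +kernel
      rw [e1, e2, one_mul] at h10
      rw [e3, e4, mul_one] at h6
      exact ⟨h10, h6⟩
    · rintro ⟨hv1, hv2⟩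
      rw [map_mul, V_mul, hv1, hv2]
  rw [h4, h5, hN] at h
  have hle : (rN ψ).invariants.map (N ψ).subtype ≤ Y0 ψ := by
    rintro _ ⟨v, hv, rfl⟩
    refine ⟨mem_es.1 v.2, fun a a5 a6 a7 => ?_⟩
    obtain ⟨b, rfl⟩ := e5_surj a5 a6 a7
    exact congrArg Subtype.val ((Representation.mem_invariants (ρ := rN ψ) v).1 hv b)
  have h6 := Submodule.finrank_mono hle
  rw [Submodule.finrank_map_subtype_eq] at h6
  omega

/-- **the ghost pattern is impossible** -/
theorem false_of [Finite F] (h2 : (2 : F) = 0) (ψ : A8 →* Gh F)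
    (h3 : ∀ a : A8, (a : Perm (Fin 8)).cycleType = {3} → ev (V F (ψ a)) 1 = 32)
    (h33 : ∀ a : A8, (a : Perm (Fin 8)).cycleType = {3, 3} → ev (V F (ψ a)) 1 = 20)
    (h7 : ∀ a : A8, (a : Perm (Fin 8)).cycleType = {7} → ev (V F (ψ a)) 1 = 2)
    (h53 : ∀ a : A8, (a : Perm (Fin 8)).cycleType = {5, 3} → ev (V F (ψ a)) 1 = 8) : False := by
  have h1 := dim_Y0 (ψ := ψ) h2 h3 h33 h53
  have h4 := dim_Y0_le (ψ := ψ) h2
  rw [h7 c7 type_c7] at h4
  omega

end N

end Cfsg.Agent.R2.T1.T1x
end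

private theorem dce_1642b0525f8a : _root_.True := by
  try have : _root_.True := by simp only [_root_.Cfsg.Agent.R2.T1.T1x.rE.eq_1]
  try have : _root_.True := by simp only [_root_.Cfsg.Agent.R2.T1.Odd.Tg.eq_1]
  try have : _root_.True := by simp only [_root_.Cfsg.Agent.R2.T1.T1x.gE.eq_1]
  exact _root_.True.intro
end
end
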